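import Groth.Agent.Duality.SheafHom
import Groth.Agent.Ega2Proj.TwistPow
import Groth.Agent.PnCoh.GlobalFun
import Groth.Agent.PnCoh.Cohomology

/-!
# The internal Hom out of an invertible module is a twist
-/

set_option autoImplicit false

universe u

open CategoryTheory CategoryTheory.Limits AlgebraicGeometry Opposite

noncomputable section

namespace Groth.Duality.SheafHom

open Groth.CohTwo.SheafHomIso
open Groth.PicAux (tmulSec tensor_hom_ext exists_braiding)

variable {X : Scheme.{u}}

/-- `- ⊗ L ≅ L ⊗ -`. -/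
def rightIsoLeft (L : X.Modules) : DCoh.tensorRightMod L ≅ tF L :=
  NatIso.ofComponents (fun G => (exists_braiding G L).choose) fun {G G'} φ =>
    tensor_hom_ext (L := G) (M := L) fun W a b => by
      refine (congrArg ((exists_braiding G' L).choose.hom.app W)
        (PicAux.tensorRightMod_map_tmulSec L φ W a b)).trans ?_
      refine ((exists_braiding G' L).choose_spec W (φ.app W a) b).trans ?_
      refine Eq.trans ?_ (congrArg (((tF L).map φ).app W)
        ((exists_braiding G L).choose_spec W a b)).symm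
      exact (tF_map_tmulSec φ W b a).symm

/-- For `L ⊗ M = O`, `Hom(L, -) = - ⊗ M`. -/
def sheafHomIsoTensor {L M : X.Modules} (h : ClSub.IsInverseOf L M) [DCoh.HasSheafHom L] :
    DCoh.sheafHom L ≅ DCoh.tensorRightMod M :=
  Adjunction.rightAdjointUniq (DCoh.sheafHomAdj L)
    ((PicAux.twistEquiv h).toAdjunction.ofNatIsoLeft (rightIsoLeft L))

end Groth.Duality.SheafHom

namespace Groth.Duality.Pn

open Groth.PnCoh

variable (n : ℕ) (R : Type u) [CommRing R]

theorem irrelevant_le_span_one :
    (HomogeneousIdeal.irrelevant (CohB1.polyGrading n R)).toIdeal ≤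
      Ideal.span (CohB1.polyGrading n R 1 : Set (MvPolynomial (Fin (n + 1)) R)) :=
  (irrelevant_le_span_X n R).trans (Ideal.span_mono (by
    rintro _ ⟨i, rfl⟩
    exact (MvPolynomial.mem_homogeneousSubmodule _ _).mpr (MvPolynomial.isHomogeneous_X R i.down)))

theorem nonempty_twist_tensor (a b : ℤ) :
    Nonempty (CohB1.tensorMod (Twist.twistProjSpace n R a) (Twist.twistProjSpace n R b) ≅
      Twist.twistProjSpace n R (a + b)) :=
  Ega2Proj.nonempty_tensor_iso (irrelevant_le_span_one n R) a b

theorem nonempty_twist_zero_iso' :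
    Nonempty (Twist.twistProjSpace n R 0 ≅ Coh.structureModule (CohB1.ProjSpace n R)) :=
  PnCoh.nonempty_twist_zero_iso (CohB1.polyGrading n R)

theorem isInverseOf_twist (d : ℤ) :
    ClSub.IsInverseOf (Twist.twistProjSpace n R d) (Twist.twistProjSpace n R (-d)) := by
  obtain ⟨e⟩ := nonempty_twist_tensor n R d (-d)
  obtain ⟨e₀⟩ := nonempty_twist_zero_iso' n R
  exact ⟨e ≪≫ eqToIso (congrArg (Twist.twistProjSpace n R) (add_neg_cancel d)) ≪≫ e₀⟩

/-- `Hom(O(d), O(b)) = O(b - d)`. -/
theorem nonempty_sheafHom_twist_iso (d b : ℤ) [DCoh.HasSheafHom (Twist.twistProjSpace n R d)] :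
    Nonempty ((DCoh.sheafHom (Twist.twistProjSpace n R d)).obj (Twist.twistProjSpace n R b) ≅
      Twist.twistProjSpace n R (b - d)) := by
  obtain ⟨e⟩ := nonempty_twist_tensor n R b (-d)
  exact ⟨(SheafHom.sheafHomIsoTensor (isInverseOf_twist n R d)).app _ ≪≫ e⟩

end Groth.Duality.Pn
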