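import Groth.Agent.Variety2.ProjDim
import Groth.Agent.Variety2.DimScheme
import Groth.Agent.Variety2.GenSmooth
import Groth.Agent.Agf.RegularPoints
import Groth.Agent.PnCoh.OverAffine
import Groth.Agent.Misc13.ProjFactor

/-!
# The local rings of projective space over a field
-/

set_option autoImplicit false

universe u

open CategoryTheory AlgebraicGeometry TopologicalSpace

namespace Groth.Duality.Pn

variable (n : ℕ) (k : Type u) [Field k]

/-- Projective space is smooth over its base. -/
theorem smooth_toSpec : Smooth (CohB1.ProjSpace.toSpec n k) := by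
  have := Misc13.ProjFactor.smooth_projSpaceOver_toBase n (Spec (CommRingCat.of k))
  rw [← PnCoh.overIso_hom_toBase]
  infer_instance

/-- The local rings of projective space are regular. -/
theorem isRegularLocalRing_stalk (x : CohB1.ProjSpace n k) :
    IsRegularLocalRing ((CohB1.ProjSpace n k).presheaf.stalk x) := by
  have := smooth_toSpec n k
  let _ : Field ((Spec (CommRingCat.of k)).presheaf.stalk (CohB1.ProjSpace.toSpec n k x)) :=
    (Variety2.isField_stalk (Subsingleton.elim (α := PrimeSpectrum k) _ _)).toField
  have : IsRegularLocalRing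
      ((Spec (CommRingCat.of k)).presheaf.stalk (CohB1.ProjSpace.toSpec n k x)) := inferInstance
  exact Agf.RegularPoints.isRegularLocalRing_stalk_of_smooth (CohB1.ProjSpace.toSpec n k) x

/-- Projective space is irreducible. -/
theorem irreducibleSpace_projSpace : IrreducibleSpace ↥(CohB1.ProjSpace n k) := by
  have h : (Set.univ : Set ↥(CohB1.ProjSpace n k)) =
      closure {(Variety2.PSpace.eta n k : ↥(CohB1.ProjSpace n k))} :=
    (Set.eq_univ_of_forall fun x =>
      specializes_iff_mem_closure.mp (Variety2.PSpace.eta_specializes x)).symm
  have : PreirreducibleSpace ↥(CohB1.ProjSpace n k) :=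
    ⟨by rw [h]; exact isIrreducible_singleton.closure.isPreirreducible⟩
  exact { toNonempty := ⟨Variety2.PSpace.eta n k⟩ }

/-- The local ring at a closed point has dimension `n`. -/
theorem ringKrullDim_stalk {x : CohB1.ProjSpace n k} (hx : IsClosed ({x} : Set (CohB1.ProjSpace n k))) :
    ringKrullDim ((CohB1.ProjSpace n k).presheaf.stalk x) = n := by
  have := irreducibleSpace_projSpace n k
  have h := Variety2.Dim.ringKrullDim_stalk_add_height (CohB1.ProjSpace.toSpec n k) x
  rw [Variety2.PSpace.dim_projSpace] at h
  have h0 : Order.height x = 0 := (Variety2.PSpace.ht_eq_zero_iff x).mpr hx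
  rw [h0] at h
  simpa using h

end Groth.Duality.Pn
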