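import Groth.Agent.Duality.SmoothDual
import Groth.Agent.OmegaSheaf.EtalePull
import Groth.Agent.SheafExt.Restrict
import Groth.Agent.SheafExt.Coherent
import Groth.Agent.LocFree.ExtPullback
import Groth.Agent.LocFree.ExtFunctor
import Groth.Agent.DescentBase.DimEtale
import Groth.Agent.OmegaSheaf.SmoothRank
import Groth.Agent.CurveDiv.HilbProper

/-!
# The dualizing sheaf on a smooth open part is the sheaf of top forms
-/

set_option autoImplicit false
set_option linter.style.haveILetI false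

universe u

open CategoryTheory CategoryTheory.Limits AlgebraicGeometry TopologicalSpace

noncomputable section

namespace Groth.Duality.RestrictDual

/-- Direct image commutes with restriction to an open of the base. -/
theorem nonempty_push_restrict_iso {X P : Scheme.{u}} (ι : X ⟶ P) (V : P.Opens) (M : X.Modules) :
    Nonempty (((Scheme.Modules.pushforward ι).obj M).restrict V.ι ≅
      (Scheme.Modules.pushforward (ι ∣_ V)).obj (M.restrict (ι ⁻¹ᵁ V).ι)) := by
  let c : ((Scheme.Modules.pushforward ι).obj M).restrict V.ι ⟶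
      (Scheme.Modules.pushforward (ι ∣_ V)).obj (M.restrict (ι ⁻¹ᵁ V).ι) :=
    (Scheme.Modules.restrictFunctor V.ι).map
      ((Scheme.Modules.pushforward ι).map ((Scheme.Modules.restrictAdjunction (ι ⁻¹ᵁ V).ι).unit.app M) ≫
        (Scheme.Modules.pushforwardComp (ι ⁻¹ᵁ V).ι ι).hom.app _ ≫
        (Scheme.Modules.pushforwardCongr (morphismRestrict_ι ι V).symm).hom.app _ ≫
        (Scheme.Modules.pushforwardComp (ι ∣_ V) V.ι).inv.app _) ≫
      (Scheme.Modules.restrictAdjunction V.ι).counit.app _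
  have : IsIso c := by
    rw [Scheme.Modules.Hom.isIso_iff_isIso_app]
    intro O
    simp only [c, Functor.map_comp, Scheme.Modules.Hom.comp_app]
    refine IsIso.comp_isIso' (IsIso.comp_isIso' ?_ (IsIso.comp_isIso' inferInstance
      (IsIso.comp_isIso' inferInstance inferInstance))) inferInstance
    change IsIso (((Scheme.Modules.restrictAdjunction (ι ⁻¹ᵁ V).ι).unit.app M).app (ι ⁻¹ᵁ (V.ι ''ᵁ O)))
    rw [Scheme.Modules.restrictAdjunction_unit_app_app]
    have hge : ι ⁻¹ᵁ (V.ι ''ᵁ O) ≤ (ι ⁻¹ᵁ V).ι ''ᵁ ((ι ⁻¹ᵁ V).ι ⁻¹ᵁ (ι ⁻¹ᵁ (V.ι ''ᵁ O))) := by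
      rw [Scheme.Hom.image_preimage_eq_opensRange_inf, Scheme.Opens.opensRange_ι]
      exact le_inf (ι.preimage_mono (by simpa using V.ι.image_mono (le_top : O ≤ ⊤))) le_rfl
    have gen : ∀ {A B : X.Opens} (h : A ⟶ B), B ≤ A → IsIso (M.presheaf.map h.op) := fun h h' =>
      haveI : IsIso h := ⟨homOfLE h', Subsingleton.elim _ _, Subsingleton.elim _ _⟩
      inferInstance
    exact gen _ hge
  exact ⟨asIso c⟩

variable {k : Type u} [Field k]

/-- Differentials of a smooth scheme over a field of constant local dimension `r`. -/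
theorem isFinLocFreeOfRank_omega {X : Scheme.{u}} (f : X ⟶ Spec (CommRingCat.of k)) [Smooth f]
    [QuasiSeparated f] (r : ℕ) (hd : ∀ x : X, FlatMor.localDim X x = (r : WithBot ℕ∞)) :
    FlatMod.IsFinLocFreeOfRank r (Omega.sheaf f) := fun x => by
  haveI : LocallyOfFinitePresentation f := inferInstance
  obtain ⟨U, n, hxU, ⟨e⟩, hn⟩ := Groth.OmegaSheaf.exists_free_of_mem_smoothLocus
    (Groth.OmegaSheaf.isUniversal_dOmega f) (x := x) (by rw [f.smoothLocus_eq_top]; trivial)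
  rw [Groth.Curves1.CurveMor.localDim_eq_fibreDimAt f x, hd x] at hn
  obtain rfl : r = n := by exact_mod_cast hn
  exact ⟨U, hxU, ⟨e⟩⟩

variable {N r : ℕ} {X : Scheme.{u}} (ι : X ⟶ CohB1.ProjSpace N k) [IsClosedImmersion ι]

/-- Where `X` is smooth of dimension `r`, the sheaf `Ext^{N-r}(O_X, ω_P)` is `Ω^r`. -/
theorem nonempty_restrict_iso (V : (CohB1.ProjSpace N k).Opens)
    (f : (ι ⁻¹ᵁ V : Scheme.{u}) ⟶ Spec (CommRingCat.of k)) [Smooth f] [QuasiSeparated f]
    (hf' : (ι ⁻¹ᵁ V).ι ≫ ι ≫ CohB1.ProjSpace.toSpec N k = f)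
    (hf : FlatMod.IsFinLocFreeOfRank r (Omega.sheaf f))
    [ModSite.HasSheafHom (O := (CohB1.ProjSpace N k).sheaf)
      ((Scheme.Modules.pushforward ι).obj (Coh.structureModule X))]
    [HasInjectiveResolutions (ModSite.Mod (CohB1.ProjSpace N k).sheaf)]
    (ω : X.Modules)
    (hω : Nonempty ((Scheme.Modules.pushforward ι).obj ω ≅
      (ModSite.extSh (O := (CohB1.ProjSpace N k).sheaf)
        ((Scheme.Modules.pushforward ι).obj (Coh.structureModule X)) (N - r)).obj (Pn.omega k N)))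
    (W : (ι ⁻¹ᵁ V : Scheme.{u}).Modules) (hW : ExtPow.IsExtPow r (Omega.sheaf f) W) :
    Nonempty (ω.restrict (ι ⁻¹ᵁ V).ι ≅ W) := by
  haveI := Groth.PnCoh.isLocallyNoetherian_projSpace N k
  haveI := Pn.smooth_toSpec N k
  haveI : QuasiSeparated (CohB1.ProjSpace.toSpec N k) := inferInstance
  let g : (V : Scheme.{u}) ⟶ Spec (CommRingCat.of k) := V.ι ≫ CohB1.ProjSpace.toSpec N k
  haveI : IsLocallyNoetherian (V : Scheme.{u}) := LocallyOfFiniteType.isLocallyNoetherian V.ι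
  haveI : Smooth g := inferInstance
  haveI : QuasiSeparated g := inferInstance
  have hiV : (ι ∣_ V) ≫ g = f := by
    rw [← hf', ← Category.assoc, morphismRestrict_ι, Category.assoc]
  obtain ⟨eΩ⟩ := Groth.OmegaSheaf.nonempty_pullback_iso_of_etale (h := V.ι)
    (g := 𝟙 (Spec (CommRingCat.of k))) (f' := g) (show V.ι ≫ CohB1.ProjSpace.toSpec N k = g ≫ 𝟙 _ from
      (Category.comp_id g).symm) (Groth.OmegaSheaf.isUniversal_dOmega _) (Groth.OmegaSheaf.isUniversal_dOmega g)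
  have hP := Groth.PnEuler.isFinLocFreeOfRank_omega (n := N) (R := k)
  haveI := Groth.PnEuler.isQCoh_omega (n := N) (R := k)
  have hg : FlatMod.IsFinLocFreeOfRank N (Omega.sheaf g) :=
    Groth.LocFree.isFinLocFreeOfRank_of_iso eΩ (Groth.LocFree.isFinLocFreeOfRank_pullback V.ι hP)
  haveI : ((Scheme.Modules.pullback V.ι).obj (Omega.sheaf (CohB1.ProjSpace.toSpec N k))).IsQuasicoherent :=
    QCohMod.isQCoh_pullback_obj V.ι _
  have hΩV : ExtPow.IsExtPow N (Omega.sheaf g) ((Pn.omega k N).restrict V.ι) :=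
    Groth.LocFree.isExtPow_of_iso ((Scheme.Modules.restrictFunctorIsoPullback V.ι).app _).symm
      (Groth.LocFree.isExtPow_of_iso_left _ eΩ
        (Groth.LocFree.isExtPow_pullback V.ι SmoothDual.isExtPow_omega))
  have hcod := FundLocal.isRegularImmersionOfCodim g f (ι ∣_ V) N r hg hf hiV
  haveI : DCoh.HasSheafHom (Groth.LocFree.extPow (N - r) (Omega.conormal (ι ∣_ V))) :=
    CohTwo.LocFreeExt.hasSheafHom _
  haveI : ModSite.HasSheafHom (O := (V : Scheme.{u}).sheaf) (FundLocal.pushO (ι ∣_ V)) :=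
    Groth.SitesTopoi.ModH.hasSheafHom _
  haveI : ModSite.HasSheafHom (O := (V : Scheme.{u}).sheaf)
      (((Scheme.Modules.pushforward ι).obj (Coh.structureModule X)).restrict V.ι) :=
    Groth.SitesTopoi.ModH.hasSheafHom _
  haveI : HasInjectiveResolutions (ModSite.Mod (V : Scheme.{u}).sheaf) :=
    inferInstanceAs (HasInjectiveResolutions (V : Scheme.{u}).Modules)
  haveI : ((Pn.omega k N).restrict V.ι).IsQuasicoherent :=
    Groth.LocFree.isQCoh_of_isExtPow hΩV
  obtain ⟨e⟩ := FundLocal.nonempty_extSh_iso (ι ∣_ V) hcod ((Pn.omega k N).restrict V.ι)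
  obtain ⟨e'⟩ := FundLocal.nonempty_hom_topForms_iso g f (ι ∣_ V) N r hg hf hiV _ hΩV W hW
  obtain ⟨eω⟩ := hω
  obtain ⟨r₀⟩ := SheafExt.nonempty_extSh_restrict V.ι
    ((Scheme.Modules.pushforward ι).obj (Coh.structureModule X)) (Pn.omega k N) (N - r)
  obtain ⟨p₀⟩ := nonempty_push_restrict_iso ι V (Coh.structureModule X)
  obtain ⟨p₁⟩ := nonempty_push_restrict_iso ι V ω
  obtain ⟨cg⟩ := SheafExt.nonempty_extSh_congr (F' := FundLocal.pushO (ι ∣_ V))
    (p₀ ≪≫ (Scheme.Modules.pushforward (ι ∣_ V)).mapIso (Scheme.Modules.restrictUnitIso (ι ⁻¹ᵁ V).ι))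
    (N - r) ((Pn.omega k N).restrict V.ι)
  let total : (Scheme.Modules.pushforward (ι ∣_ V)).obj (ω.restrict (ι ⁻¹ᵁ V).ι) ≅
      (Scheme.Modules.pushforward (ι ∣_ V)).obj W :=
    p₁.symm ≪≫ (Scheme.Modules.restrictFunctor V.ι).mapIso eω ≪≫ r₀ ≪≫ cg ≪≫ e ≪≫
      (Scheme.Modules.pushforward (ι ∣_ V)).mapIso e'
  let cu := asIso (Scheme.Modules.pullbackPushforwardAdjunction (ι ∣_ V)).counit
  exact ⟨(cu.app _).symm ≪≫ (Scheme.Modules.pullback (ι ∣_ V)).mapIso total ≪≫ cu.app W⟩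

end Groth.Duality.RestrictDual
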