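import Groth.Agent.CohTwo.SheafHomIso
import Groth.Agent.CohTwo.TensorBelow
import Groth.Agent.VectorBundles.RefHullStalk
import Groth.Agent.KTheory.LocFree
import Groth.Agent.SiteCohomology.Flasque
import Groth.Agent.EulerDeg.HLinear
import Groth.Agent.PicAux.Powers
import Groth.Prelude.Def_KLin

/-!
# The internal Hom out of a finite locally free module

Existence, exactness, acyclicity of injectives, and `Hom(P, M) = H⁰(X, Hom(P, M))`.
-/

set_option autoImplicit false

universe u

open CategoryTheory CategoryTheory.Limits AlgebraicGeometry Opposite TopologicalSpace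

noncomputable section

namespace Groth.Duality.SheafHom

open Groth.CohTwo.SheafHomIso
open Groth.PicAux (tmulSec tensor_hom_ext)

variable {X : Scheme.{u}}

/-- Currying, as a bijection. -/
def curryEquiv (F H G : X.Modules) : ((tF F).obj H ⟶ G) ≃ (H ⟶ RefHull.homSh F G) where
  toFun β := toHomSh β
  invFun γ := (tF F).map γ ≫ evalHom F G
  left_inv β := map_toHomSh_eval β
  right_inv γ := by
    change toHomSh ((tF F).map γ ≫ evalHom F G) = γ
    rw [toHomSh_comp, toHomSh_eval, Category.comp_id]

/-- The internal Hom exists. -/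
theorem hasSheafHom (F : X.Modules) : DCoh.HasSheafHom F :=
  (Adjunction.adjunctionOfEquivRight (curryEquiv F) (fun H' H G g β =>
    toHomSh_comp g β)).isLeftAdjoint

variable (P : X.Modules) [DCoh.HasSheafHom P]

/-- Evaluation of a section of the internal Hom. -/
def evSec {G : X.Modules} {W : X.Opens} (h : Γ((DCoh.sheafHom P).obj G, W)) (m : Γ(P, W)) :
    Γ(G, W) :=
  (ev P G).app W (tmulSec m h)

theorem evSec_map {M N : X.Modules} (p : M ⟶ N) {W : X.Opens}
    (h : Γ((DCoh.sheafHom P).obj M, W)) (m : Γ(P, W)) :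
    evSec P (((DCoh.sheafHom P).map p).app W h) m = p.app W (evSec P h m) := by
  have e : (tF P).map ((DCoh.sheafHom P).map p) ≫ ev P N = ev P M ≫ p :=
    (DCoh.sheafHomAdj P).counit.naturality p
  exact (congrArg ((ev P N).app W) (tF_map_tmulSec ((DCoh.sheafHom P).map p) W m h)).symm.trans
    (congrArg (fun φ => Scheme.Modules.Hom.app φ W (tmulSec m h)) e)

theorem iso_hom_val {G : X.Modules} {W : X.Opens} (h : Γ((DCoh.sheafHom P).obj G, W)) {y : X}
    (hy : y ∈ W) (m : Γ(P, W)) :
    ((iso P G).hom.app W h).1 ⟨y, hy⟩ (QCohMod.germ P y hy m) = QCohMod.germ G y hy (evSec P h m) := by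
  rw [iso_hom_app, currySec_val]
  exact curryStalk_germ (ev P G) hy m h

/-- A basis spans every stalk and has no relations. -/
theorem spans_rels_of_basis {M : X.Modules} {U : X.Opens} {n : ℕ} {s : Fin n → Γ(M, U)}
    (hs : PicAux.Basis' M U s) :
    VectorBundles.RefHullStalk.Spans M (fun i : ULift.{u} (Fin n) => s i.down) ∧
      VectorBundles.RefHullStalk.Rels M (fun i : ULift.{u} (Fin n) => s i.down)
        (fun j : PEmpty.{u + 1} => PEmpty.elim j) := by
  classical
  refine ⟨fun y hy => top_le_iff.mp fun v _ => ?_, fun j => j.elim, fun y hy c hc => ?_⟩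
  · obtain ⟨V, hyV, m, rfl⟩ := QCohMod.exists_germ M y v
    have hy' : y ∈ U ⊓ V := ⟨hy, hyV⟩
    obtain ⟨r, hr⟩ := (hs (U ⊓ V) inf_le_left).2 (PicAux.res M inf_le_right m)
    have e := congrArg (QCohMod.germ M y hy') hr
    simp only [map_sum] at e
    have e' : QCohMod.germ M y hy' (PicAux.res M inf_le_right m) = QCohMod.germ M y hyV m := by
      rw [← KTheory.LocFree.qres_eq]
      exact QCohMod.germ_res M inf_le_right y hy' m
    rw [← e', ← e]
    refine Submodule.sum_mem _ fun i _ => ?_
    rw [QCohMod.germ_smul, ← KTheory.LocFree.qres_eq, QCohMod.germ_res]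
    exact Submodule.smul_mem _ _ (Submodule.subset_span ⟨⟨i⟩, rfl⟩)
  · have hc' : ∑ i : Fin n, c ⟨i⟩ • QCohMod.germ M y hy (s i) = 0 := by
      rw [← hc]
      exact Fintype.sum_equiv Equiv.ulift.symm _ _ (fun i => rfl)
    choose V hyV q hq using fun i => TopCat.Presheaf.exists_germ_eq X.presheaf (c ⟨i⟩)
    obtain ⟨W, hyW, hWU, hWV⟩ := VectorBundles.RefHullStalk.exists_open_forall (ι := Fin n) hy
      (fun i W => W ≤ V i) (fun i W W' h h' => h.trans h') (fun i => ⟨V i, hyV i, le_rfl⟩)
    have h0 : QCohMod.germ M y hyW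
        (∑ i, PicAux.resX X (hWV i) (q i) • PicAux.res M hWU (s i)) = 0 := by
      rw [map_sum, ← hc']
      refine Finset.sum_congr rfl fun i _ => ?_
      rw [KTheory.LocFree.germ_smul_res M (hWV i) hWU y hyW (q i) (s i), ← hq i]
    obtain ⟨W', hW', hW'', hyW', e⟩ := KTheory.LocFree.exists_res_eq hyW hyW
      (∑ i, PicAux.resX X (hWV i) (q i) • PicAux.res M hWU (s i)) 0
      (h0.trans (map_zero _).symm)
    simp only [PicAux.res_sum, PicAux.res_smul, PicAux.res_res, PicAux.res_zero,
      PicAux.resX_resX] at e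
    have hz := (hs W' (hW'.trans hWU)).1 (a₂ := 0) (e.trans (by simp))
    have hc0 : c = 0 := funext fun i => by
      have e3 := congrArg (X.presheaf.germ W' y hyW') (congrFun hz i.down)
      rw [← hq i.down]
      exact (TopCat.Presheaf.germ_res_apply X.presheaf (homOfLE (hW'.trans (hWV i.down))) y hyW'
        (q i.down)).symm.trans (e3.trans (map_zero _))
    rw [hc0]
    exact zero_mem _

/-- The internal Hom out of a finite locally free module preserves epimorphisms. -/
theorem epi_map (hP : FlatMod.IsFinLocFree P) {M N : X.Modules} (p : M ⟶ N) [Epi p] :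
    Epi ((DCoh.sheafHom P).map p) := by
  refine (QCohMod.epi_iff_stalk _).mpr fun x v => ?_
  obtain ⟨U, hxU, g, rfl⟩ := QCohMod.exists_germ _ x v
  obtain ⟨V, n, s, hxV, hs⟩ := PicAux.exists_basis_of_isFinLocFree hP x
  have hx : x ∈ U ⊓ V := ⟨hxU, hxV⟩
  obtain ⟨W, hW, l, hxW, hl⟩ := KTheory.LocFree.exists_lift (g := p) hx
    (fun i => evSec P (PicAux.res _ (inf_le_left : U ⊓ V ≤ U) g)
      (PicAux.res P (inf_le_right : U ⊓ V ≤ V) (s i)))
  have hsW := hs.res' (hW.trans inf_le_right)
  obtain ⟨hsp, hrel⟩ := spans_rels_of_basis hsW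
  obtain ⟨θ, hθ⟩ := VectorBundles.RefHullStalk.exists_section M hsp hrel le_rfl
    (fun i : ULift.{u} (Fin n) => l i.down) (fun j => j.elim)
  let h : Γ((DCoh.sheafHom P).obj M, W) := (iso P M).inv.app W θ
  have hh : (iso P M).hom.app W h = θ :=
    congrArg (fun φ => Scheme.Modules.Hom.app φ W θ) (iso P M).inv_hom_id
  let gW : Γ((DCoh.sheafHom P).obj N, W) := PicAux.res _ (hW.trans inf_le_left) g
  have key : ((DCoh.sheafHom P).map p).app W h = gW := by
    refine (ConcreteCategory.bijective_of_isIso ((iso P N).hom.app W)).1 ?_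
    refine Subtype.ext (funext fun ⟨y, hy⟩ => VectorBundles.RefHullStalk.stalkHom_ext hsp hy fun i => ?_)
    rw [iso_hom_val, iso_hom_val, evSec_map]
    have e1 : QCohMod.germ M y hy (evSec P h (PicAux.res P (hW.trans inf_le_right) (s i.down))) =
        QCohMod.germ M y hy (l i.down) := by
      rw [← iso_hom_val, hh]
      exact hθ y hy i
    rw [← QCohMod.stalk_map_germ p y hy, e1, QCohMod.stalk_map_germ, hl i.down]
    refine congrArg (QCohMod.germ N y hy) ?_
    change PicAux.res N hW ((ev P N).app (U ⊓ V) (tmulSec _ _)) = (ev P N).app W (tmulSec _ _)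
    rw [← PicAux.app_res, PicAux.res_tmulSec, PicAux.res_res, PicAux.res_res]
  refine ⟨QCohMod.germ _ x hxW h, ?_⟩
  rw [QCohMod.stalk_map_germ, key]
  exact (congrArg (QCohMod.germ _ x hxW) (KTheory.LocFree.qres_eq _ _).symm).trans
    (QCohMod.germ_res _ _ x hxW g)

/-- The internal Hom into an injective module is acyclic. -/
theorem subsingleton_HH_of_injective (I : X.Modules) [Injective I] (i : ℕ) :
    Subsingleton (Coh.HH X ((DCoh.sheafHom P).obj I) (i + 1)) := by
  have : TopCat.Sheaf.IsFlasque (X := X.toTopCat) (Coh.toAb ((DCoh.sheafHom P).obj I)) := by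
    rw [SiteCohomology.isFlasque_iff_surjective]
    intro U V h s
    exact CohTwo.sheafHom_restriction_surjective P I h.le s
  exact SiteCohomology.subsingleton_H_succ_of_flasque (X := X.toTopCat)
    (Coh.toAb ((DCoh.sheafHom P).obj I)) i

end Groth.Duality.SheafHom
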