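import Groth.Agent.Duality.PnVanishLocal
import Groth.Agent.PnCoh.VanishingClosed
import Groth.Agent.CohTwo.PushStalkModule
import Groth.Agent.Ega4Algebra2.DepthFlat
import Groth.Agent.FrobLCI.AusBuch
import Groth.Agent.LocFree.Rank

/-!
# Vanishing of negative twists on closed subschemes of projective space and depth
-/

set_option autoImplicit false

universe u

open CategoryTheory CategoryTheory.Limits AlgebraicGeometry IsLocalRing

noncomputable section

namespace Groth.Duality

theorem depth_eq_top_of_subsingleton' {R : Type u} [CommRing R] [IsLocalRing R] (M : Type u)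
    [AddCommGroup M] [Module R M] [Subsingleton M] : LocCoh.depth R M = ⊤ :=
  if_pos (Subsingleton.elim _ _)

/-- Depth of a nonzero finite free module, in the form `depth R R ≤ depth R M`. -/
theorem depth_le_depth_free {R : Type u} [CommRing R] [IsLocalRing R] [IsNoetherianRing R]
    (M : Type u) [AddCommGroup M] [Module R M] [Module.Finite R M] [Module.Free R M] :
    LocCoh.depth R R ≤ LocCoh.depth R M := by
  let b := Module.Free.chooseBasis R M
  let e := b.equivFun.trans (LinearEquiv.funCongrLeft R R (Fintype.equivFin _).symm)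
  rcases h : Fintype.card (Module.Free.ChooseBasisIndex R M) with _ | m
  · have : IsEmpty (Fin (Fintype.card (Module.Free.ChooseBasisIndex R M))) := by
      rw [h]; infer_instance
    have : Subsingleton M := e.toEquiv.subsingleton
    rw [depth_eq_top_of_subsingleton' M]
    exact le_top
  · let e' : M ≃ₗ[R] (Fin (m + 1) → R) := e.trans (LinearEquiv.funCongrLeft R R (finCongr h.symm))
    exact ((FrobLCI.depth_pi m).symm.trans (LocCohBase.idealDepth_congr e').symm).le

theorem ringKrullDim_stalk_le {X : Scheme.{u}} (x : X) :
    ringKrullDim (X.presheaf.stalk x) ≤ topologicalKrullDim ↥X := by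
  rw [ringKrullDim_stalk_eq_coheight,
    show topologicalKrullDim ↥X = Order.krullDim (↥X) from
      Order.krullDim_eq_of_orderIso irreducibleSetEquivPoints]
  exact Order.coheight_le_krullDim x

/-- The depth of a stalk of a direct image along a closed immersion. -/
theorem depth_push_stalk {X P : Scheme.{u}} (i : X ⟶ P) [IsClosedImmersion i] (F : X.Modules)
    (z : X) :
    LocCoh.depth (P.presheaf.stalk (i z))
        (((Scheme.Modules.pushforward i).obj F).presheaf.stalk (i z)) =
      LocCoh.depth (X.presheaf.stalk z) (F.presheaf.stalk z) := by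
  let A := P.presheaf.stalk (i z)
  let B := X.presheaf.stalk z
  let _ : Algebra A B := (i.stalkMap z).hom.toAlgebra
  let _ : Module A (F.presheaf.stalk z) := Module.compHom _ (algebraMap A B)
  have : IsScalarTower A B (F.presheaf.stalk z) := ⟨fun a b m => mul_smul (i.stalkMap z a) b m⟩
  let e : ((Scheme.Modules.pushforward i).obj F).presheaf.stalk (i z) ≃ₗ[A] F.presheaf.stalk z :=
    { AddEquiv.ofBijective (CohTwo.pushStalk i F z) (CohTwo.bijective_pushStalk i F z) with
      map_smul' := fun a t => CohTwo.pushStalk_smul i F z a t }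
  exact (LocCohBase.idealDepth_congr e).trans
    (Ega4b.depth_eq_of_surjective_algebraMap (A := A) (B := B) (i.stalkMap_surjective z) _)

namespace Pn

variable {k : Type u} [Field k] {N : ℕ} {X : Scheme.{u}}
  (i : X ⟶ CohB1.ProjSpace N k) [IsClosedImmersion i]

/-- Depth criterion on a closed subscheme of projective space. -/
theorem forall_negVanish_push_iff_depth {F : X.Modules} (hF : Coh.IsCoh F) (p : ℕ) :
    (∀ j : ℕ, j < p → NegVanish ((Scheme.Modules.pushforward i).obj F) j) ↔
      ∀ z : X, IsClosed ({z} : Set ↥X) →
        (p : ℕ∞) ≤ LocCoh.depth (X.presheaf.stalk z) (F.presheaf.stalk z) := by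
  have := PnCoh.isLocallyNoetherian_projSpace N k
  rw [forall_negVanish_iff_depth (CohTwo.isCoh_push i hF) p]
  constructor
  · intro h z hz
    refine (h (i z) ?_).trans (depth_push_stalk i F z).le
    simpa [Set.image_singleton] using i.isClosedEmbedding.isClosedMap _ hz
  · intro h x hx
    by_cases hxr : x ∈ Set.range i
    · obtain ⟨z, rfl⟩ := hxr
      refine (h z ?_).trans (depth_push_stalk i F z).ge
      have e : i ⁻¹' {i z} = ({z} : Set ↥X) :=
        Set.ext fun w => ⟨fun hw => i.isClosedEmbedding.injective hw, fun hw => congrArg i hw⟩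
      exact e ▸ hx.preimage i.continuous
    · have : Subsingleton (((Scheme.Modules.pushforward i).obj F).presheaf.stalk x) :=
        not_not.1 fun hs => hxr (CohTwo.support_push_subset i F hs)
      rw [depth_eq_top_of_subsingleton']
      exact le_top

/-- Vanishing on the closed subscheme and for the direct image. -/
theorem subsingleton_push_iff (F : X.Modules) [F.IsQuasicoherent] (d : ℤ) (q : ℕ) :
    Subsingleton (Coh.HH (CohB1.ProjSpace N k)
        (Twist.twistBy (CohB1.polyGrading N k) ((Scheme.Modules.pushforward i).obj F) d) q) ↔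
      Subsingleton (Coh.HH X (CohB1.tensorMod F
        ((Scheme.Modules.pullback i).obj (Twist.twistProjSpace N k d))) q) := by
  obtain ⟨e⟩ := PnCoh.nonempty_linearEquiv_push_twist N k i F d q
  exact ⟨fun h => @Function.Injective.subsingleton _ _ _ e.symm.injective h,
    fun h => @Function.Injective.subsingleton _ _ _ e.injective h⟩

/-- Depth criterion in terms of the cohomology of the closed subscheme. -/
theorem exists_subsingleton_pullback_iff_depth {F : X.Modules} (hF : Coh.IsCoh F) (p : ℕ) :
    (∃ q₀ : ℕ, ∀ q : ℕ, q₀ ≤ q → ∀ j : ℕ, j < p → Subsingleton (Coh.HH X (CohB1.tensorMod F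
        ((Scheme.Modules.pullback i).obj (Twist.twistProjSpace N k (-(q : ℤ))))) j)) ↔
      ∀ z : X, IsClosed ({z} : Set ↥X) →
        (p : ℕ∞) ≤ LocCoh.depth (X.presheaf.stalk z) (F.presheaf.stalk z) := by
  have := hF.1
  rw [← forall_negVanish_push_iff_depth i hF p, forall_negVanish_iff]
  constructor
  · rintro ⟨q₀, h⟩
    refine ⟨(q₀ : ℤ), fun m hm j hj => ?_⟩
    obtain ⟨q, rfl⟩ := Int.eq_ofNat_of_zero_le ((Int.natCast_nonneg q₀).trans hm)
    exact (subsingleton_push_iff i F _ j).mpr (h q (by omega) j hj)
  · rintro ⟨m₀, h⟩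
    exact ⟨m₀.toNat, fun q hq j hj => (subsingleton_push_iff i F _ j).mp (h q (by omega) j hj)⟩

end Pn

end Groth.Duality
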