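import Groth.Agent.EulerDeg.HLinear
import Groth.Agent.PnCoh.Finite
import Groth.Agent.QCohMod.Coherent

/-!
# Dualizing sheaves: representing `F ↦ Hⁿ(X, F)^*`
-/

set_option autoImplicit false

universe u

open CategoryTheory CategoryTheory.Limits AlgebraicGeometry

noncomputable section

namespace Groth.Duality

variable {A : Type u} [CommRing A] {X : Scheme.{u}} [X.Over (Spec (CommRingCat.of A))]
  {n : ℕ} {ω : X.Modules} (t : Coh.HH X ω n →ₗ[A] A)

/-- `(ω, t)` represents the dual of `Hⁿ` at `F`. -/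
def RepresentsAt (F : X.Modules) : Prop :=
  ∀ ψ : Coh.HH X F n →ₗ[A] A, ∃! φ : F ⟶ ω, ∀ x : Coh.HH X F n,
    ψ x = t (Sheaf.H.map ((SheafOfModules.toSheaf X.ringCatSheaf).map φ) n x)

variable {t}

theorem representsAt_iff {F : X.Modules} :
    RepresentsAt t F ↔
      Function.Bijective fun φ : F ⟶ ω => t.comp (EulerDeg.hMap A φ n) := by
  rw [Function.bijective_iff_existsUnique]
  refine forall_congr' fun ψ => existsUnique_congr fun φ => ?_
  exact ⟨fun h => LinearMap.ext fun x => (h x).symm, fun h x => (LinearMap.congr_fun h x).symm⟩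

theorem RepresentsAt.hom_ext {F : X.Modules} (h : RepresentsAt t F) {φ φ' : F ⟶ ω}
    (he : t.comp (EulerDeg.hMap A φ n) = t.comp (EulerDeg.hMap A φ' n)) : φ = φ' :=
  (representsAt_iff.mp h).1 he

theorem RepresentsAt.exists_hom {F : X.Modules} (h : RepresentsAt t F)
    (ψ : Coh.HH X F n →ₗ[A] A) : ∃ φ : F ⟶ ω, t.comp (EulerDeg.hMap A φ n) = ψ :=
  (representsAt_iff.mp h).2 ψ

theorem hMap_zero (M N : X.Modules) (m : ℕ) : EulerDeg.hMap A (0 : M ⟶ N) m = 0 :=
  LinearMap.ext fun x => by
    rw [EulerDeg.hMap_apply, EulerDeg.abMap_zero, Sheaf.H.map_apply, Abelian.Ext.mk₀_zero,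
      Abelian.Ext.comp_zero]
    rfl

theorem hMap_add {M N : X.Modules} (φ φ' : M ⟶ N) (m : ℕ) :
    EulerDeg.hMap A (φ + φ') m = EulerDeg.hMap A φ m + EulerDeg.hMap A φ' m :=
  LinearMap.ext fun x => by
    have e : EulerDeg.abMap (φ + φ') = EulerDeg.abMap φ + EulerDeg.abMap φ' :=
      (SheafOfModules.toSheaf X.ringCatSheaf).map_add
    rw [LinearMap.add_apply, EulerDeg.hMap_apply, EulerDeg.hMap_apply, EulerDeg.hMap_apply, e,
      Sheaf.H.map_apply, Abelian.Ext.mk₀_add, Abelian.Ext.comp_add]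
    rfl

theorem hMap_sum {M N : X.Modules} {κ : Type*} (s : Finset κ) (φ : κ → (M ⟶ N)) (m : ℕ) :
    EulerDeg.hMap A (∑ i ∈ s, φ i) m = ∑ i ∈ s, EulerDeg.hMap A (φ i) m := by
  classical
  induction s using Finset.induction_on with
  | empty => rw [Finset.sum_empty, Finset.sum_empty, hMap_zero]
  | insert a s ha ih => rw [Finset.sum_insert ha, Finset.sum_insert ha, ← ih, hMap_add]

/-- Representability passes to finite sums. -/
theorem representsAt_sigma {r : ℕ} {M : Fin r → X.Modules} (h : ∀ i, RepresentsAt t (M i)) :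
    RepresentsAt t (∐ M) := by
  refine representsAt_iff.mpr ⟨fun φ φ' he => Sigma.hom_ext _ _ fun i => (h i).hom_ext ?_, fun ψ => ?_⟩
  · rw [EulerDeg.hMap_comp, EulerDeg.hMap_comp]
    exact LinearMap.ext fun x => LinearMap.congr_fun he (EulerDeg.hMap A (Sigma.ι M i) n x)
  · choose φ hφ using fun i => (h i).exists_hom (ψ.comp (EulerDeg.hMap A (Sigma.ι M i) n))
    refine ⟨Sigma.desc φ, ?_⟩
    change t.comp (EulerDeg.hMap A (Sigma.desc φ) n) = ψ
    calc t.comp (EulerDeg.hMap A (Sigma.desc φ) n)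
        = t.comp (EulerDeg.hMap A (∑ i, PnCoh.sigmaProj M i ≫ φ i) n) := by
          congr 2
          rw [← Category.id_comp (Sigma.desc φ), ← PnCoh.sigmaProj_total M, Preadditive.sum_comp]
          simp
      _ = ∑ i, ψ.comp (EulerDeg.hMap A (PnCoh.sigmaProj M i ≫ Sigma.ι M i) n) := by
          rw [hMap_sum]
          refine LinearMap.ext fun x => ?_
          rw [LinearMap.comp_apply, LinearMap.sum_apply, LinearMap.sum_apply, map_sum]
          refine Finset.sum_congr rfl fun i _ => ?_
          rw [EulerDeg.hMap_comp, EulerDeg.hMap_comp]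
          exact LinearMap.congr_fun (hφ i) (EulerDeg.hMap A (PnCoh.sigmaProj M i) n x)
      _ = ψ := by
          refine LinearMap.ext fun x => ?_
          simp only [LinearMap.sum_apply, LinearMap.comp_apply]
          rw [← map_sum, ← LinearMap.sum_apply, ← hMap_sum, PnCoh.sigmaProj_total, EulerDeg.hMap_id]
          rfl

/-- Representability passes to cokernels, `Hⁿ` being right exact. -/
theorem representsAt_of_epi {E F : X.Modules} (p : E ⟶ F) [Epi p] (hE : RepresentsAt t E)
    {E' : X.Modules} (q : E' ⟶ kernel p) [Epi q] (hE' : RepresentsAt t E')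
    (hK : Subsingleton (Coh.HH X (kernel p) (n + 1))) : RepresentsAt t F := by
  let S : ShortComplex X.Modules := ShortComplex.mk (kernel.ι p) p (kernel.condition p)
  have hS : S.ShortExact :=
    { exact := ShortComplex.exact_of_f_is_kernel S (kernelIsKernel p)
      mono_f := inferInstanceAs (Mono (kernel.ι p))
      epi_g := inferInstanceAs (Epi p) }
  have hsurj : Function.Surjective (EulerDeg.hMap A p n) := fun y =>
    (EulerDeg.exact_right A hS n y).mp (@Subsingleton.elim _ hK _ _)
  refine representsAt_iff.mpr ⟨fun φ φ' he => (cancel_epi p).mp (hE.hom_ext ?_), fun ψ => ?_⟩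
  · rw [EulerDeg.hMap_comp, EulerDeg.hMap_comp]
    exact LinearMap.ext fun x => LinearMap.congr_fun he (EulerDeg.hMap A p n x)
  · obtain ⟨φ, hφ⟩ := hE.exists_hom (ψ.comp (EulerDeg.hMap A p n))
    have hz : kernel.ι p ≫ φ = 0 := by
      rw [← cancel_epi q, comp_zero]
      refine hE'.hom_ext ?_
      rw [← Category.assoc, EulerDeg.hMap_comp, ← LinearMap.comp_assoc, hφ, LinearMap.comp_assoc,
        ← EulerDeg.hMap_comp, Category.assoc, kernel.condition, comp_zero, hMap_zero, hMap_zero,
        LinearMap.comp_zero, LinearMap.comp_zero]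
    let φ' : F ⟶ ω := hS.exact.desc φ hz
    have hφ' : p ≫ φ' = φ := hS.exact.g_desc φ hz
    refine ⟨φ', LinearMap.ext fun y => ?_⟩
    obtain ⟨x, rfl⟩ := hsurj y
    refine Eq.trans ?_ (LinearMap.congr_fun hφ x)
    rw [← hφ', EulerDeg.hMap_comp]
    rfl

/-- If `(ω, t)` represents at every member of a family of objects covering the coherent modules and
`Hⁿ⁺¹` vanishes on quasi-coherent modules, it represents at every coherent module. -/
theorem representsAt_of_isCoh [IsLocallyNoetherian X] (S : X.Modules → Prop)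
    (hS : ∀ G, S G → RepresentsAt t G) (hSc : ∀ G, S G → Coh.IsCoh G)
    (hgen : ∀ F : X.Modules, Coh.IsCoh F → ∃ (r : ℕ) (M : Fin r → X.Modules) (p : ∐ M ⟶ F),
      (∀ i, S (M i)) ∧ Epi p)
    (hvan : ∀ G : X.Modules, Coh.IsCoh G → Subsingleton (Coh.HH X G (n + 1)))
    (F : X.Modules) (hF : Coh.IsCoh F) : RepresentsAt t F := by
  obtain ⟨r, M, p, hM, hp⟩ := hgen F hF
  have := hF.1
  have hE : Coh.IsCoh (∐ M) := PnCoh.isCoh_sigma M fun i => hSc _ (hM i)
  have hK : Coh.IsCoh (kernel p) := QCohMod.isCoh_kernel p hE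
  obtain ⟨r', M', q, hM', hq⟩ := hgen _ hK
  exact representsAt_of_epi p (representsAt_sigma fun i => hS _ (hM i)) q
    (representsAt_sigma fun i => hS _ (hM' i)) (hvan _ hK)

end Groth.Duality
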