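import Groth.Agent.Duality.SheafHom
import Groth.Agent.Duality.Represent

/-!
# `Hom(P, M) = H⁰(X, Hom(P, M))`, linearly over the base
-/

set_option autoImplicit false

universe u

open CategoryTheory CategoryTheory.Limits AlgebraicGeometry Opposite TopologicalSpace

noncomputable section

namespace Groth.Duality.SheafHom

open Groth.CohTwo.SheafHomIso
open Groth.PicAux (tmulSec tensor_hom_ext)

variable {X : Scheme.{u}} (P : X.Modules) [DCoh.HasSheafHom P]

theorem tF_map_smulModΓ (H : X.Modules) (r : Coh.Γtop X) :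
    (tF P).map (Formal.smulModΓ H r) = Formal.smulModΓ ((tF P).obj H) r := by
  refine tensor_hom_ext fun W m b => ?_
  refine (tF_map_tmulSec (Formal.smulModΓ H r) W m b).trans ?_
  rw [KLin.smulModΓ_app_apply]
  exact (PicAux.tmulSec_smul_right _ m b).trans
    (KLin.smulModΓ_app_apply ((tF P).obj H) r W (tmulSec m b)).symm

/-- The internal Hom is linear over the global functions. -/
theorem map_smulModΓ (M : X.Modules) (r : Coh.Γtop X) :
    (DCoh.sheafHom P).map (Formal.smulModΓ M r) = Formal.smulModΓ ((DCoh.sheafHom P).obj M) r := by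
  apply ((DCoh.sheafHomAdj P).homEquiv _ _).symm.injective
  rw [Adjunction.homEquiv_counit, Adjunction.homEquiv_counit]
  exact ((DCoh.sheafHomAdj P).counit.naturality (Formal.smulModΓ M r)).trans
    ((KLin.comp_smulModΓ ((DCoh.sheafHomAdj P).counit.app M) r).trans
      (congrArg (· ≫ (DCoh.sheafHomAdj P).counit.app M)
        (tF_map_smulModΓ P ((DCoh.sheafHom P).obj M) r).symm))

/-- A morphism out of `P` as a global section of the internal Hom. -/
def homSec {M : X.Modules} (φ : P ⟶ M) : Γ((DCoh.sheafHom P).obj M, ⊤) :=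
  ((DCoh.sheafHomAdj P).homEquiv (Coh.structureModule X) M ((SecTwist.unitorR P).hom ≫ φ)).app ⊤
    (PicAux.oneSec X ⊤)

theorem homSec_comp {M N : X.Modules} (φ : P ⟶ M) (g : M ⟶ N) :
    homSec P (φ ≫ g) = ((DCoh.sheafHom P).map g).app ⊤ (homSec P φ) := by
  rw [homSec, homSec]
  erw [← Category.assoc, Adjunction.homEquiv_naturality_right]
  rfl

theorem homSec_bijective (M : X.Modules) : Function.Bijective (homSec P : (P ⟶ M) → _) := by
  constructor
  · intro φ ψ h
    have e := PicAux.hom_structure_ext (φ := (DCoh.sheafHomAdj P).homEquiv (Coh.structureModule X) M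
      ((SecTwist.unitorR P).hom ≫ φ)) (ψ := (DCoh.sheafHomAdj P).homEquiv (Coh.structureModule X) M
      ((SecTwist.unitorR P).hom ≫ ψ)) h
    exact (cancel_epi _).mp (((DCoh.sheafHomAdj P).homEquiv _ _).injective e)
  · intro s
    obtain ⟨g, hg⟩ := PicAux.exists_hom_structure s
    refine ⟨(SecTwist.unitorR P).inv ≫ ((DCoh.sheafHomAdj P).homEquiv _ _).symm g, ?_⟩
    have e : (SecTwist.unitorR P).hom ≫ (SecTwist.unitorR P).inv ≫
        ((DCoh.sheafHomAdj P).homEquiv (Coh.structureModule X) M).symm g =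
          ((DCoh.sheafHomAdj P).homEquiv (Coh.structureModule X) M).symm g :=
      Iso.hom_inv_id_assoc _ _
    rw [homSec]
    erw [e, Equiv.apply_symm_apply]
    exact hg

theorem homSec_add {M : X.Modules} (φ ψ : P ⟶ M) :
    homSec P (φ + ψ) = homSec P φ + homSec P ψ := by
  have hT : (DCoh.sheafHom P).Additive := (DCoh.sheafHomAdj P).right_adjoint_additive
  have e : ∀ θ : P ⟶ M, (DCoh.sheafHomAdj P).homEquiv (Coh.structureModule X) M
      ((SecTwist.unitorR P).hom ≫ θ) =
      (DCoh.sheafHomAdj P).unit.app (Coh.structureModule X) ≫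
        (DCoh.sheafHom P).map ((SecTwist.unitorR P).hom ≫ θ) :=
    fun θ => Adjunction.homEquiv_unit _ _ _ _
  rw [homSec, homSec, homSec, e, e, e, Preadditive.comp_add]
  erw [Functor.map_add]
  rw [Preadditive.comp_add, Scheme.Modules.Hom.add_app]
  rfl

section Linear

variable (A : Type u) [CommRing A] [X.Over (Spec (CommRingCat.of A))]

/-- `H⁰` as the global sections. -/
abbrev h0 (M : X.Modules) : Coh.HH X M 0 ≃+ Γ(M, ⊤) :=
  Sheaf.H.equiv₀ (Coh.toAb M) (Limits.isTerminalTop (α := Opens X))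

/-- `Hom(P, M) = H⁰(Hom(P, M))`. -/
def homH0 (M : X.Modules) : (P ⟶ M) ≃ₗ[A] Coh.HH X ((DCoh.sheafHom P).obj M) 0 where
  toFun φ := (h0 _).symm (homSec P φ)
  map_add' φ ψ := by rw [homSec_add, map_add]
  map_smul' a φ := by
    rw [RingHom.id_apply]
    have e : a • φ = φ ≫ Formal.smulModΓ M (Coh.toGlobal (X ↘ Spec (CommRingCat.of A)) a) := by
      rw [KLin.smul_def]
      exact (KLin.comp_smulModΓ φ _).symm
    rw [e, homSec_comp, map_smulModΓ]
    exact (Sheaf.H.equiv₀_symm_naturality _
      (Coh.smulAb ((DCoh.sheafHom P).obj M) (Coh.toGlobal (X ↘ Spec (CommRingCat.of A)) a))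
      (homSec P φ)).symm
  invFun s := (Equiv.ofBijective _ (homSec_bijective P M)).symm (h0 _ s)
  left_inv φ := by
    dsimp only
    rw [AddEquiv.apply_symm_apply]
    exact (Equiv.ofBijective _ (homSec_bijective P M)).symm_apply_apply φ
  right_inv s := by
    dsimp only
    rw [AddEquiv.symm_apply_eq]
    exact (Equiv.ofBijective _ (homSec_bijective P M)).apply_symm_apply _

theorem homH0_comp {M N : X.Modules} (φ : P ⟶ M) (g : M ⟶ N) :
    homH0 P A N (φ ≫ g) = EulerDeg.hMap A ((DCoh.sheafHom P).map g) 0 (homH0 P A M φ) := by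
  change (h0 _).symm (homSec P (φ ≫ g)) = _
  rw [homSec_comp]
  exact (Sheaf.H.equiv₀_symm_naturality _ (EulerDeg.abMap ((DCoh.sheafHom P).map g))
    (homSec P φ)).symm

end Linear

end Groth.Duality.SheafHom
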