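import Groth.Agent.Duality.LinearAux
import Groth.Agent.Duality.SheafHomSections
import Groth.Agent.SiteCohomology.SchemeModules
import Groth.Agent.CohFin.Acyclic
import Mathlib.Algebra.Homology.DerivedCategory.Ext.Linear
import Mathlib.Algebra.Homology.DerivedCategory.Ext.EnoughInjectives

/-!
# `Ext^i(P, M) = H^i(X, Hom(P, M))` for a finite locally free module `P`
-/

set_option autoImplicit false

universe u

open CategoryTheory CategoryTheory.Limits AlgebraicGeometry Opposite
open CategoryTheory.Abelian

noncomputable section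

namespace Groth.Duality.SheafHom

variable {X : Scheme.{u}} [HasExt.{u} X.Modules] (A : Type u) [CommRing A]
  [X.Over (Spec (CommRingCat.of A))]

/-- Composition with a fixed class, linearly. -/
def compRight {P Q M : X.Modules} {a b c : ℕ} (β : Ext Q M b) (h : a + b = c) :
    Ext P Q a →ₗ[A] Ext P M c where
  toFun α := α.comp β h
  map_add' := by simp
  map_smul' r α := Ext.smul_comp α β h r

theorem shortExact_map (P : X.Modules) [DCoh.HasSheafHom P] (hP : FlatMod.IsFinLocFree P)
    {S : ShortComplex X.Modules} (hS : S.ShortExact) :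
    haveI : (DCoh.sheafHom P).Additive := (DCoh.sheafHomAdj P).right_adjoint_additive
    (S.map (DCoh.sheafHom P)).ShortExact := by
  have : (DCoh.sheafHom P).Additive := (DCoh.sheafHomAdj P).right_adjoint_additive
  have : PreservesLimitsOfSize.{0, 0} (DCoh.sheafHom P) :=
    (DCoh.sheafHomAdj P).rightAdjoint_preservesLimits
  have := hS.mono_f
  have := hS.epi_g
  exact { exact := hS.exact.map_of_mono_of_preservesKernel _ inferInstance inferInstance
          mono_f := (DCoh.sheafHom P).map_mono S.f
          epi_g := epi_map P hP S.g }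

/-- `Ext^i(P, M) = Hⁱ(X, Hom(P, M))`, linearly over the base. -/
theorem nonempty_ext_linearEquiv (P : X.Modules) [DCoh.HasSheafHom P]
    (hP : FlatMod.IsFinLocFree P) :
    ∀ (i : ℕ) (M : X.Modules),
      Nonempty (Ext P M i ≃ₗ[A] Coh.HH X ((DCoh.sheafHom P).obj M) i) := by
  intro i
  induction i with
  | zero => exact fun M => ⟨(Ext.linearEquiv₀ (R := A)).trans (homH0 P A M)⟩
  | succ i ih =>
    intro M
    have : (DCoh.sheafHom P).Additive := (DCoh.sheafHomAdj P).right_adjoint_additive
    let S := CohFin.injSeq M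
    have hS : S.ShortExact := CohFin.injSeq_shortExact M
    have hT := shortExact_map P hP hS
    let g : Ext P S.X₃ i →ₗ[A] Ext P M (i + 1) := compRight A hS.extClass rfl
    let δ := EulerDeg.hDelta A hT i
    have hg : Function.Surjective g := fun y =>
      Ext.covariant_sequence_exact₁ P hS y (Ext.eq_zero_of_injective _) rfl
    have hδ : Function.Surjective δ := fun y =>
      (EulerDeg.exact_left A hT i y).mp
        (@Subsingleton.elim _ (subsingleton_HH_of_injective P S.X₂ i) _ _)
    rcases i with _ | j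
    · -- degree one: two cokernels of `Hom(P, I) → Hom(P, Q)`
      let φ : (P ⟶ S.X₃) ≃ₗ[A] Coh.HH X ((DCoh.sheafHom P).obj S.X₃) 0 := homH0 P A S.X₃
      let ψ : Ext P S.X₃ 0 ≃ₗ[A] (P ⟶ S.X₃) := Ext.linearEquiv₀ (R := A)
      refine nonempty_linearEquiv_of_ker_eq (g.comp ψ.symm.toLinearMap) (δ.comp φ.toLinearMap)
        (hg.comp ψ.symm.surjective) (hδ.comp φ.surjective) fun f => ?_
      have hker : δ (φ f) = 0 ↔ ∃ a : P ⟶ S.X₂, a ≫ S.g = f := by
        constructor
        · intro h
          obtain ⟨y, hy⟩ := (EulerDeg.exact_right A hT 0 (φ f)).mp h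
          refine ⟨(homH0 P A S.X₂).symm y, φ.injective ?_⟩
          refine (homH0_comp P A _ S.g).trans (Eq.trans ?_ hy)
          rw [LinearEquiv.apply_symm_apply]
          rfl
        · rintro ⟨a, rfl⟩
          exact (EulerDeg.exact_right A hT 0 _).mpr ⟨_, (homH0_comp P A a S.g).symm⟩
      refine Iff.trans ?_ hker.symm
      change (ψ.symm f).comp hS.extClass rfl = 0 ↔ _
      rw [show ψ.symm f = Ext.mk₀ f from rfl]
      constructor
      · intro h
        obtain ⟨x, hx⟩ := Ext.covariant_sequence_exact₃ P hS (Ext.mk₀ f) rfl h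
        obtain ⟨a, rfl⟩ := (Ext.mk₀_bijective _ _).2 x
        rw [Ext.mk₀_comp_mk₀] at hx
        exact ⟨a, (Ext.mk₀_bijective _ _).1 hx⟩
      · rintro ⟨a, rfl⟩
        rw [← Ext.mk₀_comp_mk₀, Ext.comp_assoc_of_second_deg_zero, hS.comp_extClass,
          Ext.comp_zero]
    · obtain ⟨e⟩ := ih S.X₃
      have hg' : Function.Injective g := by
        refine (injective_iff_map_eq_zero g).mpr fun x hx => ?_
        obtain ⟨y, rfl⟩ := Ext.covariant_sequence_exact₃ P hS x rfl hx
        rw [Ext.eq_zero_of_injective y, Ext.zero_comp]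
      have hδ' : Function.Injective δ := by
        refine (injective_iff_map_eq_zero δ).mpr fun x hx => ?_
        obtain ⟨y, rfl⟩ := (EulerDeg.exact_right A hT (j + 1) x).mp hx
        rw [@Subsingleton.elim _ (subsingleton_HH_of_injective P S.X₂ j) y 0]
        exact map_zero _
      exact ⟨(LinearEquiv.ofBijective g ⟨hg', hg⟩).symm ≪≫ₗ e ≪≫ₗ
        LinearEquiv.ofBijective δ ⟨hδ', hδ⟩⟩

end Groth.Duality.SheafHom
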