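import Mathlib.Algebra.Homology.DerivedCategory.Ext.ExactSequences
import Mathlib.Algebra.Homology.DerivedCategory.Ext.EnoughProjectives

/-!
# Vanishing of `Ext` along a short exact sequence with acyclic middle term
-/

set_option autoImplicit false

universe w v u

open CategoryTheory CategoryTheory.Abelian

namespace Groth.Duality

variable {C : Type u} [Category.{v} C] [Abelian C] [HasExt.{w} C]

theorem subsingleton_ext_zero_iff (A B : C) : Subsingleton (Ext A B 0) ↔ ∀ φ : A ⟶ B, φ = 0 :=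
  ⟨fun h φ => (Ext.mk₀_bijective A B).1 (h.elim _ _),
    fun h => subsingleton_of_forall_eq 0 fun x => by
      obtain ⟨φ, rfl⟩ := (Ext.mk₀_bijective A B).2 x
      rw [h φ, Ext.mk₀_zero]⟩

theorem subsingleton_ext_congr_right (A : C) {B B' : C} (e : B ≅ B') (i : ℕ)
    (h : Subsingleton (Ext A B i)) : Subsingleton (Ext A B' i) :=
  subsingleton_of_forall_eq 0 fun x => by
    have h0 : x.comp (Ext.mk₀ e.inv) (add_zero i) = 0 := h.elim _ _
    have := congrArg (fun y => Ext.comp y (Ext.mk₀ e.hom) (add_zero i)) h0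
    simpa [Ext.comp_assoc_of_second_deg_zero] using this

theorem subsingleton_ext_of_isZero_left {A : C} (hA : Limits.IsZero A) (B : C) (i : ℕ) :
    Subsingleton (Ext A B i) :=
  subsingleton_of_forall_eq 0 fun x => by
    rw [← Ext.mk₀_id_comp x, hA.eq_of_src (𝟙 A) 0, Ext.mk₀_zero, Ext.zero_comp]

variable {S : ShortComplex C} (hS : S.ShortExact) (N : C)

include hS

/-- Dimension shift. -/
theorem subsingleton_ext_succ_iff (i : ℕ) (h : Subsingleton (Ext S.X₂ N (i + 1)))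
    (h' : Subsingleton (Ext S.X₂ N (i + 2))) :
    Subsingleton (Ext S.X₃ N (i + 2)) ↔ Subsingleton (Ext S.X₁ N (i + 1)) := by
  constructor <;> refine fun h₀ => subsingleton_of_forall_eq 0 fun x => ?_
  · obtain ⟨y, rfl⟩ := Ext.contravariant_sequence_exact₁ hS N x (n₁ := i + 2) (by omega)
      (h₀.elim _ _)
    rw [h.elim y 0, Ext.comp_zero]
  · obtain ⟨y, rfl⟩ := Ext.contravariant_sequence_exact₃ hS N x (h'.elim _ _) (n₀ := i + 1)
      (by omega)
    rw [h₀.elim y 0, Ext.comp_zero]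

/-- In degree one. -/
theorem subsingleton_ext_one_iff (h : Subsingleton (Ext S.X₂ N 1)) :
    Subsingleton (Ext S.X₃ N 1) ↔ ∀ φ : S.X₁ ⟶ N, ∃ a : S.X₂ ⟶ N, S.f ≫ a = φ := by
  constructor
  · intro h₀ φ
    obtain ⟨y, hy⟩ := Ext.contravariant_sequence_exact₁ hS N (Ext.mk₀ φ) (n₁ := 1) (by omega)
      (h₀.elim _ _)
    obtain ⟨a, rfl⟩ := (Ext.mk₀_bijective S.X₂ N).2 y
    rw [Ext.mk₀_comp_mk₀] at hy
    exact ⟨a, (Ext.mk₀_bijective _ _).1 hy⟩
  · intro h₀
    refine subsingleton_of_forall_eq 0 fun x => ?_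
    obtain ⟨y, rfl⟩ := Ext.contravariant_sequence_exact₃ hS N x (h.elim _ _) (n₀ := 0) (by omega)
    obtain ⟨φ, rfl⟩ := (Ext.mk₀_bijective S.X₁ N).2 y
    obtain ⟨a, rfl⟩ := h₀ φ
    rw [← Ext.mk₀_comp_mk₀, ← Ext.comp_assoc_of_second_deg_zero, hS.extClass_comp, Ext.zero_comp]

end Groth.Duality
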