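import Groth.Agent.Duality.SheafHomTwist
import Groth.Agent.EtaleBase.ExtAdj
import Groth.Agent.SiteCohomology.SchemeModules

/-!
# Twisting inside the internal Hom and inside `Ext`
-/

set_option autoImplicit false

universe u

open CategoryTheory CategoryTheory.Limits AlgebraicGeometry Opposite

noncomputable section

namespace Groth.Duality.SheafHom

open Groth.CohTwo.SheafHomIso
open Groth.PicAux (tmulSec tensor_hom_ext exists_associator tensor_hom_ext₃)

variable {X : Scheme.{u}}

/-- `(F ⊗ -) ⊗ M ≅ F ⊗ (- ⊗ M)`. -/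
def assocIso (F M : X.Modules) :
    tF F ⋙ DCoh.tensorRightMod M ≅ DCoh.tensorRightMod M ⋙ tF F :=
  NatIso.ofComponents (fun H => (exists_associator F H M).choose) fun {H H'} φ =>
    tensor_hom_ext₃ (L := F) (M := H) (N := M) fun W a b c => by
      have h1 := PicAux.tensorRightMod_map_tmulSec M ((tF F).map φ) W (tmulSec a b) c
      have h2 := tF_map_tmulSec φ W a b
      refine Eq.trans (b := (exists_associator F H' M).choose.hom.app W
        (tmulSec (tmulSec a (φ.app W b)) c)) ?_ ?_
      · exact congrArg ((exists_associator F H' M).choose.hom.app W)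
          (h1.trans (congrArg (fun z => (tmulSec z c :
            Γ(CohB1.tensorMod (CohB1.tensorMod F H') M, W))) h2))
      · refine ((exists_associator F H' M).choose_spec W a (φ.app W b) c).trans ?_
        refine Eq.trans ?_ (congrArg (((DCoh.tensorRightMod M ⋙ tF F).map φ).app W)
          ((exists_associator F H M).choose_spec W a b c)).symm
        refine (congrArg (tmulSec a) (PicAux.tensorRightMod_map_tmulSec M φ W b c).symm).trans ?_
        exact (tF_map_tmulSec ((DCoh.tensorRightMod M).map φ) W a (tmulSec b c)).symm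

/-- `Hom(F, G ⊗ L) ≅ Hom(F, G) ⊗ L` for invertible `L`. -/
def sheafHomTwistIso (F : X.Modules) [DCoh.HasSheafHom F] {L M : X.Modules}
    (h : ClSub.IsInverseOf L M) :
    DCoh.tensorRightMod L ⋙ DCoh.sheafHom F ≅ DCoh.sheafHom F ⋙ DCoh.tensorRightMod L :=
  Adjunction.rightAdjointUniq
    (((DCoh.sheafHomAdj F).comp (PicAux.twistEquiv (PicAux.isInverseOf_symm h)).toAdjunction).ofNatIsoLeft
      (assocIso F M))
    ((PicAux.twistEquiv (PicAux.isInverseOf_symm h)).toAdjunction.comp (DCoh.sheafHomAdj F))

/-- `Ext(F ⊗ M, G) = Ext(F, G ⊗ L)` for mutually inverse `L`, `M`. -/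
theorem nonempty_ext_twist [HasExt.{u} X.Modules] {L M : X.Modules}
    (h : ClSub.IsInverseOf L M) (F G : X.Modules) (i : ℕ) :
    Nonempty (Abelian.Ext (CohB1.tensorMod F M) G i ≃
      Abelian.Ext F (CohB1.tensorMod G L) i) := by
  have : (DCoh.tensorRightMod L).IsEquivalence := PicAux.isEquivalence_tensorRightMod h
  have : (DCoh.tensorRightMod M).IsEquivalence :=
    PicAux.isEquivalence_tensorRightMod (PicAux.isInverseOf_symm h)
  have : (PicAux.twistEquiv (PicAux.isInverseOf_symm h)).functor.Additive :=
    inferInstanceAs (DCoh.tensorRightMod M).Additive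
  have : (PicAux.twistEquiv (PicAux.isInverseOf_symm h)).inverse.Additive :=
    inferInstanceAs (DCoh.tensorRightMod L).Additive
  exact ⟨(Equiv.ofBijective _ (EtaleBase.ExtAdj.adjExt_bijective_of_exact
    (PicAux.twistEquiv (PicAux.isInverseOf_symm h)).toAdjunction F G i)).symm⟩

end Groth.Duality.SheafHom
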