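import Groth.Agent.Duality.PnRepresent
import Groth.Agent.Duality.SheafHomExt
import Groth.Agent.Duality.SheafHomTwist
import Groth.Agent.PnCoh.VanishingClosed
import Groth.Agent.LocFree.Basic
import Mathlib.LinearAlgebra.Dual.Lemmas

/-!
# `Ext^i(F, O(-n-1)) = Hⁿ⁻ⁱ(F)^*` on projective space
-/

set_option autoImplicit false

universe u

open CategoryTheory CategoryTheory.Limits AlgebraicGeometry
open CategoryTheory.Abelian

noncomputable section

namespace Groth.Duality.Pn

open Groth.PnCoh

variable {k : Type u} [Field k] {n : ℕ}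

variable (k n) in
/-- `O(-n-1)`. -/
abbrev omega : (CohB1.ProjSpace n k).Modules := Twist.twistProjSpace n k (-((n : ℤ) + 1))

/-- `Hom(F, ω) = Hⁿ(F)^*`. -/
def theta {F : (CohB1.ProjSpace n k).Modules} (hF : Coh.IsCoh F) :
    (F ⟶ omega k n) ≃ₗ[k] Module.Dual k (Coh.HH (CohB1.ProjSpace n k) F n) :=
  LinearEquiv.ofBijective
    { toFun := fun φ => (trace n k).comp (EulerDeg.hMap k φ n)
      map_add' := fun φ ψ => by rw [hMap_add, LinearMap.comp_add]
      map_smul' := fun a φ => LinearMap.ext fun x => by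
        rw [RingHom.id_apply, LinearMap.smul_apply, KLin.smul_def, EulerDeg.hMap_comp]
        change trace n k (EulerDeg.hMap k φ n (EulerDeg.hMap k (Formal.smulMod k F a) n x)) = _
        rw [show EulerDeg.hMap k (Formal.smulMod k F a) n x = a • x from rfl, map_smul, map_smul]
        rfl }
    (representsAt_iff.mp (representsAt F hF))

theorem theta_apply {F : (CohB1.ProjSpace n k).Modules} (hF : Coh.IsCoh F) (φ : F ⟶ omega k n)
    (x : Coh.HH (CohB1.ProjSpace n k) F n) :
    theta hF φ x = trace n k (EulerDeg.hMap k φ n x) := rfl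

theorem theta_comp {E F : (CohB1.ProjSpace n k).Modules} (hE : Coh.IsCoh E) (hF : Coh.IsCoh F)
    (f : E ⟶ F) (φ : F ⟶ omega k n) :
    theta hE (f ≫ φ) = (EulerDeg.hMap k f n).dualMap (theta hF φ) := by
  refine LinearMap.ext fun x => ?_
  rw [LinearMap.dualMap_apply, theta_apply, theta_apply, EulerDeg.hMap_comp]
  rfl

/-- A finite sum of twists `O(d)` with `d ≤ -(n + 1)`. -/
def IsNegSum (E : (CohB1.ProjSpace n k).Modules) : Prop :=
  ∃ (r : ℕ) (d : Fin r → ℤ), (∀ j, d j ≤ -((n : ℤ) + 1)) ∧
    E = ∐ fun j => Twist.twistProjSpace n k (d j)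

theorem IsNegSum.isCoh {E : (CohB1.ProjSpace n k).Modules} (hE : IsNegSum E) : Coh.IsCoh E := by
  obtain ⟨r, d, -, rfl⟩ := hE
  exact isCoh_sigma _ fun j => isCoh_twist n k (d j)

/-- Below the top degree such a sum has no cohomology. -/
theorem IsNegSum.hh_eq_zero {E : (CohB1.ProjSpace n k).Modules} (hE : IsNegSum E) {q : ℕ}
    (hq : q < n) (x : Coh.HH (CohB1.ProjSpace n k) E q) : x = 0 := by
  obtain ⟨r, d, hd, rfl⟩ := hE
  let M := fun j => Twist.twistProjSpace n k (d j)
  have key : ∀ j, EulerDeg.hMap k (sigmaProj M j ≫ Sigma.ι M j) q x = 0 := fun j => by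
    have := subsingleton_HH_twist (n := n) (R := k) (d j) q
      (fun h => by have := hd j; omega) (fun h => by omega)
    rw [EulerDeg.hMap_comp, LinearMap.comp_apply,
      Subsingleton.elim (EulerDeg.hMap k (sigmaProj M j) q x) 0]
    exact map_zero _
  have e := hMap_sum (A := k) Finset.univ (fun j => sigmaProj M j ≫ Sigma.ι M j) q
  rw [sigmaProj_total, EulerDeg.hMap_id] at e
  refine (LinearMap.congr_fun e x).trans ?_
  rw [LinearMap.sum_apply]
  exact Finset.sum_eq_zero fun j _ => key j

variable [HasExt.{u} (CohB1.ProjSpace n k).Modules]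

theorem ext_twist_eq_zero {d : ℤ} (hd : d ≤ -((n : ℤ) + 1)) (i : ℕ)
    (x : Ext (Twist.twistProjSpace n k d) (omega k n) (i + 1)) : x = 0 := by
  have := SheafHom.hasSheafHom (Twist.twistProjSpace n k d)
  have hP : FlatMod.IsFinLocFree (Twist.twistProjSpace n k d) :=
    fun x => let ⟨U, hx, e⟩ := LocFree.isInvertible_iff_ofRank_one.mp (isInvertible_twist n k d) x
      ⟨U, 1, hx, e⟩
  obtain ⟨e⟩ := SheafHom.nonempty_ext_linearEquiv k (Twist.twistProjSpace n k d) hP (i + 1)
    (omega k n)
  obtain ⟨θ⟩ := nonempty_sheafHom_twist_iso n k d (-((n : ℤ) + 1))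
  have := subsingleton_HH_twist (n := n) (R := k) (-((n : ℤ) + 1) - d) (i + 1) (by omega) (by omega)
  apply (e ≪≫ₗ EulerDeg.hEquiv k θ (i + 1)).injective
  exact Subsingleton.elim _ _

theorem IsNegSum.ext_eq_zero {E : (CohB1.ProjSpace n k).Modules} (hE : IsNegSum E) (i : ℕ)
    (x : Ext E (omega k n) (i + 1)) : x = 0 := by
  obtain ⟨r, d, hd, rfl⟩ := hE
  let M := fun j => Twist.twistProjSpace n k (d j)
  rw [← Ext.mk₀_id_comp x, ← sigmaProj_total M, Ext.mk₀_sum, Ext.sum_comp]
  refine Finset.sum_eq_zero fun j _ => ?_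
  rw [← Ext.mk₀_comp_mk₀, Ext.comp_assoc_of_second_deg_zero,
    ext_twist_eq_zero (hd j) i ((Ext.mk₀ (Sigma.ι M j)).comp x (zero_add _)), Ext.comp_zero]

/-- Composition with a fixed class on the left, linearly. -/
def compLeft {F K N : (CohB1.ProjSpace n k).Modules} {a b c : ℕ} (α : Ext F K a) (h : a + b = c) :
    Ext K N b →ₗ[k] Ext F N c where
  toFun β := α.comp β h
  map_add' := by simp
  map_smul' r β := Ext.comp_smul α β h r

theorem exists_negSum_seq (F : (CohB1.ProjSpace n k).Modules) (hF : Coh.IsCoh F) :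
    ∃ S : ShortComplex (CohB1.ProjSpace n k).Modules,
      S.ShortExact ∧ S.X₃ = F ∧ IsNegSum S.X₂ ∧ Coh.IsCoh S.X₁ := by
  have := isLocallyNoetherian_projSpace n k
  obtain ⟨r, d, p, hd, hp⟩ :=
    exists_epi_twists (𝒜 := CohB1.polyGrading n k) F hF (-((n : ℤ) + 1))
  have := hF.1
  refine ⟨ShortComplex.mk (kernel.ι p) p (kernel.condition p),
    { exact := ShortComplex.exact_of_f_is_kernel _ (kernelIsKernel p)
      mono_f := inferInstanceAs (Mono (kernel.ι p))
      epi_g := hp }, rfl, ⟨r, d, hd, rfl⟩,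
    @QCohMod.isCoh_kernel (CohB1.ProjSpace n k) (isLocallyNoetherian_projSpace n k) _ _ p hF.1
      (isCoh_sigma _ fun j => isCoh_twist n k (d j))⟩

section Step

variable {S : ShortComplex (CohB1.ProjSpace n k).Modules} (hS : S.ShortExact)
  (hE : IsNegSum S.X₂)

include hE

theorem compLeft_surjective (i : ℕ) :
    Function.Surjective (compLeft (k := k) (N := omega k n) (b := i) hS.extClass
      (show 1 + i = i + 1 by omega)) := fun y =>
  Ext.contravariant_sequence_exact₃ hS (omega k n) y (hE.ext_eq_zero i _) (by omega)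

theorem compLeft_injective (i : ℕ) :
    Function.Injective (compLeft (k := k) (N := omega k n) (b := i + 1) hS.extClass
      (show 1 + (i + 1) = i + 2 by omega)) := by
  refine (injective_iff_map_eq_zero _).mpr fun x hx => ?_
  obtain ⟨y, rfl⟩ := Ext.contravariant_sequence_exact₁ hS (omega k n) x (by omega) hx
  rw [hE.ext_eq_zero i y, Ext.comp_zero]

omit hE in
theorem compLeft_mk₀_eq_zero_iff (φ : S.X₁ ⟶ omega k n) :
    hS.extClass.comp (Ext.mk₀ φ) (add_zero 1) = 0 ↔ ∃ a : S.X₂ ⟶ omega k n, S.f ≫ a = φ := by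
  constructor
  · intro h
    obtain ⟨y, hy⟩ := Ext.contravariant_sequence_exact₁ hS (omega k n) (Ext.mk₀ φ) (add_zero 1) h
    obtain ⟨a, rfl⟩ := (Ext.mk₀_bijective _ _).2 y
    rw [Ext.mk₀_comp_mk₀] at hy
    exact ⟨a, (Ext.mk₀_bijective _ _).1 hy⟩
  · rintro ⟨a, rfl⟩
    rw [← Ext.mk₀_comp_mk₀]
    exact hS.extClass_comp_assoc _

theorem hDelta_injective {m : ℕ} (hm : m < n) : Function.Injective (EulerDeg.hDelta k hS m) := by
  refine (injective_iff_map_eq_zero _).mpr fun x hx => ?_
  obtain ⟨y, rfl⟩ := (EulerDeg.exact_right k hS m x).mp hx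
  rw [hE.hh_eq_zero hm y]
  exact map_zero _

theorem hDelta_surjective {m : ℕ} (hm : m + 1 < n) :
    Function.Surjective (EulerDeg.hDelta k hS m) := fun y =>
  (EulerDeg.exact_left k hS m y).mp (hE.hh_eq_zero hm _)

end Step

/-- Serre duality on projective space. -/
theorem ext_duality (i : ℕ) : ∀ (F : (CohB1.ProjSpace n k).Modules), Coh.IsCoh F →
    (i ≤ n → Nonempty (Ext F (omega k n) i ≃ₗ[k]
      Module.Dual k (Coh.HH (CohB1.ProjSpace n k) F (n - i)))) ∧
    (n < i → Subsingleton (Ext F (omega k n) i)) := by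
  induction i with
  | zero =>
    exact fun F hF => ⟨fun _ => ⟨Ext.linearEquiv₀ (R := k) ≪≫ₗ theta hF⟩, fun h => absurd h (by omega)⟩
  | succ i ih =>
    intro F hF
    obtain ⟨S, hS, rfl, hE, hK⟩ := exists_negSum_seq F hF
    let g := compLeft (k := k) (N := omega k n) (b := i) hS.extClass (show 1 + i = i + 1 by omega)
    have hg : Function.Surjective g := compLeft_surjective hS hE i
    rcases i with _ | j
    · let e : Ext S.X₁ (omega k n) 0 ≃ₗ[k] (S.X₁ ⟶ omega k n) := Ext.linearEquiv₀ (R := k)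
      have hker : ∀ φ, g (e.symm φ) = 0 ↔ ∃ a : S.X₂ ⟶ omega k n, S.f ≫ a = φ :=
        compLeft_mk₀_eq_zero_iff hS
      constructor
      · intro h1
        obtain ⟨m, rfl⟩ : ∃ m, n = m + 1 := ⟨n - 1, by omega⟩
        let δ := EulerDeg.hDelta k hS m
        let f := δ.dualMap.comp (theta hK).toLinearMap
        refine nonempty_linearEquiv_of_ker_eq (g.comp e.symm.toLinearMap) f
          (hg.comp e.symm.surjective)
          ((LinearMap.dualMap_surjective_of_injective (hDelta_injective hS hE (Nat.lt_succ_self m))).comp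
            (theta hK).surjective) fun φ => (hker φ).trans ⟨?_, fun h => ?_⟩
        · rintro ⟨a, rfl⟩
          refine LinearMap.ext fun x => ?_
          change theta hK (S.f ≫ a) (δ x) = 0
          rw [theta_comp hK hE.isCoh, LinearMap.dualMap_apply,
            (EulerDeg.exact_left k hS m _).mpr ⟨x, rfl⟩]
          exact map_zero _
        · have hr : theta hK φ ∈ LinearMap.range (EulerDeg.hMap k S.f (m + 1)).dualMap := by
            rw [LinearMap.range_dualMap_eq_dualAnnihilator_ker, Submodule.mem_dualAnnihilator]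
            intro y hy
            obtain ⟨x, rfl⟩ := (EulerDeg.exact_left k hS m y).mp (LinearMap.mem_ker.mp hy)
            exact LinearMap.congr_fun h x
          obtain ⟨χ, hχ⟩ := hr
          refine ⟨(theta hE.isCoh).symm χ, (theta hK).injective ?_⟩
          rw [theta_comp hK hE.isCoh, LinearEquiv.apply_symm_apply, hχ]
      · intro h1
        obtain rfl : n = 0 := by omega
        refine subsingleton_of_forall_eq 0 fun y => ?_
        obtain ⟨x, rfl⟩ := hg y
        rw [← e.symm_apply_apply x, hker]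
        obtain ⟨χ, hχ⟩ := LinearMap.dualMap_surjective_of_injective
          (EulerDeg.injective_zero k hS) (theta hK (e x))
        refine ⟨(theta hE.isCoh).symm χ, (theta hK).injective ?_⟩
        rw [theta_comp hK hE.isCoh, LinearEquiv.apply_symm_apply, hχ]
    · have hg' : Function.Injective g := compLeft_injective hS hE j
      let eg := LinearEquiv.ofBijective g ⟨hg', hg⟩
      obtain ⟨ih1, ih2⟩ := ih S.X₁ hK
      constructor
      · intro h2
        obtain ⟨e⟩ := ih1 (by omega)
        obtain ⟨m, hm, hm'⟩ : ∃ m, n - (j + 1 + 1) = m ∧ n - (j + 1) = m + 1 :=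
          ⟨_, rfl, by omega⟩
        rw [hm]
        rw [hm'] at e
        exact ⟨eg.symm ≪≫ₗ e ≪≫ₗ (LinearEquiv.ofBijective (EulerDeg.hDelta k hS m)
          ⟨hDelta_injective hS hE (by omega), hDelta_surjective hS hE (by omega)⟩).dualMap⟩
      · intro h2
        suffices Subsingleton (Ext S.X₁ (omega k n) (j + 1)) from eg.symm.injective.subsingleton
        rcases Nat.lt_or_ge n (j + 1) with h | h
        · exact ih2 h
        · obtain ⟨e⟩ := ih1 h
          rw [show n - (j + 1) = 0 by omega] at e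
          have : Subsingleton (Coh.HH (CohB1.ProjSpace n k) S.X₁ 0) :=
            subsingleton_of_forall_eq 0 fun x => EulerDeg.injective_zero k hS
              ((hE.hh_eq_zero (by omega) _).trans (map_zero _).symm)
          exact e.injective.subsingleton

end Groth.Duality.Pn
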