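import Groth.Agent.Duality.StalkHom
import Groth.Agent.Duality.ExtShift
import Groth.Agent.Duality.HomTwist
import Groth.Agent.Duality.PnExtDuality
import Groth.Agent.KTheory.LocFree
import Groth.Agent.DerivedCoh.PCoh.TensorPerfect
import Groth.Agent.Inter.Twist
import Groth.Agent.Variety2.ProjDim
import Groth.Agent.PnCoh.GeneralTwist
import Groth.Agent.Ega2Proj.TwistPow
import Mathlib.Algebra.Category.ModuleCat.Projective
import Mathlib.Algebra.Category.ModuleCat.Ext.HasExt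

/-!
# `Ext(F, G(m))` for large `m` against `Ext` of the stalks
-/

set_option autoImplicit false

universe u

open CategoryTheory CategoryTheory.Limits AlgebraicGeometry

noncomputable section

namespace Groth.Duality.SheafHom

variable {X : Scheme.{u}}

theorem nonempty_sheafHom_twistIso_app {L M : X.Modules} (h : ClSub.IsInverseOf L M)
    (F G : X.Modules) [DCoh.HasSheafHom F] :
    Nonempty ((DCoh.sheafHom F).obj ((DCoh.tensorRightMod L).obj G) ≅
      (DCoh.tensorRightMod L).obj ((DCoh.sheafHom F).obj G)) :=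
  ⟨(sheafHomTwistIso F h).app G⟩

theorem nonempty_sheafHom_inverse_app {L M : X.Modules} (h : ClSub.IsInverseOf L M)
    [DCoh.HasSheafHom L] (G : X.Modules) :
    Nonempty ((DCoh.sheafHom L).obj G ≅ CohB1.tensorMod G M) :=
  ⟨(sheafHomIsoTensor h).app G⟩

theorem nonempty_tensor_congr_right (G : X.Modules) {N P : X.Modules} (t : N ≅ P) :
    Nonempty (CohB1.tensorMod G N ≅ CohB1.tensorMod G P) :=
  ⟨(DCoh.tensorBi.obj G).mapIso t⟩

theorem nonempty_tensor_congr_left (L : X.Modules) {N P : X.Modules} (t : N ≅ P) :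
    Nonempty (CohB1.tensorMod N L ≅ CohB1.tensorMod P L) :=
  ⟨(DCoh.tensorRightMod L).mapIso t⟩

/-- The sheaf of families of stalk maps commutes with twists. -/
theorem nonempty_homSh_twist {L M : X.Modules} (h : ClSub.IsInverseOf L M) (F G : X.Modules) :
    Nonempty (RefHull.homSh F (CohB1.tensorMod G L) ≅ CohB1.tensorMod (RefHull.homSh F G) L) := by
  have := SheafHom.hasSheafHom F
  obtain ⟨a⟩ : Nonempty ((DCoh.sheafHom F).obj (CohB1.tensorMod G L) ≅
      CohB1.tensorMod ((DCoh.sheafHom F).obj G) L) := nonempty_sheafHom_twistIso_app h F G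
  obtain ⟨b⟩ := nonempty_tensor_congr_left L (CohTwo.SheafHomIso.iso F G)
  exact ⟨(CohTwo.SheafHomIso.iso F (CohB1.tensorMod G L)).symm ≪≫ a ≪≫ b⟩

/-- `Hom(L, G ⊗ N) ≅ G ⊗ P` for `L ⊗ M = O` and `N ⊗ M ≅ P`. -/
theorem nonempty_sheafHom_twist {L M N P : X.Modules} (h : ClSub.IsInverseOf L M)
    [DCoh.HasSheafHom L] (t : CohB1.tensorMod N M ≅ P) (G : X.Modules) :
    Nonempty ((DCoh.sheafHom L).obj (CohB1.tensorMod G N) ≅ CohB1.tensorMod G P) := by
  obtain ⟨a⟩ := nonempty_sheafHom_inverse_app h (CohB1.tensorMod G N)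
  obtain ⟨e, -⟩ := PicAux.exists_associator G N M
  obtain ⟨b⟩ := nonempty_tensor_congr_right G t
  exact ⟨a ≪≫ e ≪≫ b⟩

end Groth.Duality.SheafHom

namespace Groth.Duality.Pn

open Groth.PnCoh


variable {k : Type u} [Field k] {n : ℕ}

/-- `G(m)`. -/
abbrev tw (G : (CohB1.ProjSpace n k).Modules) (m : ℤ) : (CohB1.ProjSpace n k).Modules :=
  CohB1.tensorMod G (Twist.twistProjSpace n k m)

theorem isCoh_tw {G : (CohB1.ProjSpace n k).Modules} (hG : Coh.IsCoh G) (m : ℤ) :
    Coh.IsCoh (tw G m) :=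
  have := isLocallyNoetherian_projSpace n k
  RefRank.isCoh_tensorMod hG (isCoh_twist n k m)

theorem nonempty_stalk_tw (G : (CohB1.ProjSpace n k).Modules) (m : ℤ)
    (x : CohB1.ProjSpace n k) :
    Nonempty (G.presheaf.stalk x ≃ₗ[(CohB1.ProjSpace n k).presheaf.stalk x]
      (tw G m).presheaf.stalk x) :=
  ⟨(TensorProduct.rid _ _).symm ≪≫ₗ
    TensorProduct.congr (LinearEquiv.refl _ _)
      (Inter.exists_stalk_equiv (PnCoh.isInvertible_twist n k m) x).some ≪≫ₗ
    QCohMod.stalkTensorEquiv G (Twist.twistProjSpace n k m) x⟩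

theorem nonempty_homSh_tw (F G : (CohB1.ProjSpace n k).Modules) (m : ℤ) :
    Nonempty (RefHull.homSh F (tw G m) ≅ tw (RefHull.homSh F G) m) :=
  SheafHom.nonempty_homSh_twist (isInverseOf_twist n k m) F G

theorem exists_spans_homSh_tw {F G : (CohB1.ProjSpace n k).Modules} (hF : Coh.IsCoh F)
    (hG : Coh.IsCoh G) :
    ∃ m₀ : ℤ, ∀ m : ℤ, m₀ ≤ m → Ega2Proj.SpansStalks (RefHull.homSh F (tw G m)) := by
  have := isLocallyNoetherian_projSpace n k
  have hc : CompactSpace (CohB1.ProjSpace n k) :=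
    @QuasiCompact.compactSpace_of_compactSpace _ _ (CohB1.ProjSpace.toSpec n k)
      (have := Variety2.isProper_projSpace_toSpec n k; inferInstance) inferInstance
  have : CompactSpace (Proj (CohB1.polyGrading n k)) := hc
  have hL : CohB1.IsAmple (Twist.twistProjSpace n k ((1 : ℕ) : ℤ)) :=
    isAmple_twist_of_cover Nat.one_pos
      (Ega2Proj.iSup_basicOpen_eq_top_of_span (irrelevant_le_span_one n k))
  have hH := RefRank.isCoh_homSh hF hG
  have := hH.1
  obtain ⟨N, hN⟩ := Ega2Proj.exists_spans_twist hL (RefHull.homSh F G) hH.2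
  refine ⟨(N : ℤ), fun m hm => ?_⟩
  obtain ⟨j, rfl⟩ := Int.eq_ofNat_of_zero_le ((Int.natCast_nonneg N).trans hm)
  obtain ⟨e⟩ := Ega2Proj.nonempty_pow_iso (irrelevant_le_span_one n k) j
  obtain ⟨θ⟩ := nonempty_homSh_tw F G (j : ℤ)
  exact Ega2Proj.SpansStalks.of_iso
    ((DCoh.tensorBi.obj (RefHull.homSh F G)).mapIso e.symm ≪≫ θ.symm)
    (hN j (by omega))

variable [HasExt.{u} (CohB1.ProjSpace n k).Modules]

/-- A finite sum of twists. -/
def IsTwistSum (E : (CohB1.ProjSpace n k).Modules) : Prop :=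
  ∃ (r : ℕ) (d : Fin r → ℤ), E = ∐ fun j => Twist.twistProjSpace n k (d j)

omit [HasExt.{u} (CohB1.ProjSpace n k).Modules] in
theorem isFinLocFree_twist (d : ℤ) : FlatMod.IsFinLocFree (Twist.twistProjSpace n k d) :=
  fun x => let ⟨U, hx, e⟩ := LocFree.isInvertible_iff_ofRank_one.mp (PnCoh.isInvertible_twist n k d) x
    ⟨U, 1, hx, e⟩

omit [HasExt.{u} (CohB1.ProjSpace n k).Modules] in
theorem IsTwistSum.isFinLocFree {E : (CohB1.ProjSpace n k).Modules} (hE : IsTwistSum E) :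
    FlatMod.IsFinLocFree E := by
  obtain ⟨r, d, rfl⟩ := hE
  exact DerivedCoh.PCoh.isFinLocFree_sigma_finite _ _ fun j => isFinLocFree_twist (d j)

omit [HasExt.{u} (CohB1.ProjSpace n k).Modules] in
theorem exists_twistSum_seq (F : (CohB1.ProjSpace n k).Modules) (hF : Coh.IsCoh F) :
    ∃ S : ShortComplex (CohB1.ProjSpace n k).Modules,
      S.ShortExact ∧ S.X₃ = F ∧ IsTwistSum S.X₂ ∧ Coh.IsCoh S.X₁ ∧ Coh.IsCoh S.X₂ := by
  obtain ⟨S, hS, h3, hE, hK⟩ := exists_negSum_seq F hF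
  have hc := hE.isCoh
  obtain ⟨r, d, -, e⟩ := hE
  exact ⟨S, hS, h3, ⟨r, d, e⟩, hK, hc⟩

/-- High twists kill the higher `Ext` out of a sum of twists. -/
theorem IsTwistSum.exists_subsingleton {E : (CohB1.ProjSpace n k).Modules} (hE : IsTwistSum E)
    {G : (CohB1.ProjSpace n k).Modules} (hG : Coh.IsCoh G) :
    ∃ m₀ : ℤ, ∀ m : ℤ, m₀ ≤ m → ∀ q : ℕ, Subsingleton (Abelian.Ext E (tw G m) (q + 1)) := by
  obtain ⟨r, d, rfl⟩ := hE
  obtain ⟨d₀, hd₀⟩ := exists_subsingleton_twistBy n k G hG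
  let s : ℤ := ∑ j, |d j|
  refine ⟨d₀ + s, fun m hm q => subsingleton_of_forall_eq 0 fun x => ?_⟩
  let M := fun j => Twist.twistProjSpace n k (d j)
  rw [← Abelian.Ext.mk₀_id_comp x, ← sigmaProj_total M, Abelian.Ext.mk₀_sum, Abelian.Ext.sum_comp]
  refine Finset.sum_eq_zero fun j _ => ?_
  have h0 : Subsingleton (Abelian.Ext (M j) (tw G m) (q + 1)) := by
    have := SheafHom.hasSheafHom (M j)
    obtain ⟨e⟩ := SheafHom.nonempty_ext_linearEquiv k (M j) (isFinLocFree_twist (d j)) (q + 1)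
      (tw G m)
    obtain ⟨t⟩ := nonempty_twist_tensor n k m (-(d j))
    obtain ⟨θ⟩ := SheafHom.nonempty_sheafHom_twist (isInverseOf_twist n k (d j)) t G
    have h1 : |d j| ≤ s := Finset.single_le_sum (f := fun i => |d i|) (fun i _ => abs_nonneg _)
      (Finset.mem_univ j)
    have h2 := le_abs_self (d j)
    have hv : Subsingleton (Coh.HH (CohB1.ProjSpace n k)
        (CohB1.tensorMod G (Twist.twistProjSpace n k (m + -(d j)))) (q + 1)) :=
      hd₀ (m + -(d j)) (by omega) (q + 1) (by omega)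
    exact @Function.Injective.subsingleton _ _ _ (e ≪≫ₗ EulerDeg.hEquiv k θ (q + 1)).injective hv
  rw [← Abelian.Ext.mk₀_comp_mk₀, Abelian.Ext.comp_assoc_of_second_deg_zero,
    h0.elim ((Abelian.Ext.mk₀ (Sigma.ι M j)).comp x (zero_add _)) 0, Abelian.Ext.comp_zero]

/-- `Ext^j` of the stalks vanishes. -/
def StalkExtZero (F G : (CohB1.ProjSpace n k).Modules) (j : ℕ) (x : CohB1.ProjSpace n k) : Prop :=
  Subsingleton (Abelian.Ext.{u}
    (ModuleCat.of ((CohB1.ProjSpace n k).presheaf.stalk x) (F.presheaf.stalk x))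
    (ModuleCat.of ((CohB1.ProjSpace n k).presheaf.stalk x) (G.presheaf.stalk x)) j)

omit [HasExt.{u} (CohB1.ProjSpace n k).Modules] in
theorem stalkExtZero_tw_iff (F G : (CohB1.ProjSpace n k).Modules) (j : ℕ) (m : ℤ)
    (x : CohB1.ProjSpace n k) : StalkExtZero F (tw G m) j x ↔ StalkExtZero F G j x := by
  obtain ⟨e⟩ := nonempty_stalk_tw G m x
  exact ⟨subsingleton_ext_congr_right _ e.symm.toModuleIso j,
    subsingleton_ext_congr_right _ e.toModuleIso j⟩

omit [HasExt.{u} (CohB1.ProjSpace n k).Modules] in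
theorem stalkExtZero_zero_iff (F G : (CohB1.ProjSpace n k).Modules) (x : CohB1.ProjSpace n k) :
    StalkExtZero F G 0 x ↔ Subsingleton (RefHull.StalkHom F G x) :=
  (subsingleton_ext_zero_iff _ _).trans
    ⟨fun h => subsingleton_of_forall_eq 0 fun φ =>
      congrArg ModuleCat.Hom.hom (h (ModuleCat.ofHom φ)),
    fun h φ => ModuleCat.hom_ext (h.elim _ _)⟩

omit [HasExt.{u} (CohB1.ProjSpace n k).Modules] in
theorem projective_stalk {E : (CohB1.ProjSpace n k).Modules} (hE : IsTwistSum E)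
    (x : CohB1.ProjSpace n k) :
    Projective (ModuleCat.of ((CohB1.ProjSpace n k).presheaf.stalk x) (E.presheaf.stalk x)) := by
  have := KTheory.LocFree.free_stalk hE.isFinLocFree x
  have : Module.Projective ((CohB1.ProjSpace n k).presheaf.stalk x) (E.presheaf.stalk x) :=
    Module.Projective.of_free
  exact inferInstance

variable {S : ShortComplex (CohB1.ProjSpace n k).Modules} (hS : S.ShortExact)
  (hE : IsTwistSum S.X₂)

include hS hE

omit [HasExt.{u} (CohB1.ProjSpace n k).Modules] in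
theorem stalkExtZero_succ_iff (G : (CohB1.ProjSpace n k).Modules) (j : ℕ)
    (x : CohB1.ProjSpace n k) :
    StalkExtZero S.X₃ G (j + 2) x ↔ StalkExtZero S.X₁ G (j + 1) x := by
  have : Projective (StalkHom.stalkSC S x).X₂ := projective_stalk hE x
  exact subsingleton_ext_succ_iff (StalkHom.shortExact_stalkSC hS x) _ j
    (Abelian.Ext.subsingleton_of_projective _ _ _) (Abelian.Ext.subsingleton_of_projective _ _ _)

omit [HasExt.{u} (CohB1.ProjSpace n k).Modules] in
theorem stalkExtZero_one_iff (G : (CohB1.ProjSpace n k).Modules) (x : CohB1.ProjSpace n k) :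
    StalkExtZero S.X₃ G 1 x ↔ StalkHom.ExtendsAt S G x := by
  have : Projective (StalkHom.stalkSC S x).X₂ := projective_stalk hE x
  refine (subsingleton_ext_one_iff (StalkHom.shortExact_stalkSC hS x) _
    (Abelian.Ext.subsingleton_of_projective _ _ _)).trans ⟨fun h ψ => ?_, fun h φ => ?_⟩
  · obtain ⟨a, ha⟩ := h (ModuleCat.ofHom ψ)
    exact ⟨a.hom, congrArg ModuleCat.Hom.hom ha⟩
  · obtain ⟨a, ha⟩ := h φ.hom
    exact ⟨ModuleCat.ofHom a, ModuleCat.hom_ext ha⟩

omit hE in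
omit [HasExt.{u} (CohB1.ProjSpace n k).Modules] in
/-- Morphisms extend over the whole space once stalk maps extend and `H¹` of the sheaf Hom vanishes. -/
theorem exists_extend (h₁ : Coh.IsCoh S.X₁) (h₂ : Coh.IsCoh S.X₂) (h₃ : Coh.IsCoh S.X₃)
    (G : (CohB1.ProjSpace n k).Modules) (h : ∀ x, StalkHom.ExtendsAt S G x)
    (hH : Subsingleton (Coh.HH (CohB1.ProjSpace n k) (RefHull.homSh S.X₃ G) 1))
    (φ : S.X₁ ⟶ G) : ∃ a : S.X₂ ⟶ G, S.f ≫ a = φ := by
  have := isLocallyNoetherian_projSpace n k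
  have hT := StalkHom.shortExact_homSeq hS h₁ h₂ h₃ G h
  let s : Γ(RefHull.homSh S.X₁ G, ⊤) := RefHull.ofHom φ ⊤
  obtain ⟨y, hy⟩ := (EulerDeg.exact_right k hT 0 ((SheafHom.h0 _).symm s)).mp
    (@Subsingleton.elim _ hH _ _)
  let t : Γ(RefHull.homSh S.X₂ G, ⊤) := SheafHom.h0 _ y
  have ht : (StalkHom.pre G S.f).app ⊤ t = s := by
    apply (SheafHom.h0 (RefHull.homSh S.X₁ G)).symm.injective
    refine Eq.trans ?_ hy
    rw [← (SheafHom.h0 (RefHull.homSh S.X₂ G)).symm_apply_apply y]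
    exact (Sheaf.H.equiv₀_symm_naturality _ (EulerDeg.abMap (StalkHom.pre G S.f)) t).symm
  refine ⟨StalkHom.toMor t, StalkHom.hom_ext_stalk fun x => LinearMap.ext fun v => ?_⟩
  rw [StalkHom.stalkMapₗ_comp_apply, StalkHom.stalkMapₗ_toMor, ← LinearMap.comp_apply,
    ← StalkHom.pre_val G S.f t ⟨x, trivial⟩, ht]
  rfl

omit hS hE

/-- `Ext^j(F, G(m))` vanishes for large `m` exactly when `Ext^j` of the stalks vanishes. -/
theorem ext_vanish_criterion {G : (CohB1.ProjSpace n k).Modules} (hG : Coh.IsCoh G) (j : ℕ) :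
    ∀ F : (CohB1.ProjSpace n k).Modules, Coh.IsCoh F →
      ((∃ m₀ : ℤ, ∀ m : ℤ, m₀ ≤ m → Subsingleton (Abelian.Ext F (tw G m) j)) →
        ∀ x, StalkExtZero F G j x) ∧
      ((∀ x : CohB1.ProjSpace n k, IsClosed ({x} : Set (CohB1.ProjSpace n k)) →
          StalkExtZero F G j x) →
        ∃ m₀ : ℤ, ∀ m : ℤ, m₀ ≤ m → Subsingleton (Abelian.Ext F (tw G m) j)) := by
  have := isLocallyNoetherian_projSpace n k
  induction j with
  | zero =>
    intro F hF
    constructor
    · rintro ⟨m₀, hm₀⟩ x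
      obtain ⟨m₁, hm₁⟩ := exists_spans_homSh_tw hF hG
      have h := StalkHom.subsingleton_hom_of_spans hF (hm₁ (max m₀ m₁) (le_max_right _ _))
        ((subsingleton_ext_zero_iff _ _).mp (hm₀ (max m₀ m₁) (le_max_left _ _))) x
      exact (stalkExtZero_tw_iff F G 0 (max m₀ m₁) x).mp ((stalkExtZero_zero_iff _ _ x).mpr h)
    · intro h
      refine ⟨0, fun m _ => (subsingleton_ext_zero_iff _ _).mpr fun φ =>
        StalkHom.hom_ext_stalk fun x => ?_⟩
      exact (StalkHom.subsingleton_hom_of_closed hF (isCoh_tw hG m) (fun y hy =>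
        (stalkExtZero_zero_iff _ _ y).mp ((stalkExtZero_tw_iff F G 0 m y).mpr (h y hy))) x).elim _ _
  | succ i ih =>
    intro F hF
    obtain ⟨S, hS, rfl, hE, hK, hE'⟩ := exists_twistSum_seq F hF
    obtain ⟨m₁, hm₁⟩ := hE.exists_subsingleton hG
    rcases i with _ | j
    · constructor
      · rintro ⟨m₀, hm₀⟩ x
        obtain ⟨m₂, hm₂⟩ := exists_spans_homSh_tw hK hG
        obtain ⟨m, h0, h1, h2⟩ : ∃ m, m₀ ≤ m ∧ m₁ ≤ m ∧ m₂ ≤ m :=
          ⟨max m₀ (max m₁ m₂), by omega, by omega, by omega⟩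
        refine (stalkExtZero_tw_iff S.X₃ G 1 m x).mp ((stalkExtZero_one_iff hS hE _ x).mpr ?_)
        exact StalkHom.extendsAt_of_spans hK (hm₂ m h2)
          ((subsingleton_ext_one_iff hS _ (hm₁ m h1 0)).mp (hm₀ m h0)) x
      · intro h
        obtain ⟨m₂, hm₂⟩ := exists_subsingleton_twistBy n k _ (RefRank.isCoh_homSh hF hG)
        refine ⟨max m₁ m₂, fun m hm => ?_⟩
        refine (subsingleton_ext_one_iff hS _ (hm₁ m (by omega) 0)).mpr fun φ => ?_
        have hc := StalkHom.extendsAt_of_closed (S := S) hK hE' (isCoh_tw hG m) fun y hy =>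
          (stalkExtZero_one_iff hS hE _ y).mp ((stalkExtZero_tw_iff S.X₃ G 1 m y).mpr (h y hy))
        obtain ⟨θ⟩ := nonempty_homSh_tw S.X₃ G m
        exact exists_extend hS hK hE' hF (tw G m) hc (subsingleton_HH_of_iso
          (CohB1.ProjSpace.toSpec n k) θ.symm (hm₂ m (by omega) 1 Nat.one_pos)) φ
    · obtain ⟨ih1, ih2⟩ := ih S.X₁ hK
      constructor
      · rintro ⟨m₀, hm₀⟩ x
        refine (stalkExtZero_succ_iff hS hE G j x).mpr (ih1 ⟨max m₀ m₁, fun m hm => ?_⟩ x)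
        exact (subsingleton_ext_succ_iff hS _ j (hm₁ m (by omega) j) (hm₁ m (by omega) (j + 1))).mp
          (hm₀ m (by omega))
      · intro h
        obtain ⟨m₀, hm₀⟩ := ih2 fun x hx => (stalkExtZero_succ_iff hS hE G j x).mp (h x hx)
        exact ⟨max m₀ m₁, fun m hm =>
          (subsingleton_ext_succ_iff hS _ j (hm₁ m (by omega) j) (hm₁ m (by omega) (j + 1))).mpr
            (hm₀ m (by omega))⟩

end Groth.Duality.Pn
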