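import Groth.Prelude.Def_QFDual
import Mathlib.Algebra.Module.FinitePresentation
import Mathlib.RingTheory.TensorProduct.IsBaseChangeFree
import Mathlib.RingTheory.Flat.Stability
import Mathlib.RingTheory.Finiteness.ModuleFinitePresentation
import Mathlib.RingTheory.LocalRing.Module
import Mathlib.RingTheory.Support
import Mathlib.RingTheory.Ideal.Colon
import Mathlib.RingTheory.PicardGroup
import Mathlib.RingTheory.Flat.FaithfullyFlat.Basic

/-!
# Base change of the finite dualizing module `Disc.Omega` and of the different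
-/

set_option autoImplicit false

universe u

open TensorProduct QFDual Disc

namespace Groth.Duality.QF

variable {A B' A₁ B'₁ : Type u} [CommRing A] [CommRing B'] [CommRing A₁] [CommRing B'₁]
  [Algebra A B'] [Algebra A A₁] [Algebra B' B'₁] [Algebra A₁ B'₁] [Algebra A B'₁]
  [IsScalarTower A A₁ B'₁] [IsScalarTower A B' B'₁]

lemma bcFin_toLinearMap (h : Algebra.IsPushout A A₁ B' B'₁) (φ : Omega A B') :
    (bcFin h φ).toLinearMap = h.out.toDual φ.toLinearMap := rfl

lemma isBaseChange_toDual_of_flat [IsNoetherianRing A] [Module.Finite A B'] [Module.Flat A A₁]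
    (h : Algebra.IsPushout A A₁ B' B'₁) : IsBaseChange A₁ h.out.toDual := by
  haveI : Module.FinitePresentation A B' := Module.finitePresentation_of_finite A B'
  let E : ((A₁ ⊗[A] B') →ₗ[A₁] (A₁ ⊗[A] A)) ≃ₗ[A₁] (B'₁ →ₗ[A₁] A₁) :=
    LinearEquiv.arrowCongr h.out.equiv (AlgebraTensorModule.rid A A₁ A₁)
  have hc := (Module.FinitePresentation.isBaseChange_map A B' A A₁).comp (IsBaseChange.ofEquiv E)
  convert hc using 1
  apply LinearMap.ext
  intro f
  rw [h.out.toDual_apply]
  apply h.out.algHom_ext
  intro x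
  simp [E, Module.Dual.baseChange]

/-- `B'₁ ⊗ Hom(B', A) ⟶ Hom(B'₁, A₁)` is bijective as soon as formation of the dual commutes
with `A → A₁`. -/
lemma bijective_omegaBC_self (h : Algebra.IsPushout A A₁ B' B'₁) (hd : IsBaseChange A₁ h.out.toDual) :
    Function.Bijective (omegaBC (B₁ := B'₁) h) := by
  let j : A₁ ⊗[A] Module.Dual A B' →+ omega A B' B'₁ :=
    TensorProduct.liftAddHom
      { toFun := fun a =>
          { toFun := fun φ => algebraMap A₁ B'₁ a ⊗ₜ[B'] (Omega.mk φ)
            map_zero' := tmul_zero _ _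
            map_add' := fun φ ψ => tmul_add _ (Omega.mk φ) (Omega.mk ψ) }
        map_zero' := by ext φ; simp
        map_add' := fun a b => by ext φ; simp [add_tmul] }
      (fun r a φ => by
        show algebraMap A₁ B'₁ (r • a) ⊗ₜ[B'] (Omega.mk φ) =
          algebraMap A₁ B'₁ a ⊗ₜ[B'] (Omega.mk (r • φ))
        have hr : (Omega.mk (r • φ) : Omega A B') = algebraMap A B' r • Omega.mk φ := by
          apply Omega.ext
          apply LinearMap.ext
          intro x
          simp [← Algebra.smul_def]
        rw [hr, ← smul_tmul, ← algebraMap_smul B'₁ (algebraMap A B' r), smul_eq_mul,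
          ← IsScalarTower.algebraMap_apply A B' B'₁, Algebra.smul_def, map_mul,
          ← IsScalarTower.algebraMap_apply A A₁ B'₁])
  have hj : ∀ a φ, j (a ⊗ₜ φ) = algebraMap A₁ B'₁ a ⊗ₜ[B'] (Omega.mk φ) := fun _ _ => rfl
  have hcomp : ∀ t, (omegaBC h (j t)) =
      (1 : B'₁) ⊗ₜ[B'₁] (Omega.mk (hd.equiv t) : Omega A₁ B'₁) := by
    intro t
    induction t using TensorProduct.induction_on with
    | zero => rw [map_zero, map_zero, map_zero]; exact (tmul_zero _ _).symm
    | tmul a φ =>
      rw [hj, omegaBC_tmul, hd.equiv_tmul]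
      have : (Omega.mk (a • h.out.toDual φ) : Omega A₁ B'₁) =
          algebraMap A₁ B'₁ a • bcFin h (Omega.mk φ) := by
        apply Omega.ext
        apply LinearMap.ext
        intro x
        rw [Omega.smul_toLinearMap_apply, ← Algebra.smul_def, map_smul]
        rfl
      rw [this, tmul_smul, smul_tmul', smul_eq_mul, mul_one]
    | add x y hx hy =>
      rw [map_add, map_add, map_add, hx, hy]
      exact (tmul_add _ _ _).symm
  have hjsurj : Function.Surjective j := by
    intro w
    induction w using TensorProduct.induction_on with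
    | zero => exact ⟨0, map_zero j⟩
    | add x y hx hy =>
      obtain ⟨a, rfl⟩ := hx; obtain ⟨b, rfl⟩ := hy
      exact ⟨a + b, map_add j a b⟩
    | tmul c φ =>
      induction c using h.out.inductionOn with
      | zero => exact ⟨0, by rw [map_zero, zero_tmul]⟩
      | tmul b =>
        refine ⟨1 ⊗ₜ (b • φ).toLinearMap, ?_⟩
        rw [hj, map_one]
        show (1 : B'₁) ⊗ₜ[B'] (b • φ) = _
        rw [← smul_tmul]
        simp [Algebra.smul_def]
      | add x y hx hy =>
        obtain ⟨a, ha⟩ := hx; obtain ⟨b, hb⟩ := hy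
        exact ⟨a + b, by rw [map_add, ha, hb, add_tmul]⟩
      | smul s n hn =>
        obtain ⟨a, ha⟩ := hn
        refine ⟨s • a, ?_⟩
        have hs : ∀ t, j (s • t) = algebraMap A₁ B'₁ s • j t := by
          intro t
          induction t using TensorProduct.induction_on with
          | zero => rw [smul_zero, map_zero, smul_zero]
          | add x y hx hy => rw [smul_add, map_add, map_add, hx, hy, smul_add]
          | tmul a ψ => rw [smul_tmul', hj, hj, smul_tmul', smul_eq_mul, map_mul, smul_eq_mul]
        rw [hs, ha, smul_tmul', smul_eq_mul, Algebra.smul_def]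
  let k : (B'₁ →ₗ[A₁] A₁) → omega A₁ B'₁ B'₁ := fun ψ => (1 : B'₁) ⊗ₜ[B'₁] Omega.mk ψ
  have hk : Function.Bijective k :=
    (TensorProduct.lid B'₁ (Omega A₁ B'₁)).symm.bijective.comp
      ⟨fun x y hxy => congrArg Omega.toLinearMap hxy, fun x => ⟨x.toLinearMap, rfl⟩⟩
  have hb : Function.Bijective ((omegaBC (B₁ := B'₁) h) ∘ j) := by
    have : (omegaBC (B₁ := B'₁) h) ∘ j = k ∘ hd.equiv := funext hcomp
    rw [this]
    exact hk.comp hd.equiv.bijective
  exact ⟨Function.Injective.of_comp_right hb.1 hjsurj, hb.2.of_comp⟩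

/-- `B'₁ ⊗ Hom(B', A) ≃ Hom(B'₁, A₁)`. -/
noncomputable def omegaEquiv (h : Algebra.IsPushout A A₁ B' B'₁) (hd : IsBaseChange A₁ h.out.toDual) :
    (B'₁ ⊗[B'] Omega A B') ≃ₗ[B'₁] Omega A₁ B'₁ :=
  (LinearEquiv.ofBijective _ (bijective_omegaBC_self h hd)).trans (TensorProduct.lid B'₁ _)

lemma omegaEquiv_tmul (h : Algebra.IsPushout A A₁ B' B'₁) (hd : IsBaseChange A₁ h.out.toDual)
    (c : B'₁) (φ : Omega A B') : omegaEquiv h hd (c ⊗ₜ φ) = c • bcFin h φ := by
  simp [omegaEquiv]

lemma bijective_omegaBC (h : Algebra.IsPushout A A₁ B' B'₁) (hd : IsBaseChange A₁ h.out.toDual)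
    (B₁ : Type u) [CommRing B₁] [Algebra B'₁ B₁] [Algebra B' B₁] [IsScalarTower B' B'₁ B₁] :
    Function.Bijective (omegaBC (B₁ := B₁) h) := by
  let E := (AlgebraTensorModule.cancelBaseChange B' B'₁ B₁ B₁ (Omega A B')).symm ≪≫ₗ
    AlgebraTensorModule.congr (LinearEquiv.refl B₁ B₁) (omegaEquiv h hd)
  have : omegaBC (B₁ := B₁) h = E.toLinearMap := by
    ext x
    simp [E, omegaEquiv_tmul]
  rw [this]
  exact E.bijective

theorem bijective_omegaBC_of_flat [IsNoetherianRing A] [Module.Finite A B'] [Module.Flat A A₁]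
    (h : Algebra.IsPushout A A₁ B' B'₁) (B₁ : Type u) [CommRing B₁] [Algebra B'₁ B₁] [Algebra B' B₁]
    [IsScalarTower B' B'₁ B₁] : Function.Bijective (omegaBC (B₁ := B₁) h) :=
  bijective_omegaBC h (isBaseChange_toDual_of_flat h) B₁

section Free

variable [Module.Finite A B'] [Module.Free A B'] [Module.Finite A₁ B'₁] [Module.Free A₁ B'₁]

omit [Module.Finite A₁ B'₁] [Module.Free A₁ B'₁] in
lemma isBaseChange_toDual_of_free (h : Algebra.IsPushout A A₁ B' B'₁) :
    IsBaseChange A₁ h.out.toDual := h.out.dual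

lemma bcFin_trace (h : Algebra.IsPushout A A₁ B' B'₁) :
    bcFin h (Omega.trace A B') = Omega.trace A₁ B'₁ := by
  classical
  apply Omega.ext
  refine h.out.algHom_ext _ _ fun x => ?_
  show (bcFin h (Omega.trace A B')).toLinearMap (algebraMap B' B'₁ x) =
    Algebra.trace A₁ B'₁ (algebraMap B' B'₁ x)
  rw [bcFin_apply_algebraMap]
  show algebraMap A A₁ (Algebra.trace A B' x) = _
  let b := Module.Free.chooseBasis A B'
  rw [Algebra.trace_eq_matrix_trace b, Algebra.trace_eq_matrix_trace (h.out.basis b),
    AddMonoidHom.map_trace]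
  congr 1
  ext i j
  show algebraMap A A₁ (Algebra.leftMulMatrix b x i j) = _
  rw [Algebra.leftMulMatrix_eq_repr_mul, Algebra.leftMulMatrix_eq_repr_mul]
  have hb : (h.out.basis b) j = algebraMap B' B'₁ (b j) := by
    simp [IsBaseChange.basis_apply]
  rw [hb, ← map_mul]
  exact (h.out.basis_repr_comp_apply b (x * b j) i).symm

lemma different_eq_annihilator :
    different B' (Omega.trace A B') =
      Module.annihilator B' (Omega A B' ⧸ (B' ∙ Omega.trace A B')) := by
  rw [Submodule.annihilator_quotient]; rfl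

omit [Module.Finite A₁ B'₁] [Module.Free A₁ B'₁] in
lemma mul_mem_different (b : B') (hb : b ∈ different B' (Omega.trace A B'))
    (h : Algebra.IsPushout A A₁ B' B'₁) (m : Omega A₁ B'₁) :
    ∃ c : B'₁, c • bcFin h (Omega.trace A B') = algebraMap B' B'₁ b • m := by
  obtain ⟨t, rfl⟩ := (omegaEquiv h (isBaseChange_toDual_of_free h)).surjective m
  induction t using TensorProduct.induction_on with
  | zero => exact ⟨0, by simp⟩
  | add x y hx hy =>
    obtain ⟨c, hc⟩ := hx; obtain ⟨d, hd⟩ := hy
    exact ⟨c + d, by rw [map_add, smul_add, add_smul, hc, hd]⟩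
  | tmul c φ =>
    obtain ⟨d, hd⟩ := (mem_different_iff B' _ b).1 hb φ
    refine ⟨c * algebraMap B' B'₁ d, ?_⟩
    rw [omegaEquiv_tmul, mul_smul, smul_comm (algebraMap B' B'₁ b) c, ← LinearMap.map_smulₛₗ,
      ← LinearMap.map_smulₛₗ, hd]

theorem map_different_le (h : Algebra.IsPushout A A₁ B' B'₁) :
    (different B' (Omega.trace A B')).map (algebraMap B' B'₁) ≤
      different B'₁ (Omega.trace A₁ B'₁) := by
  rw [Ideal.map_le_iff_le_comap]
  intro b hb
  rw [Ideal.mem_comap, mem_different_iff]
  intro m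
  rw [← bcFin_trace h]
  exact mul_mem_different b hb h m

/-- The comparison `Ω₁ ⟶ B'₁ ⊗ (Ω / B'τ)`. -/
noncomputable def toQuot (h : Algebra.IsPushout A A₁ B' B'₁) :
    Omega A₁ B'₁ →ₗ[B'₁] B'₁ ⊗[B'] (Omega A B' ⧸ (B' ∙ Omega.trace A B')) :=
  (Submodule.mkQ _).baseChange B'₁ ∘ₗ
    (omegaEquiv h (isBaseChange_toDual_of_free h)).symm.toLinearMap

lemma toQuot_surjective (h : Algebra.IsPushout A A₁ B' B'₁) :
    Function.Surjective (toQuot h) :=
  (show Function.Surjective ((Submodule.mkQ (B' ∙ Omega.trace A B')).baseChange B'₁) from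
    LinearMap.lTensor_surjective B'₁ (Submodule.mkQ_surjective _)).comp
      (omegaEquiv h (isBaseChange_toDual_of_free h)).symm.surjective

lemma different_smul_quot (h : Algebra.IsPushout A A₁ B' B'₁) (b : B'₁)
    (hb : b ∈ different B'₁ (Omega.trace A₁ B'₁))
    (x : B'₁ ⊗[B'] (Omega A B' ⧸ (B' ∙ Omega.trace A B'))) : b • x = 0 := by
  obtain ⟨m, rfl⟩ := toQuot_surjective h x
  obtain ⟨c, hc⟩ := (mem_different_iff B'₁ _ b).1 hb m
  have hτ : toQuot h (Omega.trace A₁ B'₁) = 0 := by
    have : (omegaEquiv h (isBaseChange_toDual_of_free h)).symm (Omega.trace A₁ B'₁) =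
        1 ⊗ₜ Omega.trace A B' := by
      rw [LinearEquiv.symm_apply_eq, omegaEquiv_tmul, one_smul, bcFin_trace]
    rw [toQuot, LinearMap.comp_apply, LinearEquiv.coe_coe, this, LinearMap.baseChange_tmul,
      Submodule.mkQ_apply, (Submodule.Quotient.mk_eq_zero _).2 (Submodule.mem_span_singleton_self _),
      tmul_zero]
  rw [← map_smul, ← hc, map_smul, hτ, smul_zero]

instance finite_omega : Module.Finite B' (Omega A B') := by
  let f : Module.Dual A B' → Omega A B' := Omega.mk
  obtain ⟨s, hs⟩ := Module.Finite.fg_top (R := A) (M := Module.Dual A B')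
  classical
  refine ⟨⟨s.image f, ?_⟩⟩
  rw [eq_top_iff]
  rintro ⟨φ⟩ -
  have : φ ∈ Submodule.span A (s : Set (Module.Dual A B')) := hs ▸ trivial
  induction this using Submodule.span_induction with
  | mem x hx => exact Submodule.subset_span (Finset.mem_coe.2 (Finset.mem_image_of_mem f hx))
  | zero => exact Submodule.zero_mem _
  | add x y _ _ hx hy => exact Submodule.add_mem _ hx hy
  | smul a x _ hx =>
    have : f (a • x) = algebraMap A B' a • f x := by
      apply Omega.ext
      apply LinearMap.ext
      intro z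
      simp [f, ← Algebra.smul_def]
    show f (a • x) ∈ _
    rw [this]
    exact Submodule.smul_mem _ _ hx

theorem radical_map_different (h : Algebra.IsPushout A A₁ B' B'₁) :
    ((different B' (Omega.trace A B')).map (algebraMap B' B'₁)).radical =
      (different B'₁ (Omega.trace A₁ B'₁)).radical := by
  refine le_antisymm (Ideal.radical_mono (map_different_le h)) ?_
  conv_rhs => rw [Ideal.radical_eq_sInf]
  refine le_sInf ?_
  rintro q ⟨hDq, hq⟩
  haveI := hq
  refine hq.radical_le_iff.2 fun b hb => ?_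
  by_contra hbq
  let Q : Ideal B' := q.comap (algebraMap B' B'₁)
  have hD : ¬ different B' (Omega.trace A B') ≤ Q := by
    rw [different_eq_annihilator, ← Module.mem_support_iff_of_finite (p := ⟨Q, inferInstance⟩),
      Module.mem_support_iff_nontrivial_residueField_tensorProduct, not_nontrivial_iff_subsingleton]
    letI : Algebra Q.ResidueField q.ResidueField :=
      (Ideal.ResidueField.map Q q (algebraMap B' B'₁) rfl).toAlgebra
    haveI : IsScalarTower B' Q.ResidueField q.ResidueField :=
      IsScalarTower.of_algebraMap_eq fun x => by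
        rw [RingHom.algebraMap_toAlgebra, IsScalarTower.algebraMap_apply B' B'₁ q.ResidueField x]
        exact (Ideal.ResidueField.map_algebraMap _ _ _ _ x).symm
    set N := Omega A B' ⧸ (B' ∙ Omega.trace A B')
    have hs : Subsingleton (q.ResidueField ⊗[B'₁] (B'₁ ⊗[B'] N)) := by
      rw [← not_nontrivial_iff_subsingleton,
        ← Module.mem_support_iff_nontrivial_residueField_tensorProduct ⟨q, hq⟩,
        Module.mem_support_iff_of_finite]
      intro hle
      exact hbq (hle (Module.mem_annihilator.2 fun x => different_smul_quot h b hb x))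
    haveI : Subsingleton (q.ResidueField ⊗[B'] N) :=
      (AlgebraTensorModule.cancelBaseChange B' B'₁ q.ResidueField q.ResidueField N).symm.toEquiv.subsingleton
    haveI : Subsingleton (q.ResidueField ⊗[Q.ResidueField] (Q.ResidueField ⊗[B'] N)) :=
      (AlgebraTensorModule.cancelBaseChange B' Q.ResidueField q.ResidueField q.ResidueField N).toEquiv.subsingleton
    exact (Module.FaithfullyFlat.subsingleton_tensorProduct_iff_right Q.ResidueField q.ResidueField).1
      inferInstance
  exact hD (Ideal.map_le_iff_le_comap.1 hDq)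

theorem map_different_eq_of_flat [Module.Flat A A₁] (h : Algebra.IsPushout A A₁ B' B'₁) :
    (different B' (Omega.trace A B')).map (algebraMap B' B'₁) =
      different B'₁ (Omega.trace A₁ B'₁) := by
  classical
  refine le_antisymm (map_different_le h) fun b hb => ?_
  haveI : Module.Flat B' B'₁ := Module.Flat.isBaseChange A B' A₁ B'₁ h.symm.out
  set N := Omega A B' ⧸ (B' ∙ Omega.trace A B')
  obtain ⟨s, hs⟩ := Module.Finite.fg_top (R := B') (M := N)
  let f : B' →ₗ[B'] (s → N) := LinearMap.pi fun m => LinearMap.toSpanSingleton B' N m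
  have hker : LinearMap.ker f = different B' (Omega.trace A B') := by
    ext x
    rw [different_eq_annihilator, ← Submodule.annihilator_top, ← hs,
      Submodule.mem_annihilator_span]
    simp [f, LinearMap.mem_ker, funext_iff]
    exact ⟨fun H a ha => H a ha, fun H a ha => H a ha⟩
  have hexact : Function.Exact ((LinearMap.ker f).subtype.lTensor B'₁) (f.lTensor B'₁) :=
    Module.Flat.lTensor_exact B'₁ (LinearMap.exact_subtype_ker_map f)
  have h0 : f.lTensor B'₁ (b ⊗ₜ 1) = 0 := by
    apply (TensorProduct.piRight B' B' B'₁ fun _ : s => N).injective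
    rw [map_zero]
    ext m
    have hm := different_smul_quot h b hb ((1 : B'₁) ⊗ₜ (m : N))
    rw [smul_tmul', smul_eq_mul, mul_one] at hm
    simpa [f, TensorProduct.piRightHom_tmul] using hm
  obtain ⟨t, ht⟩ := (hexact _).1 h0
  have hr : ∀ t, TensorProduct.rid B' B'₁ ((LinearMap.ker f).subtype.lTensor B'₁ t) ∈
      (different B' (Omega.trace A B')).map (algebraMap B' B'₁) := by
    intro t
    induction t using TensorProduct.induction_on with
    | zero => simp
    | add x y hx hy => rw [map_add, map_add]; exact Ideal.add_mem _ hx hy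
    | tmul c d =>
      rw [LinearMap.lTensor_tmul, Submodule.subtype_apply, TensorProduct.rid_tmul,
        Algebra.smul_def]
      exact Ideal.mul_mem_right _ _ (Ideal.mem_map_of_mem _ (hker ▸ d.2))
  simpa [ht] using hr t

theorem map_different_eq_of_invertible [Module.Invertible B' (Omega A B')]
    (h : Algebra.IsPushout A A₁ B' B'₁) :
    (different B' (Omega.trace A B')).map (algebraMap B' B'₁) =
      different B'₁ (Omega.trace A₁ B'₁) := by
  refine le_antisymm (map_different_le h) fun b hb => ?_
  set τ := Omega.trace A B'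
  let E := omegaEquiv h (isBaseChange_toDual_of_free h)
  have key : ∀ (ψ : Omega A B' →ₗ[B'] B') (m : Omega A B'),
      b * algebraMap B' B'₁ (ψ m) ∈ (different B' τ).map (algebraMap B' B'₁) := by
    intro ψ m
    let Ψ : Omega A₁ B'₁ →ₗ[B'₁] B'₁ :=
      (AlgebraTensorModule.rid B' B'₁ B'₁).toLinearMap ∘ₗ ψ.baseChange B'₁ ∘ₗ E.symm.toLinearMap
    have hΨ : ∀ x, Ψ (bcFin h x) = algebraMap B' B'₁ (ψ x) := by
      intro x
      have : E.symm (bcFin h x) = 1 ⊗ₜ x := by
        rw [LinearEquiv.symm_apply_eq, omegaEquiv_tmul, one_smul]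
      simp [Ψ, this, Algebra.smul_def]
    obtain ⟨c, hc⟩ := (mem_different_iff B'₁ _ b).1 hb (bcFin h m)
    have := congrArg Ψ hc
    rw [← bcFin_trace h, map_smul, map_smul, hΨ, hΨ, smul_eq_mul, smul_eq_mul] at this
    rw [← this]
    refine Ideal.mul_mem_left _ _ (Ideal.mem_map_of_mem _ ((mem_different_iff B' τ _).2 fun x => ?_))
    refine ⟨ψ x, ?_⟩
    have hcomm : x ⊗ₜ[B'] τ = τ ⊗ₜ[B'] x := by
      have := LinearMap.congr_fun (congrArg LinearEquiv.toLinearMap
        (Module.Invertible.tensorProductComm_eq_refl (R := B') (M := Omega A B'))) (τ ⊗ₜ[B'] x)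
      simpa using this
    have := congrArg (TensorProduct.lift (LinearMap.lsmul B' (Omega A B') ∘ₗ ψ)) hcomm
    simpa using this
  obtain ⟨t, ht⟩ := (Module.Invertible.linearEquiv B' (Omega A B')).surjective 1
  have : ∀ t, b * algebraMap B' B'₁ (Module.Invertible.linearEquiv B' (Omega A B') t) ∈
      (different B' τ).map (algebraMap B' B'₁) := by
    intro t
    induction t using TensorProduct.induction_on with
    | zero => simp
    | tmul φ l => exact key φ l
    | add y z hy hz => rw [map_add, map_add, mul_add]; exact Ideal.add_mem _ hy hz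
  simpa [ht] using this t

end Free

end Groth.Duality.QF
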