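import Groth.Agent.PnCoh.Cohomology
import Groth.Agent.Ega2Proj.TwistSheaf

/-!
# Morphisms between twisting sheaves on projective space

Every morphism `O(a) → O(b)` is multiplication by a unique homogeneous polynomial.
-/

set_option autoImplicit false

universe u

open CategoryTheory AlgebraicGeometry Opposite TopologicalSpace
open Groth.PicAux Groth.Ega2Proj

noncomputable section

namespace Groth.Duality.Pn

variable {R A : Type u} [CommRing R] [CommRing A] [Algebra R A] (𝒜 : ℕ → Submodule R A)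
  [GradedAlgebra 𝒜]

theorem one_notMem (x : ProjectiveSpectrum 𝒜) : (1 : A) ∉ x.asHomogeneousIdeal := fun h =>
  x.isPrime.ne_top ((Ideal.eq_top_iff_one _).mpr h)

/-- A homogeneous element of degree `e` gives `O(d) → O(d + e)`. -/
theorem exists_mulEl {e : ℕ} {H : A} (hH : H ∈ 𝒜 e) {d d' : ℤ} (hd : d' = d + e) :
    ∃ φ : Twist.twist 𝒜 d ⟶ Twist.twist 𝒜 d', ∀ (U : (Proj 𝒜).Opens)
      (s : Γ(Twist.twist 𝒜 d, U)) (x : ProjectiveSpectrum 𝒜) (hx : x ∈ U),
        wval (φ.app U s) x hx = lfrac 𝒜 x H (one_notMem 𝒜 x) * wval s x hx := by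
  let g (U : (Proj 𝒜).Opens) : Γ(Twist.twist 𝒜 d, U) →+ Γ(Twist.twist 𝒜 d', U) :=
    AddMonoidHom.mk'
      (fun s => Tilde.mulFrac (ℳ := 𝒜) (e' := 0) hH SetLike.GradedOne.one_mem
        (n := d) (n' := d') (by omega) (fun x _ => one_notMem 𝒜 x) s)
      fun a b => Tilde.tval_ext (𝒜 := 𝒜) (ℳ := 𝒜) fun x hx => smul_add _ _ _
  let η : (Twist.twist 𝒜 d).presheaf ⟶ (Twist.twist 𝒜 d').presheaf :=
    { app := fun U => AddCommGrpCat.ofHom (g U.unop)
      naturality := fun _ _ _ => rfl }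
  refine ⟨⟨PresheafOfModules.homMk η ?_⟩, fun U s x hx => rfl⟩
  intro U r s
  have key : ∀ (r : Γ(Proj 𝒜, U.unop)) (s : Γ(Twist.twist 𝒜 d, U.unop)),
      g U.unop (r • s) = r • g U.unop s := fun r s =>
    wval_ext fun x hx => by
      refine Eq.trans ?_ (wval_smul r (g U.unop s) x hx).symm
      exact (congrArg (fun q => lfrac 𝒜 x H (one_notMem 𝒜 x) * q) (wval_smul r s x hx)).trans
        (mul_left_comm _ _ _)
  exact key r s

/-- Multiplication by a homogeneous element, `O(d) → O(d + e)`. -/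
def mulEl {e : ℕ} {H : A} (hH : H ∈ 𝒜 e) {d d' : ℤ} (hd : d' = d + e) :
    Twist.twist 𝒜 d ⟶ Twist.twist 𝒜 d' :=
  (exists_mulEl 𝒜 hH hd).choose

theorem wval_mulEl {e : ℕ} {H : A} (hH : H ∈ 𝒜 e) {d d' : ℤ} (hd : d' = d + e)
    (U : (Proj 𝒜).Opens) (s : Γ(Twist.twist 𝒜 d, U)) (x : ProjectiveSpectrum 𝒜) (hx : x ∈ U) :
    wval ((mulEl 𝒜 hH hd).app U s) x hx = lfrac 𝒜 x H (one_notMem 𝒜 x) * wval s x hx :=
  (exists_mulEl 𝒜 hH hd).choose_spec U s x hx

end Groth.Duality.Pn

namespace Groth.Duality.Pn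

open Groth.PnCoh

variable {n : ℕ} {R : Type u} [CommRing R] {a b : ℤ}

/-- `psi` of a product with a polynomial. -/
theorem psi_mulEl {k : ℕ} {f : MvPolynomial (Fin (n + 1)) R}
    (hf : f ∈ CohB1.polyGrading n R k) (hd : b = a + k) {q : ℕ} (x : Fin (q + 1) → Idx.{u} n)
    (s : Sect (R := R) a x) :
    psi ((mulEl (CohB1.polyGrading n R) hf hd).app (tupleOpen (R := R) x) s : Sect (R := R) b x) =
      (toL n R f * AddMonoidAlgebra.ofCoeff (psi s)).coeff := by
  obtain ⟨j, m, h⟩ := exists_isRep s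
  have h' : IsRep ((mulEl (CohB1.polyGrading n R) hf hd).app (tupleOpen (R := R) x) s :
      Sect (R := R) b x) j (m * f) := by
    refine ⟨?_, fun y => ?_⟩
    · convert h.1.mul_of_mem hf using 1
      omega
    · refine (wval_mulEl (CohB1.polyGrading n R) hf hd (tupleOpen (R := R) x) s y.1 y.2).trans ?_
      change Localization.mk f _ * (s.1 y).1 = _
      erw [h.2 y, Localization.mk_mul]
      rw [mul_comm f m]
      exact congrArg (Localization.mk (m * f)) (Subtype.ext (one_mul _))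
  rw [psi_eq h', psi_eq h, map_mul, mul_comm (toL n R m) (toL n R f), mul_assoc]

end Groth.Duality.Pn

namespace Groth.Duality.Pn

open Groth.PnCoh

variable {n : ℕ} {R : Type u} [CommRing R] {a b : ℤ}

variable (n R) in
/-- The variable of an index. -/
abbrev var (i : Idx.{u} n) : MvPolynomial (Fin (n + 1)) R := MvPolynomial.X i.down

theorem var_pow_mem (i : Idx.{u} n) (e : ℕ) : var n R i ^ e ∈ CohB1.polyGrading n R e := by
  simpa using SetLike.pow_mem_graded e
    ((MvPolynomial.mem_homogeneousSubmodule _ _).mpr (MvPolynomial.isHomogeneous_X R i.down))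

theorem var_pow_notMem (i : Idx.{u} n) (e : ℕ) (x : ProjectiveSpectrum (CohB1.polyGrading n R))
    (hx : x ∈ stdOpen n R i) : var n R i ^ e ∉ x.asHomogeneousIdeal := fun h =>
  hx (x.isPrime.mem_of_pow_mem e h)

theorem iSup_stdOpen : iSup (stdOpen.{u} n R) = ⊤ :=
  (isAcyclicCover_stdOpen n R).cover

/-- The basis `x_i ^ a` of `O(a)` on the `i`-th chart. -/
def chartGen (a : ℤ) (i : Idx.{u} n) : Γ(Twist.twist (CohB1.polyGrading n R) a, stdOpen n R i) :=
  fracGen (var_pow_mem i a.toNat) (var_pow_mem i (-a).toNat) (by omega) _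
    fun x hx => var_pow_notMem i _ x hx

theorem gen_chartGen (a : ℤ) (i : Idx.{u} n) :
    Gen (Twist.twist (CohB1.polyGrading n R) a) (stdOpen n R i) (chartGen a i) :=
  gen_fracGen _ _ _ _ _ fun x hx => var_pow_notMem i _ x hx

theorem wval_chartGen (a : ℤ) (i : Idx.{u} n) (x : ProjectiveSpectrum (CohB1.polyGrading n R))
    (hx : x ∈ stdOpen n R i) :
    wval (chartGen a i) x hx =
      lfrac (CohB1.polyGrading n R) x (var n R i ^ a.toNat) (var_pow_notMem i (-a).toNat x hx) :=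
  rfl

theorem tupleOpen_le (x : Fin 1 → Idx.{u} n) : tupleOpen (R := R) x ≤ stdOpen n R (x 0) :=
  iInf_le _ 0

theorem le_tupleOpen_const (i : Idx.{u} n) :
    stdOpen n R i ≤ tupleOpen (R := R) (fun _ : Fin 1 => i) :=
  le_iInf fun _ => le_rfl

/-- The value of `φ(x_i ^ a) / x_i ^ a` as a cochain of `O(b - a)`. -/
def quotCoch (φ : Twist.twist (CohB1.polyGrading n R) a ⟶ Twist.twist (CohB1.polyGrading n R) b) (d : ℤ) (hd : d = b - a) :
    CochO (n := n) (R := R) d 0 := fun x =>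
  res _ (tupleOpen_le x) (Tilde.mulFrac (ℳ := CohB1.polyGrading n R)
    (var_pow_mem (x 0) (-a).toNat) (var_pow_mem (x 0) a.toNat) (n := b) (n' := d) (by omega)
    (fun y hy => var_pow_notMem (x 0) _ y hy) (φ.app (stdOpen n R (x 0)) (chartGen a (x 0))))

theorem lfrac_var_mul (a : ℤ) (i : Idx.{u} n) (x : ProjectiveSpectrum (CohB1.polyGrading n R))
    (hx : x ∈ stdOpen n R i) :
    lfrac (CohB1.polyGrading n R) x (var n R i ^ (-a).toNat) (var_pow_notMem i a.toNat x hx) *
      wval (chartGen a i) x hx = 1 :=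
  (mul_comm _ _).trans (lfrac_inv (CohB1.polyGrading n R) x (var_pow_notMem i a.toNat x hx)
    (var_pow_notMem i (-a).toNat x hx))

/-- The cochain of a morphism is closed. -/
theorem dCoch_quotCoch (φ : Twist.twist (CohB1.polyGrading n R) a ⟶ Twist.twist (CohB1.polyGrading n R) b) (d : ℤ)
    (hd : d = b - a) (x : Fin 2 → Idx.{u} n) (α β : Fin 2) (y : tupleOpen (R := R) x)
    (hα : y.1 ∈ tupleOpen (R := R) (x ∘ α.succAbove))
    (hβ : y.1 ∈ tupleOpen (R := R) (x ∘ β.succAbove)) :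
    ((quotCoch φ d hd (x ∘ α.succAbove) : Sect (R := R) d (x ∘ α.succAbove)).1 ⟨y.1, hα⟩).1 =
      ((quotCoch φ d hd (x ∘ β.succAbove) : Sect (R := R) d (x ∘ β.succAbove)).1 ⟨y.1, hβ⟩).1 := by
  set i := (x ∘ α.succAbove) 0
  set j := (x ∘ β.succAbove) 0
  have hi : y.1 ∈ stdOpen n R i := tupleOpen_le _ hα
  have hj : y.1 ∈ stdOpen n R j := tupleOpen_le _ hβ
  change lfrac (CohB1.polyGrading n R) y.1 (var n R i ^ (-a).toNat) (var_pow_notMem i _ y.1 hi) *
      wval (φ.app (stdOpen n R i) (chartGen a i)) y.1 hi =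
    lfrac (CohB1.polyGrading n R) y.1 (var n R j ^ (-a).toNat) (var_pow_notMem j _ y.1 hj) *
      wval (φ.app (stdOpen n R j) (chartGen a j)) y.1 hj
  let W := stdOpen n R i ⊓ stdOpen n R j
  obtain ⟨r, hr⟩ := (gen_chartGen a i).exists_coeff (inf_le_left : W ≤ _)
    (res _ (inf_le_right : W ≤ _) (chartGen a j))
  have hW : y.1 ∈ W := ⟨hi, hj⟩
  have hφ := congrArg (φ.app W) hr
  rw [Scheme.Modules.Hom.app_smul, app_res, app_res] at hφ
  have e1 := congrArg (fun s => wval s y.1 hW) hr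
  have e2 := congrArg (fun s => wval s y.1 hW) hφ
  simp only [wval_smul, wval_res] at e1 e2
  have hi1 := lfrac_var_mul a i y.1 hi
  have hj1 := lfrac_var_mul a j y.1 hj
  have hR : HomogeneousLocalization.val (r.1 ⟨y.1, hW⟩) * wval (chartGen a i) y.1 hi =
      wval (chartGen a j) y.1 hj := e1.symm
  have hR' : HomogeneousLocalization.val (r.1 ⟨y.1, hW⟩) *
      wval (φ.app (stdOpen n R i) (chartGen a i)) y.1 hi =
      wval (φ.app (stdOpen n R j) (chartGen a j)) y.1 hj := e2.symm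
  rw [← hR']
  set Li := lfrac (CohB1.polyGrading n R) y.1 (var n R i ^ (-a).toNat) (var_pow_notMem i a.toNat y.1 hi)
  set Lj := lfrac (CohB1.polyGrading n R) y.1 (var n R j ^ (-a).toNat) (var_pow_notMem j a.toNat y.1 hj)
  set P := wval (φ.app (stdOpen n R i) (chartGen a i)) y.1 hi
  set r' := HomogeneousLocalization.val (r.1 ⟨y.1, hW⟩)
  rw [← hR] at hj1
  linear_combination (-Li * P) * hj1 + (Lj * r' * P) * hi1

/-- The Laurent polynomials of the quotient cochain form a cocycle. -/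
theorem psiCoch_quotCoch_mem (φ : Twist.twist (CohB1.polyGrading n R) a ⟶ Twist.twist (CohB1.polyGrading n R) b) (d : ℤ)
    (hd : d = b - a) : psiCoch 0 (quotCoch φ d hd) ∈ cocyclesL n R d 0 := by
  refine ⟨psiCoch_mem 0 _, LinearMap.mem_ker.mpr ?_⟩
  funext x
  rw [Combinat.dL_apply, Fin.sum_univ_two]
  have hle : ∀ α : Fin 2, tupleOpen (R := R) x ≤ tupleOpen (R := R) (x ∘ α.succAbove) := fun α =>
    CohBase.inter_comp (X := (CohB1.ProjSpace n R).toTopCat) (stdOpen n R) x α.succAbove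
  have key : psi (quotCoch φ d hd (x ∘ (1 : Fin 2).succAbove) :
        Sect (R := R) d (x ∘ (1 : Fin 2).succAbove)) =
      psi (quotCoch φ d hd (x ∘ (0 : Fin 2).succAbove) :
        Sect (R := R) d (x ∘ (0 : Fin 2).succAbove)) := by
    rw [← psi_res x 1 _ (hle 1), ← psi_res x 0 _ (hle 0)]
    exact congrArg psi (Subtype.ext (funext fun y => Subtype.ext
      (dCoch_quotCoch φ d hd x 1 0 y (hle 1 y.2) (hle 0 y.2))))
  change ((-1 : R) ^ ((0 : Fin 2) : ℕ)) • psi (quotCoch φ d hd (x ∘ (0 : Fin 2).succAbove) :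
      Sect (R := R) d (x ∘ (0 : Fin 2).succAbove)) +
    ((-1 : R) ^ ((1 : Fin 2) : ℕ)) • psi (quotCoch φ d hd (x ∘ (1 : Fin 2).succAbove) :
      Sect (R := R) d (x ∘ (1 : Fin 2).succAbove)) = 0
  rw [key]
  simp

theorem eq_of_quotCoch (φ ψ : Twist.twist (CohB1.polyGrading n R) a ⟶ Twist.twist (CohB1.polyGrading n R) b) (d : ℤ)
    (hd : d = b - a) (h : quotCoch φ d hd = quotCoch ψ d hd) : φ = ψ := by
  refine hom_ext_gen (iSup_stdOpen (n := n) (R := R)) (chartGen a) (gen_chartGen a) fun i => ?_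
  refine wval_ext fun y hy => ?_
  have e := congrArg (fun s => ((s : Sect (R := R) d (fun _ : Fin 1 => i)).1
    ⟨y, le_tupleOpen_const i hy⟩).1) (congrFun h fun _ => i)
  exact (lfrac_isUnit (CohB1.polyGrading n R) y (var_pow_notMem i (-a).toNat y hy)
    (var_pow_notMem i a.toNat y hy)).mul_left_cancel e

/-- A morphism `O(a) → O(a + k)` is multiplication by a homogeneous polynomial. -/
theorem exists_eq_mulEl (k : ℕ) (hd : b = a + k)
    (φ : Twist.twist (CohB1.polyGrading n R) a ⟶ Twist.twist (CohB1.polyGrading n R) b) :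
    ∃ (f : MvPolynomial (Fin (n + 1)) R) (hf : f ∈ CohB1.polyGrading n R k),
      φ = mulEl (CohB1.polyGrading n R) hf hd := by
  have hk : (k : ℤ) = b - a := by omega
  obtain ⟨f, hf⟩ := (globalCocycle_bijective (n := n) (R := R) k).2
    ⟨_, psiCoch_quotCoch_mem φ (k : ℤ) hk⟩
  refine ⟨f.1, f.2, eq_of_quotCoch _ _ (k : ℤ) hk (funext fun x => psi_injective ?_)⟩
  refine ((congrFun (congrArg Subtype.val hf) x).symm.trans ?_ :
    psi (quotCoch φ (k : ℤ) hk x : Sect (R := R) (k : ℤ) x) = _)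
  have hrep : IsRep (quotCoch (mulEl (CohB1.polyGrading n R) f.2 hd) (k : ℤ) hk x :
      Sect (R := R) (k : ℤ) x) 0 f.1 := by
    refine ⟨?_, fun y => ?_⟩
    · have := hasDeg_iff_mem.mpr f.2
      simpa using this
    · have hy := tupleOpen_le x y.2
      change lfrac (CohB1.polyGrading n R) y.1 (var n R (x 0) ^ (-a).toNat)
          (var_pow_notMem (x 0) _ y.1 hy) *
        wval ((mulEl (CohB1.polyGrading n R) f.2 hd).app (stdOpen n R (x 0)) (chartGen a (x 0)))
          y.1 hy = _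
      rw [wval_mulEl, mul_left_comm, lfrac_var_mul, mul_one]
      simp only [pow_zero]
      rfl
  change (toL n R f.1).coeff = _
  rw [psi_eq hrep, zero_smul, neg_zero, T, ← AddMonoidAlgebra.one_def, mul_one]

/-- There are no morphisms of negative degree. -/
theorem eq_zero_of_lt (hn : 1 ≤ n) (hab : b < a)
    (φ : Twist.twist (CohB1.polyGrading n R) a ⟶ Twist.twist (CohB1.polyGrading n R) b) : φ = 0 := by
  have hs := subsingleton_HH_twist (n := n) (R := R) (b - a) 0 (by omega) (by omega)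
  have key : ∀ φ : Twist.twist (CohB1.polyGrading n R) a ⟶ Twist.twist (CohB1.polyGrading n R) b,
      psiCoch 0 (quotCoch φ (b - a) rfl) = 0 := fun φ =>
    congrArg Subtype.val (classMap_injective_zero (b - a)
      (@Subsingleton.elim _ hs (classMap (b - a) 0 ⟨_, psiCoch_quotCoch_mem φ (b - a) rfl⟩)
        (classMap (b - a) 0 0)))
  exact eq_of_quotCoch φ 0 (b - a) rfl (psiCoch_injective 0 ((key φ).trans (key 0).symm))

end Groth.Duality.Pn
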