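import Groth.Agent.CohTwo.SheafHomIso
import Groth.Agent.VectorBundles.RefHullStalk
import Groth.Agent.RefRank.HomSec
import Groth.Agent.RefRank.ClosedPoints
import Groth.Agent.CohTwo.SupportLocal
import Groth.Agent.QCohMod.Coherent
import Groth.Agent.Ega2Proj.TwistExtend
import Mathlib.Algebra.Category.ModuleCat.Abelian
import Mathlib.Algebra.Homology.ShortComplex.ModuleCat
import Mathlib.Algebra.Homology.ShortComplex.ShortExact

/-!
# Global and stalk level homomorphisms out of a coherent module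
-/

set_option autoImplicit false

universe u

open CategoryTheory CategoryTheory.Limits AlgebraicGeometry Opposite TopologicalSpace

noncomputable section

namespace Groth.Duality.StalkHom

open Groth.CohTwo.SheafHomIso
open Groth.RefRank (secToLin germ_secToLin secToLin_res hom_ext_sec mod_section_ext)
open Groth.QCohMod (germ germ_res germ_smul exists_germ)
open Groth.PicAux (tmulSec)

variable {X : Scheme.{u}}

/-! ### Global sections of the sheaf Hom -/

theorem stalkMapₗ_zero (M N : X.Modules) (x : X) (v : M.presheaf.stalk x) :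
    RefHull.stalkMapₗ (0 : M ⟶ N) x v = 0 := by
  obtain ⟨U, hx, m, rfl⟩ := exists_germ M x v
  rw [RefHull.stalkMapₗ_germ]
  exact map_zero _

theorem stalkMapₗ_comp_apply {A B C : X.Modules} (f : A ⟶ B) (g : B ⟶ C) (x : X)
    (v : A.presheaf.stalk x) :
    RefHull.stalkMapₗ (f ≫ g) x v = RefHull.stalkMapₗ g x (RefHull.stalkMapₗ f x v) := by
  obtain ⟨U, hx, m, rfl⟩ := exists_germ A x v
  rw [RefHull.stalkMapₗ_germ, RefHull.stalkMapₗ_germ, RefHull.stalkMapₗ_germ]
  rfl

/-- A morphism is determined by its stalk maps. -/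
theorem hom_ext_stalk {M N : X.Modules} {φ ψ : M ⟶ N}
    (h : ∀ x : X, RefHull.stalkMapₗ φ x = RefHull.stalkMapₗ ψ x) : φ = ψ := by
  refine Scheme.Modules.hom_ext _ _ fun U => ?_
  ext m
  refine mod_section_ext N fun x hx => ?_
  have := LinearMap.congr_fun (h x) (germ M x hx m)
  rwa [RefHull.stalkMapₗ_germ, RefHull.stalkMapₗ_germ] at this

variable {F G : X.Modules}

/-- The morphism of a global section of the sheaf Hom. -/
def toMor (g : Γ(RefHull.homSh F G, ⊤)) : F ⟶ G :=
  ⟨PresheafOfModules.homMk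
    { app := fun U => AddCommGrpCat.ofHom
        (secToLin (QCohMod.res (RefHull.homSh F G) (le_top : U.unop ≤ ⊤) g)).toAddMonoidHom
      naturality := fun U V i => by
        ext m
        refine mod_section_ext G fun x hx => ?_
        change germ G x hx (secToLin _ (QCohMod.res F i.unop.le m)) =
          germ G x hx (QCohMod.res G i.unop.le (secToLin _ m))
        rw [germ_res, germ_secToLin]
        erw [germ_secToLin, germ_res]
        rfl }
    fun U r m => map_smul
      (secToLin (QCohMod.res (RefHull.homSh F G) (le_top : U.unop ≤ ⊤) g)) _ _⟩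

theorem stalkMapₗ_toMor (g : Γ(RefHull.homSh F G, ⊤)) (x : X) :
    RefHull.stalkMapₗ (toMor g) x = g.1 ⟨x, trivial⟩ :=
  LinearMap.ext fun v => by
    obtain ⟨U, hx, m, rfl⟩ := exists_germ F x v
    rw [RefHull.stalkMapₗ_germ]
    exact (germ_secToLin (QCohMod.res (RefHull.homSh F G) (le_top : U ≤ ⊤) g) m x hx).trans rfl

/-! ### Precomposition -/

variable {E : X.Modules} (α : E ⟶ F) (G)

/-- Precomposition with a morphism, on sheaf Homs. -/
def pre : RefHull.homSh F G ⟶ RefHull.homSh E G :=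
  toHomSh ((DCoh.tensorRightMod (RefHull.homSh F G)).map α ≫ evalHom F G)

theorem pre_val {U : X.Opens} (g : Γ(RefHull.homSh F G, U)) (x : U) :
    ((pre G α).app U g).1 x = g.1 x ∘ₗ RefHull.stalkMapₗ α x.1 := by
  refine stalkHom_ext' fun V hV m => ?_
  have hW : (x : X) ∈ V ⊓ U := ⟨hV, x.2⟩
  rw [pre, toHomSh_app, currySec_val, LinearMap.comp_apply,
    ← germ_res E (inf_le_left : V ⊓ U ≤ V) x.1 hW m,
    ← germ_res (RefHull.homSh F G) (inf_le_right : V ⊓ U ≤ U) x.1 hW g, curryStalk_germ,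
    RefHull.stalkMapₗ_germ]
  refine (congrArg (fun z => germ G x.1 hW ((evalHom F G).app _ z))
    (PicAux.tensorRightMod_map_tmulSec (RefHull.homSh F G) α _ _ _)).trans ?_
  rw [evalHom_tmulSec, germ_secToLin]
  rfl

theorem evalStalk_pre (x : X) (v : (RefHull.homSh F G).presheaf.stalk x) :
    RefHull.evalStalk E G x (RefHull.stalkMapₗ (pre G α) x v) =
      RefHull.evalStalk F G x v ∘ₗ RefHull.stalkMapₗ α x := by
  obtain ⟨U, hx, g, rfl⟩ := exists_germ _ x v
  rw [RefHull.stalkMapₗ_germ, RefHull.evalStalk_germ, RefHull.evalStalk_germ, pre_val]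

/-! ### Stalks of a short exact sequence -/

variable {G} {S : ShortComplex X.Modules}

theorem exact_stalk (hS : S.ShortExact) (x : X) :
    Function.Injective (RefHull.stalkMapₗ S.f x) ∧
      Function.Surjective (RefHull.stalkMapₗ S.g x) ∧
      Function.Exact (RefHull.stalkMapₗ S.f x) (RefHull.stalkMapₗ S.g x) := by
  have := hS.mono_f
  have := hS.epi_g
  refine ⟨(QCohMod.mono_iff_stalk S.f).mp inferInstance x,
    (QCohMod.epi_iff_stalk S.g).mp inferInstance x, ?_⟩
  exact (ShortComplex.ab_exact_iff_function_exact _).mp ((QCohMod.exact_iff_stalk S).mp hS.exact x)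

/-- The stalk of a short complex. -/
abbrev stalkSC (S : ShortComplex X.Modules) (x : X) :
    ShortComplex (ModuleCat.{u} (X.presheaf.stalk x)) :=
  ShortComplex.moduleCatMk (RefHull.stalkMapₗ S.f x) (RefHull.stalkMapₗ S.g x)
    (LinearMap.ext fun v => by
      rw [LinearMap.comp_apply, ← stalkMapₗ_comp_apply, S.zero, stalkMapₗ_zero]
      rfl)

theorem shortExact_stalkSC (hS : S.ShortExact) (x : X) : (stalkSC S x).ShortExact := by
  obtain ⟨hf, hg, he⟩ := exact_stalk hS x
  exact { exact := (ShortComplex.ShortExact.moduleCat_exact_iff_function_exact _).mpr he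
          mono_f := (ModuleCat.mono_iff_injective _).mpr hf
          epi_g := (ModuleCat.epi_iff_surjective _).mpr hg }

theorem exists_desc {R : Type*} [CommRing R] {A B C D : Type*} [AddCommGroup A] [Module R A]
    [AddCommGroup B] [Module R B] [AddCommGroup C] [Module R C] [AddCommGroup D] [Module R D]
    {f : A →ₗ[R] B} {g : B →ₗ[R] C} (hg : Function.Surjective g) (he : Function.Exact f g)
    (a : B →ₗ[R] D) (ha : a ∘ₗ f = 0) : ∃ b : C →ₗ[R] D, b ∘ₗ g = a := by
  have hle : LinearMap.ker g ≤ LinearMap.ker a := fun v hv => by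
    obtain ⟨w, rfl⟩ := (he v).mp hv
    exact LinearMap.congr_fun ha w
  refine ⟨(LinearMap.ker g).liftQ a hle ∘ₗ (g.quotKerEquivOfSurjective hg).symm.toLinearMap,
    LinearMap.ext fun v => ?_⟩
  simp only [LinearMap.comp_apply, LinearEquiv.coe_coe]
  rw [show (g.quotKerEquivOfSurjective hg).symm (g v) = Submodule.Quotient.mk v from
    (g.quotKerEquivOfSurjective hg).symm_apply_eq.2 rfl]
  rfl

/-- `0 → Hom(X₃, G) → Hom(X₂, G) → Hom(X₁, G)`. -/
abbrev homSeq (S : ShortComplex X.Modules) (G : X.Modules) : ShortComplex X.Modules :=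
  ShortComplex.mk (pre G S.g) (pre G S.f) <| by
    refine Scheme.Modules.hom_ext _ _ fun U => ?_
    ext v
    refine hom_ext_sec fun x => ?_
    rw [Scheme.Modules.Hom.comp_app, ConcreteCategory.comp_apply, pre_val, pre_val]
    refine LinearMap.ext fun w => ?_
    simp only [LinearMap.comp_apply]
    rw [← stalkMapₗ_comp_apply, S.zero, stalkMapₗ_zero, map_zero]
    rfl

variable [IsLocallyNoetherian X]

/-- Extension at the stalk at `x`. -/
def ExtendsAt (S : ShortComplex X.Modules) (G : X.Modules) (x : X) : Prop :=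
  ∀ ψ : RefHull.StalkHom S.X₁ G x, ∃ a : RefHull.StalkHom S.X₂ G x,
    a ∘ₗ RefHull.stalkMapₗ S.f x = ψ

theorem extendsAt_iff_surjective (h₁ : Coh.IsCoh S.X₁) (h₂ : Coh.IsCoh S.X₂) (G : X.Modules)
    (x : X) : ExtendsAt S G x ↔ Function.Surjective (RefHull.stalkMapₗ (pre G S.f) x) := by
  have b₁ := VectorBundles.RefHullStalk.evalStalk_bijective_of_isCoh S.X₁ G h₁ x
  have b₂ := VectorBundles.RefHullStalk.evalStalk_bijective_of_isCoh S.X₂ G h₂ x
  constructor
  · intro h v
    obtain ⟨a, ha⟩ := h (RefHull.evalStalk S.X₁ G x v)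
    obtain ⟨w, rfl⟩ := b₂.2 a
    exact ⟨w, b₁.1 ((evalStalk_pre G S.f x w).trans ha)⟩
  · intro h ψ
    obtain ⟨v, rfl⟩ := b₁.2 ψ
    obtain ⟨w, rfl⟩ := h v
    exact ⟨RefHull.evalStalk S.X₂ G x w, (evalStalk_pre G S.f x w).symm⟩

/-- The sheaf Hom sequence is short exact when all stalk homomorphisms extend. -/
theorem shortExact_homSeq (hS : S.ShortExact) (h₁ : Coh.IsCoh S.X₁) (h₂ : Coh.IsCoh S.X₂)
    (h₃ : Coh.IsCoh S.X₃) (G : X.Modules) (h : ∀ x, ExtendsAt S G x) :
    (homSeq S G).ShortExact := by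
  refine { exact := ?_, mono_f := ?_, epi_g := ?_ }
  · refine (QCohMod.exact_iff_stalk _).mpr fun x => ?_
    refine (ShortComplex.ab_exact_iff_function_exact _).mpr fun v => ?_
    change RefHull.stalkMapₗ (pre G S.f) x v = 0 ↔ ∃ w, RefHull.stalkMapₗ (pre G S.g) x w = v
    have b₁ := VectorBundles.RefHullStalk.evalStalk_bijective_of_isCoh S.X₁ G h₁ x
    have b₂ := VectorBundles.RefHullStalk.evalStalk_bijective_of_isCoh S.X₂ G h₂ x
    have b₃ := VectorBundles.RefHullStalk.evalStalk_bijective_of_isCoh S.X₃ G h₃ x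
    obtain ⟨-, hg, he⟩ := exact_stalk hS x
    constructor
    · intro hv
      have h0 := evalStalk_pre G S.f x v
      rw [hv, map_zero] at h0
      obtain ⟨b, hb⟩ := exists_desc hg he _ h0.symm
      obtain ⟨w, rfl⟩ := b₃.2 b
      exact ⟨w, b₂.1 ((evalStalk_pre G S.g x w).trans hb)⟩
    · rintro ⟨w, rfl⟩
      refine b₁.1 ?_
      rw [map_zero, evalStalk_pre, evalStalk_pre, LinearMap.comp_assoc,
        he.linearMap_comp_eq_zero, LinearMap.comp_zero]
  · refine (QCohMod.mono_iff_stalk _).mpr fun x => ?_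
    change Function.Injective (RefHull.stalkMapₗ (pre G S.g) x)
    refine (injective_iff_map_eq_zero _).mpr fun w hw => ?_
    have e := evalStalk_pre G S.g x w
    rw [hw, map_zero] at e
    refine (VectorBundles.RefHullStalk.evalStalk_bijective_of_isCoh S.X₃ G h₃ x).1 ?_
    rw [map_zero]
    refine LinearMap.ext fun y => ?_
    obtain ⟨z, rfl⟩ := (exact_stalk hS x).2.1 y
    exact (LinearMap.congr_fun e z).symm
  · exact (QCohMod.epi_iff_stalk _).mpr fun x => (extendsAt_iff_surjective h₁ h₂ G x).mp (h x)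

/-- A coherent module with no stalk at closed points vanishes. -/
theorem subsingleton_stalk_of_closed {M : X.Modules} (hM : Coh.IsCoh M)
    (h : ∀ x : X, IsClosed ({x} : Set X) → Subsingleton (M.presheaf.stalk x)) (x : X) :
    Subsingleton (M.presheaf.stalk x) := by
  by_contra hx
  obtain ⟨y, hy, hy'⟩ := RefRank.exists_isClosed_singleton (CohTwo.isClosed_support M hM) ⟨x, hx⟩
  exact hy (h y hy')

theorem extendsAt_of_closed (h₁ : Coh.IsCoh S.X₁) (h₂ : Coh.IsCoh S.X₂) {G : X.Modules}
    (hG : Coh.IsCoh G) (h : ∀ x : X, IsClosed ({x} : Set X) → ExtendsAt S G x) (x : X) :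
    ExtendsAt S G x := by
  refine (extendsAt_iff_surjective h₁ h₂ G x).mpr ?_
  have := (RefRank.isCoh_homSh h₂ hG).1
  have hC : Coh.IsCoh (cokernel (pre G S.f)) :=
    QCohMod.isCoh_cokernel (pre G S.f) (RefRank.isCoh_homSh h₁ hG)
  have h0 : ∀ y : X, IsClosed ({y} : Set X) →
      Subsingleton ((cokernel (pre G S.f)).presheaf.stalk y) := fun y hy => by
    refine subsingleton_of_forall_eq 0 fun c => ?_
    obtain ⟨v, rfl⟩ := ((QCohMod.epi_iff_stalk (cokernel.π (pre G S.f))).mp inferInstance y) c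
    obtain ⟨w, rfl⟩ := (extendsAt_iff_surjective h₁ h₂ G y).mp (h y hy) v
    change RefHull.stalkMapₗ (cokernel.π _) y (RefHull.stalkMapₗ (pre G S.f) y w) = 0
    rw [← stalkMapₗ_comp_apply, cokernel.condition, stalkMapₗ_zero]
  have : Epi (pre G S.f) := Preadditive.epi_of_cokernel_zero
    (((QCohMod.isZero_iff_stalk _).mpr fun y => by
      have : Subsingleton ↑((QCohMod.stalk y).obj (cokernel (pre G S.f))) :=
        subsingleton_stalk_of_closed hC h0 y
      exact AddCommGrpCat.isZero_of_subsingleton _).eq_of_tgt _ _)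
  exact (QCohMod.epi_iff_stalk _).mp this x

theorem subsingleton_hom_of_closed {F : X.Modules} (hF : Coh.IsCoh F) {G : X.Modules}
    (hG : Coh.IsCoh G)
    (h : ∀ x : X, IsClosed ({x} : Set X) → Subsingleton (RefHull.StalkHom F G x)) (x : X) :
    Subsingleton (RefHull.StalkHom F G x) :=
  have := subsingleton_stalk_of_closed (RefRank.isCoh_homSh hF hG) (fun y hy =>
    have := h y hy
    (VectorBundles.RefHullStalk.evalStalk_bijective_of_isCoh F G hF y).1.subsingleton) x
  (VectorBundles.RefHullStalk.evalStalk_bijective_of_isCoh F G hF x).2.subsingleton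

/-- With a globally generated sheaf Hom, vanishing of morphisms gives vanishing at the stalks. -/
theorem subsingleton_hom_of_spans {F : X.Modules} (hF : Coh.IsCoh F) {G : X.Modules}
    (hsp : Ega2Proj.SpansStalks (RefHull.homSh F G)) (h : ∀ φ : F ⟶ G, φ = 0) (x : X) :
    Subsingleton (RefHull.StalkHom F G x) := by
  refine subsingleton_of_forall_eq 0 fun ψ => ?_
  obtain ⟨v, rfl⟩ := (VectorBundles.RefHullStalk.evalStalk_bijective_of_isCoh F G hF x).2 ψ
  refine LinearMap.mem_ker.mp ?_
  refine (hsp x).ge.trans (Submodule.span_le.2 ?_) (Submodule.mem_top (x := v))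
  rintro _ ⟨g, rfl⟩
  rw [SetLike.mem_coe, LinearMap.mem_ker, RefHull.evalStalk_germ, ← stalkMapₗ_toMor, h (toMor g)]
  exact LinearMap.ext fun w => stalkMapₗ_zero F G x w

/-- With a globally generated sheaf Hom, global extension gives extension at the stalks. -/
theorem extendsAt_of_spans (h₁ : Coh.IsCoh S.X₁) {G : X.Modules}
    (hsp : Ega2Proj.SpansStalks (RefHull.homSh S.X₁ G))
    (h : ∀ φ : S.X₁ ⟶ G, ∃ a : S.X₂ ⟶ G, S.f ≫ a = φ) (x : X) : ExtendsAt S G x := by
  intro ψ
  obtain ⟨v, rfl⟩ := (VectorBundles.RefHullStalk.evalStalk_bijective_of_isCoh S.X₁ G h₁ x).2 ψ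
  let L : RefHull.StalkHom S.X₂ G x →ₗ[X.presheaf.stalk x] RefHull.StalkHom S.X₁ G x :=
    (RefHull.stalkMapₗ S.f x).lcomp (X.presheaf.stalk x) (G.presheaf.stalk x)
  suffices hv : RefHull.evalStalk S.X₁ G x v ∈ LinearMap.range L from hv
  suffices hv : v ∈ (LinearMap.range L).comap (RefHull.evalStalk S.X₁ G x) from hv
  refine (hsp x).ge.trans (Submodule.span_le.2 ?_) Submodule.mem_top
  rintro _ ⟨g, rfl⟩
  obtain ⟨a, ha⟩ := h (toMor g)
  refine ⟨RefHull.stalkMapₗ a x, ?_⟩
  rw [RefHull.evalStalk_germ, ← stalkMapₗ_toMor, ← ha]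
  exact LinearMap.ext fun w => (stalkMapₗ_comp_apply S.f a x w).symm

end Groth.Duality.StalkHom
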