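import Groth.Agent.Duality.PnPairing
import Groth.Agent.Duality.Represent

/-!
# `O(-n-1)` is a dualizing sheaf of projective space
-/

set_option autoImplicit false

universe u

open CategoryTheory CategoryTheory.Limits AlgebraicGeometry
open Groth.PnCoh

noncomputable section

namespace Groth.Duality.Pn

variable {n : ℕ} {R : Type u} [CommRing R] [IsNoetherianRing R]

/-- `O(-n-1)` with its trace represents `F ↦ Hⁿ(F)^*` on coherent modules. -/
theorem representsAt (F : (CohB1.ProjSpace n R).Modules) (hF : Coh.IsCoh F) :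
    RepresentsAt (trace n R) F := by
  have := isLocallyNoetherian_projSpace n R
  refine representsAt_of_isCoh
    (fun G => ∃ d : ℤ, d ≤ -((n : ℤ) + 1) ∧ G = Twist.twistProjSpace n R d) ?_ ?_ (fun G hG => ?_)
    (fun G hG => ?_) F hF
  · rintro G ⟨d, hd, rfl⟩ ψ
    exact existsUnique_of_le (-((n : ℤ) + 1) - d).toNat (by omega) ψ
  · rintro G ⟨d, -, rfl⟩
    exact isCoh_twist n R d
  · obtain ⟨r, d, φ, hd, hφ⟩ := exists_epi_twists (𝒜 := CohB1.polyGrading n R) G hG (-((n : ℤ) + 1))
    exact ⟨r, _, φ, fun i => ⟨d i, hd i, rfl⟩, hφ⟩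
  · have := hG.1
    exact subsingleton_HH_of_lt n R G (Nat.lt_succ_self n)

end Groth.Duality.Pn
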