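import Groth.Prelude.Def_Dual3

set_option autoImplicit false

open CategoryTheory

namespace Groth.Duality.BaseChangeCompat

section

variable {A B C E : Type*} [Category A] [Category B] [Category C] [Category E]
  {F : A ⥤ B} {a : B ⥤ A} {F' : C ⥤ E} {a' : E ⥤ C}
  {G : E ⥤ B} {G' : C ⥤ A} {L : B ⥤ E} {L' : A ⥤ C}

/-- The mate `G' a' ⟶ a G`. -/
def xi (adj : F ⊣ a) (adj' : F' ⊣ a') (e : G' ⋙ F ≅ F' ⋙ G) (M : E) :
    G'.obj (a'.obj M) ⟶ a.obj (G.obj M) :=
  (adj.homEquiv _ _) (e.hom.app (a'.obj M) ≫ G.map (adj'.counit.app M))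

lemma xi_naturality (adj : F ⊣ a) (adj' : F' ⊣ a') (e : G' ⋙ F ≅ F' ⋙ G) {M N : E} (m : M ⟶ N) :
    xi adj adj' e M ≫ a.map (G.map m) = G'.map (a'.map m) ≫ xi adj adj' e N := by
  have h := e.hom.naturality (a'.map m)
  have h2 := adj'.counit.naturality m
  simp only [Functor.comp_map, Functor.comp_obj, Functor.id_map, Functor.id_obj] at h h2
  unfold xi
  rw [← Adjunction.homEquiv_naturality_right, ← Adjunction.homEquiv_naturality_left]
  congr 1
  rw [Category.assoc, ← G.map_comp, ← h2, G.map_comp, reassoc_of% h]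

lemma map_xi_counit (adj : F ⊣ a) (adj' : F' ⊣ a') (e : G' ⋙ F ≅ F' ⋙ G) (M : E) :
    F.map (xi adj adj' e M) ≫ adj.counit.app (G.obj M) =
      e.hom.app (a'.obj M) ≫ G.map (adj'.counit.app M) := by
  refine Eq.trans (adj.homEquiv_counit _ _ _).symm ?_
  exact Equiv.symm_apply_apply _ _

theorem trace_compat (adj : F ⊣ a) (adj' : F' ⊣ a') (e : G' ⋙ F ≅ F' ⋙ G) (adjg : L ⊣ G)
    (adjg' : L' ⊣ G') (K : B) [IsIso (xi adj adj' e (L.obj K))] :
    (adjg.homEquiv _ _).symm (F.map (adjg'.unit.app (a.obj K)) ≫ e.hom.app (L'.obj (a.obj K))) ≫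
      F'.map (L'.map (a.map (adjg.unit.app K)) ≫ L'.map (inv (xi adj adj' e (L.obj K))) ≫
        adjg'.counit.app (a'.obj (L.obj K))) ≫ adj'.counit.app (L.obj K) =
      L.map (adj.counit.app K) := by
  set α := L'.map (a.map (adjg.unit.app K)) ≫ L'.map (inv (xi adj adj' e (L.obj K))) ≫
        adjg'.counit.app (a'.obj (L.obj K)) with hα
  have hαT : adjg'.unit.app (a.obj K) ≫ G'.map α =
      a.map (adjg.unit.app K) ≫ inv (xi adj adj' e (L.obj K)) := by
    refine (adjg'.homEquiv_unit _ _ _).symm.trans ?_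
    rw [hα, ← Category.assoc, ← L'.map_comp]
    erw [← Adjunction.homEquiv_counit]
    exact Equiv.apply_symm_apply _ _
  apply (adjg.homEquiv _ _).injective
  rw [Adjunction.homEquiv_naturality_right, Equiv.apply_symm_apply, Adjunction.homEquiv_unit,
    G.map_comp]
  have h := e.hom.naturality α
  simp only [Functor.comp_map, Functor.comp_obj] at h
  have key : F.map (inv (xi adj adj' e (L.obj K))) ≫ e.hom.app (a'.obj (L.obj K)) ≫
      G.map (adj'.counit.app (L.obj K)) = adj.counit.app (G.obj (L.obj K)) := by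
    rw [← map_xi_counit adj, ← Category.assoc, ← F.map_comp, IsIso.inv_hom_id, F.map_id,
      Category.id_comp]
  have hn := adjg.unit.naturality (adj.counit.app K)
  simp only [Functor.comp_map, Functor.comp_obj, Functor.id_map, Functor.id_obj] at hn
  erw [← hn, Category.assoc, ← reassoc_of% h]
  erw [← Category.assoc, ← F.map_comp, hαT, F.map_comp, Category.assoc, key]
  exact adj.counit.naturality (adjg.unit.app K)

theorem unit_compat (adj : F ⊣ a) (adj' : F' ⊣ a') (e : G' ⋙ F ≅ F' ⋙ G) (adjg : L ⊣ G)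
    (adjg' : L' ⊣ G') (hξ : ∀ M, IsIso (xi adj adj' e M)) (M : A) :
    adj'.unit.app (L'.obj M) =
      L'.map (adj.unit.app M) ≫
        (L'.map (a.map (adjg.unit.app (F.obj M))) ≫
          (haveI := hξ (L.obj (F.obj M)); L'.map (inv (xi adj adj' e (L.obj (F.obj M))))) ≫
          adjg'.counit.app (a'.obj (L.obj (F.obj M)))) ≫
        a'.map ((adjg.homEquiv _ _).symm (F.map (adjg'.unit.app M) ≫ e.hom.app (L'.obj M))) := by
  have := hξ (L.obj (F.obj M))
  set β := (adjg.homEquiv _ _).symm (F.map (adjg'.unit.app M) ≫ e.hom.app (L'.obj M)) with hβ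
  set t := F.map (adjg'.unit.app M) ≫ e.hom.app (L'.obj M) with ht
  have := hξ (F'.obj (L'.obj M))
  apply (adjg'.homEquiv _ _).injective
  have hb : adjg.unit.app (F.obj M) ≫ G.map β = t := by
    refine (adjg.homEquiv_unit _ _ _).symm.trans ?_
    exact Equiv.apply_symm_apply _ _
  have hR : (adjg'.homEquiv _ _) (L'.map (adj.unit.app M) ≫
        (L'.map (a.map (adjg.unit.app (F.obj M))) ≫
          L'.map (inv (xi adj adj' e (L.obj (F.obj M)))) ≫
          adjg'.counit.app (a'.obj (L.obj (F.obj M)))) ≫ a'.map β) =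
      (adj.unit.app M ≫ a.map (adjg.unit.app (F.obj M)) ≫ inv (xi adj adj' e (L.obj (F.obj M)))) ≫
        G'.map (a'.map β) := by
    rw [← Category.assoc, Adjunction.homEquiv_naturality_right, ← Category.assoc (L'.map _),
      ← L'.map_comp, ← Category.assoc, ← L'.map_comp]
    erw [← Adjunction.homEquiv_counit, Equiv.apply_symm_apply]
    simp only [Category.assoc]
  refine Eq.trans ?_ hR.symm
  rw [← cancel_mono (xi adj adj' e (F'.obj (L'.obj M)))]
  simp only [Category.assoc]
  erw [← xi_naturality adj adj' e β, IsIso.inv_hom_id_assoc, ← a.map_comp, hb]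
  erw [← Adjunction.homEquiv_unit]
  apply (adj.homEquiv _ _).symm.injective
  rw [Adjunction.homEquiv_naturality_left_symm, Equiv.symm_apply_apply, xi,
    Equiv.symm_apply_apply, Adjunction.homEquiv_unit, F.map_comp, Category.assoc]
  have h := e.hom.naturality (adj'.unit.app (L'.obj M))
  simp only [Functor.comp_map, Functor.comp_obj, Functor.id_obj] at h
  rw [reassoc_of% h, ← G.map_comp, adj'.left_triangle_components, G.map_id, Category.comp_id]

end

end Groth.Duality.BaseChangeCompat
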