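import Groth.Agent.Duality.DepthVanish
import Groth.Agent.Duality.PnPushDepth
import Groth.Agent.Curves1.Node.AtWorst
import Groth.Agent.LocCohZBase.AffineDepth
import Groth.Agent.CohTwo.ExtShDepth
import Groth.Agent.LocDual.DimQuotient
import Groth.Agent.Calg4.RegularAscent
import Groth.Agent.S5791
import Groth.Agent.S0563
import Groth.Agent.S0604

/-!
# Ext sheaves of a Cohen–Macaulay closed subscheme of a regular scheme vanish above the codimension
-/

set_option autoImplicit false
set_option linter.style.haveILetI false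

universe u

open CategoryTheory CategoryTheory.Limits AlgebraicGeometry TopologicalSpace

noncomputable section

namespace Groth.Duality.CMExt

theorem exists_nat_dim (R : Type u) [CommRing R] [IsLocalRing R] [IsNoetherianRing R] :
    ∃ a : ℕ, ringKrullDim R = a := by
  have h1 : (IsLocalRing.maximalIdeal R).height ≠ ⊤ :=
    Ideal.height_ne_top (IsLocalRing.maximalIdeal.isMaximal R).ne_top
  obtain ⟨a, ha⟩ := ENat.ne_top_iff_exists.1 h1
  exact ⟨a, by rw [← IsLocalRing.maximalIdeal_height_eq_ringKrullDim, ← ha]; rfl⟩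

theorem depth_self {R : Type u} [CommRing R] [IsLocalRing R] [IsNoetherianRing R]
    (h : LocCoh.IsCohenMacaulayLocalRing R) {a : ℕ} (ha : ringKrullDim R = a) :
    LocCoh.depth R R = a := by
  have h' := h.supportDim_eq_depth
  rw [Module.supportDim_self_eq_ringKrullDim, ha] at h'
  exact (WithBot.coe_inj.1 h').symm

/-- Projective dimension over a regular local ring from the depth. -/
theorem hasProjectiveDimensionLT_of_depth {R : Type u} [CommRing R] [IsRegularLocalRing R]
    (M : Type u) [AddCommGroup M] [Module R M] [Module.Finite R M] {a c : ℕ}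
    (hR : ringKrullDim R = ((a + c : ℕ) : WithBot ℕ∞)) (hM : Nontrivial M → LocCoh.depth R M = a) :
    HasProjectiveDimensionLT (ModuleCat.of R M) (c + 1) := by
  rcases subsingleton_or_nontrivial M with h | h
  · haveI : HasProjectiveDimensionLT (ModuleCat.of R M) 0 :=
      (hasProjectiveDimensionLT_zero_iff_isZero _).2 (ModuleCat.isZero_of_subsingleton _)
    exact hasProjectiveDimensionLT_of_ge _ 0 _ (Nat.zero_le _)
  have hd := Groth.Agent.S0563.result R (a + c) hR M
  have hne : projectiveDimension (ModuleCat.of R M) ≠ ⊥ := fun hb => by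
    rw [projectiveDimension_eq_bot_iff] at hb
    exact not_subsingleton M (ModuleCat.subsingleton_of_isZero hb)
  obtain ⟨e, he⟩ : ∃ e : ℕ, projectiveDimension (ModuleCat.of R M) = e := by
    have hle := (projectiveDimension_lt_iff.2 hd)
    generalize projectiveDimension (ModuleCat.of R M) = d at hle hne
    rcases d with _ | d
    · exact absurd rfl hne
    · induction d using ENat.recTopCoe with
      | top => exact absurd hle not_top_lt
      | coe e => exact ⟨e, rfl⟩
  have hab := Groth.Agent.S0604.result R M e he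
  rw [hM h, depth_self (Groth.Calg4.isCohenMacaulayLocalRing_of_isRegularLocalRing R) hR] at hab
  have hec : e = c := by
    have : a + c = e + a := by exact_mod_cast hab
    omega
  subst hec
  exact projectiveDimension_lt_iff.1 (by rw [he]; exact_mod_cast Nat.lt_succ_self e)

variable {k : Type u} [Field k] {P : Scheme.{u}} (f : P ⟶ Spec (CommRingCat.of k))
  [LocallyOfFiniteType f]

include f in
/-- `ℰxt^q(ι_* O, E) = 0` above the codimension. -/
theorem isZero_extSh_push_of_gt {Y : Scheme.{u}} (j : Y ⟶ P) [IsClosedImmersion j] [IsLocallyNoetherian P]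
    (hreg : ∀ p : P, IsRegularLocalRing (P.presheaf.stalk p)) {n s : ℕ}
    (hP : ∀ Z : Set ↥P, Z ∈ irreducibleComponents ↥P → topologicalKrullDim ↥Z = (n : WithBot ℕ∞))
    (hCM : ∀ y : Y, LocCoh.IsCohenMacaulayLocalRing (Y.presheaf.stalk y))
    (hY : ∀ Z : Set ↥Y, Z ∈ irreducibleComponents ↥Y → topologicalKrullDim ↥Z = (s : WithBot ℕ∞))
    {E : P.Modules} (hE : Coh.IsCoh E)
    [ModSite.HasSheafHom (O := P.sheaf) ((Scheme.Modules.pushforward j).obj (Coh.structureModule Y))]
    [HasInjectiveResolutions (ModSite.Mod P.sheaf)] (q : ℕ) (hq : n - s < q) :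
    IsZero ((ModSite.extSh (O := P.sheaf) ((Scheme.Modules.pushforward j).obj (Coh.structureModule Y)) q).obj E) := by
  haveI : IsLocallyNoetherian Y := LocallyOfFiniteType.isLocallyNoetherian j
  have hM := CohTwo.isCoh_push j (KTheory.LocFree.isCoh (LocFree.isFinLocFree_unit Y))
  haveI := hM.1
  haveI := hE.1
  haveI := (SheafExt.isCoh_extSh _ E hM hE q).1
  refine (CohTwo.ExtShDepth.isZero_iff_forall_subsingleton _).2 fun U hU => ?_
  haveI : IsNoetherianRing Γ(P, U) := IsLocallyNoetherian.component_noetherian ⟨U, hU⟩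
  haveI := QCohMod.finite_sections _ hM.2 hU
  obtain ⟨e⟩ := CohTwo.ExtShSec.nonempty_sections_extSh
    ((Scheme.Modules.pushforward j).obj (Coh.structureModule Y)) E hM hU q
  refine @Equiv.subsingleton _ _ e.toEquiv ?_
  have hpd : HasProjectiveDimensionLT (ModuleCat.of Γ(P, U)
      Γ((Scheme.Modules.pushforward j).obj (Coh.structureModule Y), U)) (n - s + 1) := by
    refine (Groth.Agent.S5791.result _ _ _).2 fun p => ?_
    obtain ⟨⟨x, hx⟩, hxp⟩ :=
      (Scheme.Hom.homeomorph hU.isoSpec.hom).surjective (p : PrimeSpectrum Γ(P, U))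
    obtain rfl : hU.primeIdealOf ⟨x, hx⟩ = p := hxp
    letI := TopCat.Presheaf.algebra_section_stalk P.presheaf ⟨x, hx⟩
    haveI : IsLocalization.AtPrime (P.presheaf.stalk x) (hU.primeIdealOf ⟨x, hx⟩).asIdeal :=
      hU.isLocalization_stalk ⟨x, hx⟩
    let eR : P.presheaf.stalk x ≃+* Localization.AtPrime (hU.primeIdealOf ⟨x, hx⟩).asIdeal :=
      (IsLocalization.algEquiv (hU.primeIdealOf ⟨x, hx⟩).asIdeal.primeCompl (P.presheaf.stalk x) _).toRingEquiv
    haveI := hreg x
    haveI : IsRegularLocalRing (Localization.AtPrime (hU.primeIdealOf ⟨x, hx⟩).asIdeal) :=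
      IsRegularLocalRing.of_ringEquiv eR
    obtain ⟨b, hb⟩ := exists_nat_dim (P.presheaf.stalk x)
    rcases subsingleton_or_nontrivial (LocalizedModule (hU.primeIdealOf ⟨x, hx⟩).asIdeal.primeCompl
      Γ((Scheme.Modules.pushforward j).obj (Coh.structureModule Y), U)) with hsub | hnt
    · haveI : HasProjectiveDimensionLT (ModuleCat.of (Localization.AtPrime (hU.primeIdealOf ⟨x, hx⟩).asIdeal)
          (LocalizedModule (hU.primeIdealOf ⟨x, hx⟩).asIdeal.primeCompl
            Γ((Scheme.Modules.pushforward j).obj (Coh.structureModule Y), U))) 0 :=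
        (hasProjectiveDimensionLT_zero_iff_isZero _).2 (ModuleCat.isZero_of_subsingleton _)
      exact hasProjectiveDimensionLT_of_ge _ 0 _ (Nat.zero_le _)
    obtain ⟨z, rfl⟩ := CohTwo.support_push_subset j _
      ((QCohMod.mem_support_iff _ hU x hx).2 (Module.mem_support_iff.2 hnt))
    obtain ⟨a, ha⟩ := exists_nat_dim (Y.presheaf.stalk z)
    have hab : b = a + (n - s) := by
      have h1 := Flatmor4.height_add_dim_stalk_of_equidim f
        (fun η hη => WithBot.coe_injective (((Variety2.Dim.dim_closure_singleton η).symm.trans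
          (hP _ ((Curves1.Node.mem_genericPoints_iff_isMax η).2 hη))))) (j z)
      have h2 := Flatmor4.height_add_dim_stalk_of_equidim (j ≫ f)
        (fun η hη => WithBot.coe_injective (((Variety2.Dim.dim_closure_singleton η).symm.trans
          (hY _ ((Curves1.Node.mem_genericPoints_iff_isMax η).2 hη))))) z
      rw [hb, Variety2.Dim.height_eq_of_isPreimmersion (j ≫ f) f j rfl] at h1
      rw [ha] at h2
      have hle : a ≤ b := by
        have := ringKrullDim_le_of_surjective (j.stalkMap z).hom (j.stalkMap_surjective z)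
        rw [ha, hb] at this
        exact_mod_cast this
      generalize Order.height z = c at h1 h2
      induction c using ENat.recTopCoe with
      | top =>
        have h2' : (⊤ : ℕ∞) + (a : ℕ∞) = (s : ℕ∞) := WithBot.coe_injective h2
        rw [top_add] at h2'
        exact absurd h2' (ENat.top_ne_coe _)
      | coe c =>
        have h2' : (c : ℕ∞) + (a : ℕ∞) = (s : ℕ∞) := WithBot.coe_injective h2
        have h1' : (c : ℕ∞) + (b : ℕ∞) = (n : ℕ∞) := WithBot.coe_injective h1
        have e1 : c + b = n := by exact_mod_cast h1'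
        have e2 : c + a = s := by exact_mod_cast h2'
        omega
    refine hasProjectiveDimensionLT_of_depth _ (a := a) (c := n - s) ?_ fun _ => ?_
    · rw [← hab, ← hb]; exact (ringKrullDim_eq_of_ringEquiv eR).symm
    · rw [← LocCohZBase.depth_stalk_eq _ hU (j z) hx, depth_push_stalk j _ z]
      exact (LocCohBase.idealDepth_congr (LinearEquiv.ofBijective _
        (CohTwo.bijective_toSpanSingleton_one z))).symm.trans (depth_self (hCM z) ha)
  exact HasProjectiveDimensionLT.subsingleton _ (n - s + 1) q (by omega) _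

end Groth.Duality.CMExt
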