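import Groth.Agent.Duality.DerivedShift
import Groth.Agent.Duality.StalkHom
import Groth.Agent.SheafExt.Scheme
import Groth.Agent.SitesTopoi.Mod.Invertible

/-!
Ext sheaves along a short exact sequence with finite locally free middle term, in terms of
`RefHull.homSh`.
-/

set_option autoImplicit false
set_option backward.isDefEq.respectTransparency false
set_option linter.style.haveILetI false

universe u

open CategoryTheory CategoryTheory.Limits AlgebraicGeometry

noncomputable section

namespace Groth.Duality.ExtShShift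

open Groth.CohTwo.SheafHomIso (tF toHomSh toHomSh_comp evalHom map_toHomSh_eval tF_map_tmulSec)
open Groth.CohTwo.LocFreeExt (tR flipIso)
open Groth.PicAux (tmulSec tensor_hom_ext)
open scoped ZeroObject

variable {X : Scheme.{u}}

/-- The internal Hom of the ringed site, on `X.Modules`. -/
abbrev msHom (P : X.Modules) [ModSite.HasSheafHom (O := X.sheaf) P] : X.Modules ⥤ X.Modules :=
  ModSite.sheafHom (O := X.sheaf) P

/-- Its adjunction. -/
abbrev msAdj (P : X.Modules) [ModSite.HasSheafHom (O := X.sheaf) P] : tR P ⊣ msHom P :=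
  ModSite.sheafHomAdj (O := X.sheaf) P

/-- The comparison with the sheaf of families of stalk maps. -/
def theta (P G : X.Modules) [ModSite.HasSheafHom (O := X.sheaf) P] :
    (msHom P).obj G ⟶ RefHull.homSh P G :=
  toHomSh ((flipIso P).inv.app _ ≫ (msAdj P).counit.app G)

theorem comp_theta (P G : X.Modules) [ModSite.HasSheafHom (O := X.sheaf) P] {H : X.Modules}
    (k : H ⟶ (msHom P).obj G) :
    k ≫ theta P G = toHomSh ((flipIso P).inv.app H ≫ ((msAdj P).homEquiv H G).symm k) := by
  rw [theta, ← toHomSh_comp, Adjunction.homEquiv_counit]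
  exact congrArg toHomSh (((flipIso P).inv.naturality_assoc k _))

theorem isIso_theta (P G : X.Modules) [ModSite.HasSheafHom (O := X.sheaf) P] :
    IsIso (theta P G) := by
  rw [isIso_iff_yoneda_map_bijective]
  intro H
  let e : (H ⟶ (msHom P).obj G) ≃ (H ⟶ RefHull.homSh P G) :=
    ((msAdj P).homEquiv H G).symm.trans
      (((flipIso P).app H).homCongr (Iso.refl G) |>.trans (SheafHom.curryEquiv P H G))
  have h : (fun k => k ≫ theta P G) = e := funext fun k => by
    rw [comp_theta]
    exact congrArg toHomSh (congrArg _ (Category.comp_id _).symm)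
  rw [h]
  exact e.bijective

theorem braiding_naturality {E F : X.Modules} (α : E ⟶ F) (H : X.Modules) :
    (flipIso E).hom.app H ≫ (DCoh.tensorRightMod H).map α = (tF H).map α ≫ (flipIso F).hom.app H := by
  refine tensor_hom_ext (L := H) (M := E) fun W a b => ?_
  refine (congrArg (((DCoh.tensorRightMod H).map α).app W)
    ((PicAux.exists_braiding H E).choose_spec W a b)).trans ?_
  refine (PicAux.tensorRightMod_map_tmulSec H α W b a).trans ?_
  refine Eq.trans ?_ (congrArg (((flipIso F).hom.app H).app W) (tF_map_tmulSec α W a b)).symm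
  exact ((PicAux.exists_braiding H F).choose_spec W a (α.app W b)).symm

theorem homEquiv_symm_sheafHomMap {E F : X.Modules} [ModSite.HasSheafHom (O := X.sheaf) E]
    [ModSite.HasSheafHom (O := X.sheaf) F] (α : E ⟶ F) (G : X.Modules) :
    ((msAdj E).homEquiv _ G).symm ((ExtSupp.sheafHomMap (O := X.sheaf) α).app G) =
      (tF ((msHom F).obj G)).map α ≫ (msAdj F).counit.app G := by
  have h := SheafExt.curry_symm_comp (O := X.sheaf) α (𝟙 ((ModSite.sheafHom (O := X.sheaf) F).obj G))
  rw [Category.id_comp, SheafExt.curry_symm_def F (𝟙 _), CategoryTheory.Functor.map_id] at h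
  refine h.trans ?_
  exact congrArg (((tF ((msHom F).obj G)).map α) ≫ ·) (Category.id_comp _)

theorem toHomSh_comp_pre {E F G H : X.Modules} (α : E ⟶ F) (γ : CohB1.tensorMod F H ⟶ G) :
    toHomSh γ ≫ StalkHom.pre G α =
      toHomSh (((DCoh.tensorRightMod H).map α : CohB1.tensorMod E H ⟶ CohB1.tensorMod F H) ≫ γ) := by
  rw [StalkHom.pre, ← toHomSh_comp]
  refine congrArg toHomSh ?_
  have hx : (tF E).map (toHomSh γ) ≫ (DCoh.tensorRightMod (RefHull.homSh F G)).map α =
      (DCoh.tensorRightMod H).map α ≫ (tF F).map (toHomSh γ) := by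
    refine tensor_hom_ext (L := E) (M := H) fun W a b => ?_
    refine (congrArg (((DCoh.tensorRightMod (RefHull.homSh F G)).map α).app W)
      (tF_map_tmulSec (toHomSh γ) W a b)).trans ?_
    refine (PicAux.tensorRightMod_map_tmulSec _ α W a _).trans ?_
    refine Eq.trans ?_ (congrArg (((tF F).map (toHomSh γ)).app W)
      (PicAux.tensorRightMod_map_tmulSec _ α W a b)).symm
    exact (tF_map_tmulSec (toHomSh γ) W (α.app W a) b).symm
  refine (Category.assoc _ _ _).symm.trans ((congrArg (· ≫ evalHom F G) hx).trans ?_)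
  exact (Category.assoc _ _ _).trans (congrArg (_ ≫ ·) (map_toHomSh_eval γ))

theorem braiding_naturality_inv {E F : X.Modules} (α : E ⟶ F) (H : X.Modules) :
    (DCoh.tensorRightMod H).map α ≫ (flipIso F).inv.app H =
      (flipIso E).inv.app H ≫ (tF H).map α := by
  have h := braiding_naturality α H
  refine ((cancel_epi ((flipIso E).hom.app H)).1 ?_)
  refine (Category.assoc _ _ _).symm.trans ((congrArg (· ≫ (flipIso F).inv.app H) h).trans ?_)
  refine (Category.assoc _ _ _).trans ?_
  refine (congrArg (_ ≫ ·) ((flipIso F).hom_inv_id_app H)).trans ?_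
  exact (Category.comp_id _).trans ((flipIso E).hom_inv_id_app_assoc H _).symm

theorem comp_eq_of_square {C : Type*} [Category C] {A B B' M N : C} {a : A ⟶ B} {p : B ⟶ N}
    {b : B ⟶ M} {c : M ⟶ N} {x : A ⟶ B'} {y : B' ⟶ M} (h₁ : p = b ≫ c) (h₂ : a ≫ b = x ≫ y) :
    a ≫ p = x ≫ y ≫ c := by
  rw [h₁, ← Category.assoc, h₂, Category.assoc]

set_option maxHeartbeats 1600000 in
/-- The comparison is natural in the first variable. -/
theorem sheafHomMap_theta {E F : X.Modules} [ModSite.HasSheafHom (O := X.sheaf) E]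
    [ModSite.HasSheafHom (O := X.sheaf) F] (α : E ⟶ F) (G : X.Modules) :
    (show (msHom F).obj G ⟶ (msHom E).obj G from (ExtSupp.sheafHomMap (O := X.sheaf) α).app G) ≫
      theta E G = theta F G ≫ StalkHom.pre G α := by
  rw [comp_theta, theta, toHomSh_comp_pre]
  refine congrArg toHomSh ?_
  refine Eq.trans ?_ (comp_eq_of_square (homEquiv_symm_sheafHomMap α G)
    (braiding_naturality_inv α ((msHom F).obj G)).symm)
  rfl

variable [HasInjectiveResolutions (ModSite.Mod X.sheaf)]

/-- Degree zero. -/
theorem nonempty_extSh_zero (F G : X.Modules) [ModSite.HasSheafHom (O := X.sheaf) F] :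
    Nonempty ((ModSite.extSh (O := X.sheaf) F 0).obj G ≅ RefHull.homSh F G) := by
  haveI : PreservesFiniteLimits (ModSite.sheafHom (O := X.sheaf) F) :=
    haveI : PreservesLimitsOfSize.{0, 0} (ModSite.sheafHom (O := X.sheaf) F) :=
      (ModSite.sheafHomAdj (O := X.sheaf) F).rightAdjoint_preservesLimits
    PreservesLimitsOfSize.preservesFiniteLimits.{0, 0} _
  exact ⟨(Functor.rightDerivedZeroIsoSelf (ModSite.sheafHom (O := X.sheaf) F)).app G ≪≫
    @asIso _ _ _ _ (theta F G) (isIso_theta F G)⟩

variable {S : ShortComplex X.Modules} (hS : S.ShortExact) (h₂ : FlatMod.IsFinLocFree S.X₂)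
  [ModSite.HasSheafHom (O := X.sheaf) S.X₁] [ModSite.HasSheafHom (O := X.sheaf) S.X₃]

include hS h₂

omit [HasInjectiveResolutions (ModSite.Mod X.sheaf)] h₂ in
theorem shortExact_on_injective [ModSite.HasSheafHom (O := X.sheaf) S.X₂] (J : X.Modules) [Injective J] :
    (SheafExt.homSeq (O := X.sheaf) S J).ShortExact := by
  haveI : Epi (show (S.X₂ : ModSite.Mod X.sheaf) ⟶ S.X₃ from S.g) := hS.epi_g
  haveI := hS.mono_f
  refine { exact := SheafExt.exact_homSeq_of_injective (O := X.sheaf) S hS.exact J
           mono_f := SheafExt.mono_homSeq (O := X.sheaf) S J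
           epi_g := ?_ }
  let S' : ShortComplex X.Modules := ShortComplex.mk (0 : (0 : X.Modules) ⟶ S.X₁) S.f zero_comp
  haveI : ModSite.HasSheafHom (O := X.sheaf) S'.X₁ := SitesTopoi.ModH.hasSheafHom (O := X.sheaf) _
  haveI : ModSite.HasSheafHom (O := X.sheaf) S'.X₂ :=
    inferInstanceAs (ModSite.HasSheafHom (O := X.sheaf) S.X₁)
  haveI : ModSite.HasSheafHom (O := X.sheaf) S'.X₃ :=
    inferInstanceAs (ModSite.HasSheafHom (O := X.sheaf) S.X₂)
  have he := SheafExt.exact_homSeq_of_injective (O := X.sheaf) S'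
    ((ShortComplex.exact_iff_mono _ rfl).2 hS.mono_f) J
  refine (ShortComplex.exact_iff_epi _ ?_).1 he
  apply ((SheafExt.curry (O := X.sheaf) S'.X₁).symm).injective
  rw [SheafExt.curry_symm_zero]
  exact (((ModSite.tensorBi X.sheaf).obj _).map_isZero (isZero_zero X.Modules)).eq_of_src _ _

/-- Dimension shift in the first variable. -/
theorem nonempty_extSh_shift (i : ℕ) (G : X.Modules) :
    Nonempty ((ModSite.extSh (O := X.sheaf) S.X₃ (i + 2)).obj G ≅
      (ModSite.extSh (O := X.sheaf) S.X₁ (i + 1)).obj G) := by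
  haveI := SitesTopoi.ModH.hasSheafHom (O := X.sheaf) S.X₂
  haveI := SheafExt.preservesEpimorphisms_sheafHom h₂
  haveI : PreservesLimitsOfSize.{0, 0} (msHom S.X₂) := (msAdj S.X₂).rightAdjoint_preservesLimits
  haveI : PreservesFiniteLimits (msHom S.X₂) := PreservesLimitsOfSize.preservesFiniteLimits.{0, 0} _
  haveI : (ModSite.sheafHom (O := X.sheaf) S.X₂).PreservesHomology :=
    Functor.preservesHomology_of_preservesEpis_and_kernels (msHom S.X₂)
  exact DerivedShift.nonempty_rightDerived_shift
    (ExtSupp.sheafHomMap (O := X.sheaf) S.g) (ExtSupp.sheafHomMap (O := X.sheaf) S.f)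
    (fun I => SheafExt.sheafHomMap_comp_eq_zero (O := X.sheaf) S.f S.g S.zero I)
    (fun J hJ => shortExact_on_injective hS (J : X.Modules)) i G

/-- Degree one is the cokernel of precomposition. -/
theorem nonempty_extSh_one (G : X.Modules) :
    Nonempty ((ModSite.extSh (O := X.sheaf) S.X₃ 1).obj G ≅ cokernel (StalkHom.pre G S.f)) := by
  haveI := SitesTopoi.ModH.hasSheafHom (O := X.sheaf) S.X₂
  haveI := SheafExt.preservesEpimorphisms_sheafHom h₂
  haveI : PreservesLimitsOfSize.{0, 0} (msHom S.X₂) := (msAdj S.X₂).rightAdjoint_preservesLimits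
  haveI : PreservesFiniteLimits (msHom S.X₂) := PreservesLimitsOfSize.preservesFiniteLimits.{0, 0} _
  haveI : PreservesLimitsOfSize.{0, 0} (msHom S.X₁) := (msAdj S.X₁).rightAdjoint_preservesLimits
  haveI : PreservesFiniteLimits (ModSite.sheafHom (O := X.sheaf) S.X₁) :=
    PreservesLimitsOfSize.preservesFiniteLimits.{0, 0} _
  haveI : PreservesFiniteLimits (ModSite.sheafHom (O := X.sheaf) S.X₂) :=
    PreservesLimitsOfSize.preservesFiniteLimits.{0, 0} _
  haveI : (ModSite.sheafHom (O := X.sheaf) S.X₂).PreservesHomology :=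
    Functor.preservesHomology_of_preservesEpis_and_kernels (msHom S.X₂)
  obtain ⟨e⟩ := DerivedShift.nonempty_rightDerived_one
    (ExtSupp.sheafHomMap (O := X.sheaf) S.g) (ExtSupp.sheafHomMap (O := X.sheaf) S.f)
    (fun I => SheafExt.sheafHomMap_comp_eq_zero (O := X.sheaf) S.f S.g S.zero I)
    (fun J hJ => shortExact_on_injective hS (J : X.Modules)) G
  exact ⟨e ≪≫ cokernel.mapIso _ _ (@asIso _ _ _ _ (theta S.X₂ G) (isIso_theta _ _))
    (@asIso _ _ _ _ (theta S.X₁ G) (isIso_theta _ _))
    (sheafHomMap_theta S.f G)⟩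

end Groth.Duality.ExtShShift
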