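import Groth.Agent.Gorenstein.ExtRegular
import Mathlib.Algebra.Category.ModuleCat.Projective
import Mathlib.CategoryTheory.Abelian.Projective.Ext

/-!
# `Ext^d(k, A) = k` for a regular local ring of dimension `d`
-/

set_option autoImplicit false

universe u

open CategoryTheory IsLocalRing

namespace Groth.Duality

variable (A : Type u) [CommRing A] [IsRegularLocalRing A]

/-- The top `Ext` of the residue field into the ring has length one. -/
theorem length_ext_residueField_eq_one {d : ℕ} (hd : ringKrullDim A = d) :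
    Module.length A (Abelian.Ext.{u} (ModuleCat.of A (ResidueField A)) (ModuleCat.of A A) d) = 1 := by
  let κ : ℕ → Type u := fun i => match i with | 0 => PUnit | _ + 1 => PEmpty
  let e : A ≃+* A ⧸ (⊥ : Ideal A) := (RingEquiv.quotientBot A).symm
  have : IsRegularLocalRing (A ⧸ (⊥ : Ideal A)) := IsRegularLocalRing.of_ringEquiv e
  let eL : (A ⧸ (⊥ : Ideal A)) ≃ₗ[A] A := Submodule.quotEquivOfEqBot ⊥ rfl
  have : Module.Projective A (A ⧸ (⊥ : Ideal A)) := Module.Projective.of_equiv eL.symm
  have hκ : ∀ i, Nonempty (GrothGr.ExtQ (⊥ : Ideal A) A i ≃ₗ[A] (κ i →₀ A ⧸ (⊥ : Ideal A))) := by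
    intro i
    rcases i with _ | i
    · exact ⟨(Abelian.Ext.linearEquiv₀ (R := A)).trans
        ((ModuleCat.homLinearEquiv (S := A) (M := ModuleCat.of A (A ⧸ (⊥ : Ideal A)))
          (N := ModuleCat.of A A)).trans
          ((LinearEquiv.congrLeft A A eL).trans ((LinearMap.ringLmapEquivSelf A A A).trans
            (eL.symm.trans (Finsupp.uniqueLinearEquiv A (A ⧸ (⊥ : Ideal A)) (PUnit.unit : PUnit.{u+1})).symm))))⟩
    · have : Projective (ModuleCat.of A (A ⧸ (⊥ : Ideal A))) :=
        (IsProjective.iff_projective _).1 inferInstance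
      have : Subsingleton (GrothGr.ExtQ (⊥ : Ideal A) A (i + 1)) :=
        subsingleton_of_forall_eq 0 fun x => x.eq_zero_of_projective
      exact ⟨{ toFun := fun _ => 0, invFun := fun _ => 0, map_add' := fun _ _ => (add_zero _).symm,
               map_smul' := fun r _ => (smul_zero r).symm,
               left_inv := fun _ => Subsingleton.elim _ _, right_inv := fun v => Finsupp.ext fun a => a.elim }⟩
  obtain ⟨-, h⟩ := GrothGoren.length_ext_residueField_of_free (A := A) (M := A) d ⊥ κ
    (by rw [← ringKrullDim_eq_of_ringEquiv e, hd]) hκ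
  have h' := h d le_rfl
  rw [Nat.sub_self] at h'
  refine (show GrLC.bassNumLocal A A d = 1 from ?_)
  rw [h']
  show ENat.card PUnit = 1
  simp

end Groth.Duality
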