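import Groth.Agent.Duality.StalkExt
import Groth.Agent.Duality.RegularBass
import Groth.Agent.CohTwo.PushStalkModule
import Groth.Agent.CohTwo.ExtShSections
import Groth.Agent.Inter.Twist

/-!
# An Ext sheaf of a closed subscheme at a reduced generic point
-/

set_option autoImplicit false
set_option backward.isDefEq.respectTransparency false
set_option linter.style.haveILetI false

universe u

open CategoryTheory CategoryTheory.Limits AlgebraicGeometry IsLocalRing

noncomputable section

namespace Groth.Duality.GenericRank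

theorem finrank_eq_one_of_length {A B : Type u} [CommRing A] [Field B] (f : A →+* B) (M : Type u)
    [AddCommGroup M] [Module B M] (N : Type u) [AddCommGroup N] [Module A N]
    (hN : Module.length A N = 1) (e : M ≃+ N) (he : ∀ (a : A) (m : M), e (f a • m) = a • e m) :
    Module.finrank B M = 1 := by
  have hs : IsSimpleModule A N := Module.length_eq_one_iff.1 hN
  have := IsSimpleModule.nontrivial A N
  obtain ⟨v, hv⟩ := exists_ne (0 : N)
  refine finrank_eq_one (e.symm v) (fun h => hv (by rw [← e.apply_symm_apply v, h, map_zero])) fun w => ?_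
  obtain ⟨a, ha⟩ := IsSimpleModule.toSpanSingleton_surjective (R := A) hv (e w)
  exact ⟨f a, e.injective ((he a _).trans (by rw [e.apply_symm_apply]; exact ha))⟩

variable {P X : Scheme.{u}} [IsLocallyNoetherian P] (ι : X ⟶ P) [IsClosedImmersion ι]

/-- The `A`-linear form of the stalk of a direct image. -/
theorem exists_pushStalk (F : X.Modules) (z : X) :
    ∃ e : ((Scheme.Modules.pushforward ι).obj F).presheaf.stalk (ι z) ≃+ F.presheaf.stalk z,
      ∀ a t, e (a • t) = ι.stalkMap z a • e t :=
  ⟨AddEquiv.ofBijective (CohTwo.pushStalk ι F z) (CohTwo.bijective_pushStalk ι F z),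
    fun a t => CohTwo.pushStalk_smul ι F z a t⟩

/-- At a point with field as local ring over a regular point of dimension `c`, `Ext^c` has rank one. -/
theorem finrank_stalk_eq_one (hres : SheafExtStalk.HasLocFreeCovers P)
    [HasInjectiveResolutions (ModSite.Mod P.sheaf)] {c : ℕ} {G : P.Modules}
    (hG : PicF.IsInvertible G)
    [ModSite.HasSheafHom (O := P.sheaf) ((Scheme.Modules.pushforward ι).obj (Coh.structureModule X))]
    (ω : X.Modules)
    (hω : Nonempty ((Scheme.Modules.pushforward ι).obj ω ≅
      (ModSite.extSh (O := P.sheaf) ((Scheme.Modules.pushforward ι).obj (Coh.structureModule X)) c).obj G))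
    (z : X) (hz : IsField (X.presheaf.stalk z)) [IsRegularLocalRing (P.presheaf.stalk (ι z))]
    (hdim : ringKrullDim (P.presheaf.stalk (ι z)) = c) :
    Module.finrank (X.presheaf.stalk z) (ω.presheaf.stalk z) = 1 := by
  let A := P.presheaf.stalk (ι z)
  let B := X.presheaf.stalk z
  let _ : Field B := hz.toField
  let f : A →+* B := (ι.stalkMap z).hom
  have hf : Function.Surjective f := ι.stalkMap_surjective z
  have hker : RingHom.ker f = maximalIdeal A :=
    IsLocalRing.eq_maximalIdeal (RingHom.ker_isMaximal_of_surjective f hf)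
  let F := (Scheme.Modules.pushforward ι).obj (Coh.structureModule X)
  have hF : Coh.IsCoh F := by
    haveI : IsLocallyNoetherian X := LocallyOfFiniteType.isLocallyNoetherian ι
    exact CohTwo.isCoh_push ι (KTheory.LocFree.isCoh (LocFree.isFinLocFree_unit X))
  obtain ⟨eω⟩ := hω
  obtain ⟨eE⟩ := StalkExt.nonempty_stalk_extSh hres G c F hF (ι z)
  obtain ⟨eω', heω'⟩ := exists_pushStalk ι ω z
  obtain ⟨eO, heO⟩ := exists_pushStalk ι (Coh.structureModule X) z
  obtain ⟨g⟩ := Inter.exists_stalk_equiv hG (ι z)
  let u : (Coh.structureModule X).presheaf.stalk z ≃ₗ[B] B :=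
    (LinearEquiv.ofBijective _ (CohTwo.bijective_toSpanSingleton_one z)).symm
  let ψ : A →ₗ[A] F.presheaf.stalk (ι z) := LinearMap.toSpanSingleton A _ (eO.symm (u.symm 1))
  have hψ : ∀ a, u (eO (ψ a)) = f a := fun a => by
    rw [LinearMap.toSpanSingleton_apply, heO, eO.apply_symm_apply, map_smul, u.apply_symm_apply]
    exact mul_one _
  have hψs : Function.Surjective ψ := fun t => by
    obtain ⟨a, ha⟩ := hf (u (eO t))
    exact ⟨a, eO.injective (u.injective ((hψ a).trans ha))⟩
  have hψk : LinearMap.ker ψ = maximalIdeal A := by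
    rw [← hker]
    refine Submodule.ext fun a => ?_
    rw [LinearMap.mem_ker, RingHom.mem_ker, ← hψ a]
    exact ⟨fun h => by rw [h, map_zero, map_zero],
      fun h => eO.injective (u.injective (h.trans (by rw [map_zero, map_zero])))⟩
  let eF : F.presheaf.stalk (ι z) ≃ₗ[A] ResidueField A :=
    (ψ.quotKerEquivOfSurjective hψs).symm ≪≫ₗ Submodule.quotEquivOfEq _ _ hψk
  let eG : G.presheaf.stalk (ι z) ≃ₗ[A] A := g.symm
  have hlen : Module.length A ((Scheme.Modules.pushforward ι).obj ω |>.presheaf.stalk (ι z)) = 1 := by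
    rw [(StalkExt.stalkEquiv eω (ι z) ≪≫ₗ eE ≪≫ₗ
      CohTwo.ExtShSec.extCongr eF.toModuleIso eG.toModuleIso c).length_eq]
    exact length_ext_residueField_eq_one A hdim
  refine finrank_eq_one_of_length (B := B) f (ω.presheaf.stalk z) _ hlen eω'.symm fun a m => ?_
  apply eω'.injective
  rw [heω', AddEquiv.apply_symm_apply, AddEquiv.apply_symm_apply]

end Groth.Duality.GenericRank
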