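import Groth.Agent.Duality.PushDualOne
import Groth.Agent.Duality.CMExt
import Groth.Agent.Duality.StalkHom
import Groth.Agent.Duality.ExtShShift
import Groth.Agent.Duality.GenericRank
import Groth.Agent.Duality.PnExtStalk
import Groth.Agent.LocFree.Hom
import Groth.Agent.LocFree.Rank
import Groth.Agent.Flatmor4.GenericDense
import Groth.Agent.PicAux.MeroDepth
import Groth.Agent.Misc7.ClosedImm.Modules
import Groth.Prelude.Def_TorSh

/-!
# Biduality for sheaves of projective dimension one

`ℰxt¹(ℰxt¹(F, ω), ω) ≅ F` when `F` has a two-term locally free resolution, `ℋom(F, ω) = 0` and `ω`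
is invertible; and the torsion-free modules on a curve in a smooth surface have such resolutions.
-/

set_option autoImplicit false
set_option backward.isDefEq.respectTransparency false
set_option linter.style.haveILetI false
set_option synthInstance.maxHeartbeats 400000
set_option maxHeartbeats 1000000

universe u

open CategoryTheory CategoryTheory.Limits AlgebraicGeometry

noncomputable section

namespace Groth.Duality.BidualOne

open Groth.CohTwo.SheafHomIso
open Groth.PicAux (tmulSec exists_braiding)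
open Groth.QCohMod (germ exists_germ germ_res)

variable {X : Scheme.{u}} (ω : X.Modules)

/-- Evaluation as a map to the double dual. -/
def θ (E : X.Modules) : E ⟶ RefHull.homSh (RefHull.homSh E ω) ω :=
  toHomSh ((exists_braiding (RefHull.homSh E ω) E).choose.hom ≫ evalHom E ω)

theorem evalStalk_θ (E : X.Modules) (x : X) (v : E.presheaf.stalk x)
    (φ : (RefHull.homSh E ω).presheaf.stalk x) :
    RefHull.evalStalk (RefHull.homSh E ω) ω x (RefHull.stalkMapₗ (θ ω E) x v) φ =
      RefHull.evalStalk E ω x φ v := by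
  obtain ⟨U, hU, m, rfl⟩ := exists_germ E x v
  obtain ⟨V, hV, g, rfl⟩ := exists_germ (RefHull.homSh E ω) x φ
  have hW : x ∈ U ⊓ V := ⟨hU, hV⟩
  rw [← germ_res E (inf_le_left : U ⊓ V ≤ U) x hW m,
    ← germ_res (RefHull.homSh E ω) (inf_le_right : U ⊓ V ≤ V) x hW g, RefHull.stalkMapₗ_germ,
    RefHull.evalStalk_germ, RefHull.evalStalk_germ, θ, toHomSh_app, currySec_val]
  refine (curryStalk_germ _ hW _ _).trans ?_
  refine (congrArg (fun z => germ ω x hW ((evalHom E ω).app _ z))
    ((exists_braiding (RefHull.homSh E ω) E).choose_spec _ _ _)).trans ?_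
  rw [evalHom_tmulSec, RefRank.germ_secToLin]

variable {ω} [IsLocallyNoetherian X] (hω : FlatMod.IsFinLocFreeOfRank 1 ω)

include hω

theorem isIso_θ {E : X.Modules} (hE : FlatMod.IsFinLocFree E) : IsIso (θ ω E) := by
  have hωf := LocFree.isFinLocFree_of_rank hω
  have hH := LocFree.isFinLocFree_homSh hE hωf
  have hb : ∀ x : X, Function.Bijective (RefHull.stalkMapₗ (θ ω E) x) := by
    intro x
    haveI := (KTheory.LocFree.isCoh hωf).1
    haveI := KTheory.LocFree.free_stalk hωf x
    haveI := KTheory.LocFree.free_stalk hE x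
    haveI := LocFree.finite_stalk hE x
    haveI := LocFree.finite_stalk hωf x
    let b := (Module.finBasisOfFinrankEq _ _ (LocFree.finrank_stalk hω x))
    let u : ω.presheaf.stalk x ≃ₗ[X.presheaf.stalk x] X.presheaf.stalk x :=
      b.equivFun ≪≫ₗ LinearEquiv.funUnique (Fin 1) _ _
    have b₁ := VectorBundles.RefHullStalk.evalStalk_bijective_of_isCoh (RefHull.homSh E ω) ω
      (KTheory.LocFree.isCoh hH) x
    let e₂ := LinearEquiv.ofBijective (RefHull.evalStalk E ω x)
      (VectorBundles.RefHullStalk.evalStalk_bijective_of_isCoh E ω (KTheory.LocFree.isCoh hE) x)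
    let Φ := (LinearEquiv.ofBijective (Module.Dual.eval (X.presheaf.stalk x) (E.presheaf.stalk x))
        (Module.bijective_dual_eval _ _)) ≪≫ₗ
      LinearEquiv.arrowCongr ((LinearEquiv.arrowCongr (LinearEquiv.refl _ _) u).symm ≪≫ₗ e₂.symm)
        u.symm
    refine (Function.Bijective.of_comp_iff' b₁ _).1 ?_
    convert Φ.bijective using 1
    funext v
    refine LinearMap.ext fun φ => ?_
    rw [Function.comp_apply, evalStalk_θ]
    simp only [Φ, e₂, LinearEquiv.trans_apply, LinearEquiv.arrowCongr_apply,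
      LinearEquiv.ofBijective_apply, LinearEquiv.trans_symm, LinearEquiv.symm_symm,
      Module.Dual.eval_apply, LinearEquiv.refl_symm, LinearEquiv.refl_apply,
      LinearEquiv.symm_apply_apply]
  haveI : Mono (θ ω E) := (QCohMod.mono_iff_stalk _).2 fun x => (hb x).1
  haveI : Epi (θ ω E) := (QCohMod.epi_iff_stalk _).2 fun x => (hb x).2
  exact isIso_of_mono_of_epi _

theorem θ_naturality {E E' : X.Modules} (hE' : FlatMod.IsFinLocFree E') (f : E ⟶ E') :
    θ ω E ≫ StalkHom.pre ω (StalkHom.pre ω f) = f ≫ θ ω E' := by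
  refine StalkHom.hom_ext_stalk fun x => LinearMap.ext fun v => ?_
  refine (VectorBundles.RefHullStalk.evalStalk_bijective_of_isCoh (RefHull.homSh E' ω) ω
    (KTheory.LocFree.isCoh (LocFree.isFinLocFree_homSh hE' (LocFree.isFinLocFree_of_rank hω))) x).1 ?_
  refine LinearMap.ext fun φ => ?_
  rw [StalkHom.stalkMapₗ_comp_apply, StalkHom.stalkMapₗ_comp_apply, StalkHom.evalStalk_pre,
    LinearMap.comp_apply, evalStalk_θ, evalStalk_θ, StalkHom.evalStalk_pre, LinearMap.comp_apply]

omit hω in
/-- `ℋom(-, ω)` is left exact. -/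
theorem mono_pre {S : ShortComplex X.Modules} (hS : S.ShortExact) (h₂ : Coh.IsCoh S.X₂)
    (h₃ : Coh.IsCoh S.X₃) (hz : IsZero (RefHull.homSh S.X₃ ω)) :
    Mono (StalkHom.pre ω S.f) := by
  refine (QCohMod.mono_iff_stalk _).2 fun x => ?_
  suffices h : Function.Injective (RefHull.stalkMapₗ (StalkHom.pre ω S.f) x) from h
  refine (injective_iff_map_eq_zero _).2 fun a ha => ?_
  apply (VectorBundles.RefHullStalk.evalStalk_bijective_of_isCoh S.X₂ ω h₂ x).1
  rw [map_zero]
  have h0 : RefHull.evalStalk S.X₂ ω x a ∘ₗ RefHull.stalkMapₗ S.f x = 0 := by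
    rw [← StalkHom.evalStalk_pre, ha, map_zero]
  obtain ⟨-, hg, he⟩ := StalkHom.exact_stalk hS x
  obtain ⟨b, hb⟩ := StalkHom.exists_desc hg he _ h0
  obtain ⟨c, rfl⟩ := (VectorBundles.RefHullStalk.evalStalk_bijective_of_isCoh S.X₃ ω h₃ x).2 b
  have hc : c = 0 := by
    have h0' : IsZero ((QCohMod.stalk x).obj (RefHull.homSh S.X₃ ω)) :=
      (QCohMod.stalk x).map_isZero hz
    exact @Subsingleton.elim _ (AddCommGrpCat.subsingleton_of_isZero h0') _ _
  rw [← hb, hc, map_zero, LinearMap.zero_comp]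

/-- Biduality. -/
theorem nonempty_bidual_iso [HasInjectiveResolutions (ModSite.Mod X.sheaf)]
    {S : ShortComplex X.Modules} (hS : S.ShortExact) (h₁ : FlatMod.IsFinLocFree S.X₁)
    (h₂ : FlatMod.IsFinLocFree S.X₂) (h₃ : Coh.IsCoh S.X₃)
    (hz : IsZero (RefHull.homSh S.X₃ ω))
    [ModSite.HasSheafHom (O := X.sheaf) S.X₃]
    (G : X.Modules) (eG : G ≅ (ModSite.extSh (O := X.sheaf) S.X₃ 1).obj ω)
    [ModSite.HasSheafHom (O := X.sheaf) G] :
    Nonempty ((ModSite.extSh (O := X.sheaf) G 1).obj ω ≅ S.X₃) := by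
  haveI : ModSite.HasSheafHom (O := X.sheaf) S.X₁ := SitesTopoi.ModH.hasSheafHom (O := X.sheaf) _
  haveI := mono_pre hS (KTheory.LocFree.isCoh h₂) h₃ hz
  have hωf := LocFree.isFinLocFree_of_rank hω
  obtain ⟨e₁⟩ := ExtShShift.nonempty_extSh_one hS h₂ ω
  let T : ShortComplex X.Modules :=
    ShortComplex.mk (StalkHom.pre ω S.f) (cokernel.π _) (cokernel.condition _)
  have hT : T.ShortExact :=
    { exact := ShortComplex.exact_of_g_is_cokernel _ (cokernelIsCokernel _)
      mono_f := inferInstanceAs (Mono (StalkHom.pre ω S.f))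
      epi_g := inferInstanceAs (Epi (cokernel.π _)) }
  haveI : ModSite.HasSheafHom (O := X.sheaf) T.X₁ := SitesTopoi.ModH.hasSheafHom (O := X.sheaf) _
  haveI : ModSite.HasSheafHom (O := X.sheaf) T.X₃ := SitesTopoi.ModH.hasSheafHom (O := X.sheaf) _
  obtain ⟨e₂⟩ := ExtShShift.nonempty_extSh_one hT (LocFree.isFinLocFree_homSh h₁ hωf) ω
  obtain ⟨c⟩ := SheafExt.nonempty_extSh_congr (F' := T.X₃) (eG ≪≫ e₁) 1 ω
  haveI := isIso_θ hω h₁
  haveI := isIso_θ hω h₂
  haveI := hS.epi_g
  let e₃ : cokernel S.f ≅ cokernel (StalkHom.pre ω (StalkHom.pre ω S.f)) :=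
    cokernel.mapIso _ _ (asIso (θ ω S.X₁)) (asIso (θ ω S.X₂)) (θ_naturality hω h₂ S.f).symm
  exact ⟨c ≪≫ e₂ ≪≫ e₃.symm ≪≫
    IsColimit.coconePointUniqueUpToIso (cokernelIsCokernel S.f) hS.gIsCokernel⟩

omit [IsLocallyNoetherian X] hω

/-- A resolution of length one from a bound on the projective dimension of the stalks. -/
theorem isFinLocFree_left [IsLocallyNoetherian X] {S : ShortComplex X.Modules} (hS : S.ShortExact)
    (hK : Coh.IsCoh S.X₁) (h₂ : FlatMod.IsFinLocFree S.X₂)
    (hpd : ∀ x : X, HasProjectiveDimensionLT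
      (ModuleCat.of (X.presheaf.stalk x) (S.X₃.presheaf.stalk x)) 2) :
    FlatMod.IsFinLocFree S.X₁ := by
  refine KTheory.LocFree.isFinLocFree_of_free_stalks hK fun x => ?_
  haveI := hK.1
  haveI := QCohMod.finite_stalk S.X₁ hK.2 x
  haveI := KTheory.LocFree.free_stalk h₂ x
  have hT := StalkHom.shortExact_stalkSC hS x
  haveI : Module.Free (X.presheaf.stalk x) (StalkHom.stalkSC S x).X₂ :=
    inferInstanceAs (Module.Free (X.presheaf.stalk x) (S.X₂.presheaf.stalk x))
  haveI : Projective (StalkHom.stalkSC S x).X₂ :=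
    ModuleCat.projective_of_free (Module.Free.chooseBasis (X.presheaf.stalk x) _)
  have h1 : HasProjectiveDimensionLT (StalkHom.stalkSC S x).X₁ 1 :=
    hT.hasProjectiveDimensionLT_X₁ 1 inferInstance (hpd x)
  haveI : Module.Projective (X.presheaf.stalk x) (S.X₁.presheaf.stalk x) :=
    (IsProjective.iff_projective (R := X.presheaf.stalk x) (StalkHom.stalkSC S x).X₁).2
      (projective_iff_hasProjectiveDimensionLT_one.2 h1)
  exact Module.free_of_flat_of_isLocalRing

/-- Torsion-free modules on a curve in a smooth surface have projective dimension at most one. -/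
theorem hasProjectiveDimensionLT_stalk_push (k : Type u) [Field k]
    [X.Over (Spec (CommRingCat.of k))] [SmoothOfRelativeDimension 2 (X ↘ Spec (CommRingCat.of k))]
    {C : Scheme.{u}} (j : C ⟶ X) [IsClosedImmersion j] [AlgebraicGeometry.IsIntegral C]
    (hC : topologicalKrullDim C = 1) (M : C.Modules) (hM : Coh.IsCoh M)
    (hMtf : TorSh.IsTorsionFree M) (x : X) :
    HasProjectiveDimensionLT (ModuleCat.of (X.presheaf.stalk x)
      (((Coh.push j).obj M).presheaf.stalk x)) 2 := by
  haveI : Smooth (X ↘ Spec (CommRingCat.of k)) :=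
    SmoothOfRelativeDimension.smooth 2 (X ↘ Spec (CommRingCat.of k))
  haveI : IsLocallyNoetherian X :=
    LocallyOfFiniteType.isLocallyNoetherian (X ↘ Spec (CommRingCat.of k))
  haveI : IsLocallyNoetherian C := LocallyOfFiniteType.isLocallyNoetherian j
  have hF : Coh.IsCoh ((Coh.push j).obj M) := CohTwo.isCoh_push j hM
  haveI := hF.1
  set R := X.presheaf.stalk x
  set N := ((Coh.push j).obj M).presheaf.stalk x
  haveI : Module.Finite R N := QCohMod.finite_stalk _ hF.2 x
  haveI : IsRegularLocalRing R := PushDualOne.isRegularLocalRing_stalk k 2 x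
  obtain ⟨d, hd⟩ := CMExt.exists_nat_dim R
  have hP : ∀ η : X, IsMax η → Order.height η = 2 :=
    SmoothDual.height_eq (X ↘ Spec (CommRingCat.of k)) 2
  have hsum := Flatmor4.height_add_dim_stalk_of_equidim (X ↘ Spec (CommRingCat.of k)) hP x
  rw [hd] at hsum
  have hd2 : d ≤ 2 := by
    have h : (Order.height x : ℕ∞) + d = (2 : ℕ) := WithBot.coe_injective hsum
    have : ((d : ℕ) : ℕ∞) ≤ ((2 : ℕ) : ℕ∞) := le_add_self.trans h.le
    exact_mod_cast this
  rcases le_or_gt d 1 with hd1 | hd1
  · have h := Groth.Agent.S0563.result R d hd N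
    exact hasProjectiveDimensionLT_of_ge _ (d + 1) 2 (by omega)
  obtain rfl : d = 2 := by omega
  rcases subsingleton_or_nontrivial N with hN | hN
  · haveI : HasProjectiveDimensionLT (ModuleCat.of R N) 0 :=
      (hasProjectiveDimensionLT_zero_iff_isZero _).2 (ModuleCat.isZero_of_subsingleton _)
    exact hasProjectiveDimensionLT_of_ge _ 0 _ (Nat.zero_le _)
  obtain ⟨z, rfl⟩ := CohTwo.support_push_subset j M
    (show x ∈ CohB1.support ((Coh.push j).obj M) from not_subsingleton N)
  -- the point is not the generic point of the curve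
  have hz : ¬ IsField (C.presheaf.stalk z) := fun hf => by
    obtain rfl := Flatmor4.eq_genericPoint_of_isField hf
    have h1 : ((Order.height (genericPoint C) : ℕ∞) : WithBot ℕ∞) = 1 := by
      rw [← Variety2.Dim.dim_closure_singleton, genericPoint_closure, ← hC]
      exact IsHomeomorph.topologicalKrullDim_eq _ (Homeomorph.Set.univ C).isHomeomorph
    rw [Variety2.Dim.height_eq_of_isPreimmersion (j ≫ (X ↘ Spec (CommRingCat.of k)))
      (X ↘ Spec (CommRingCat.of k)) j rfl] at hsum
    have h1' : Order.height (genericPoint C) = 1 := WithBot.coe_injective h1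
    rw [h1'] at hsum
    have : ((1 : ℕ) + 2 : ℕ∞) = ((2 : ℕ) : ℕ∞) := WithBot.coe_injective hsum
    exact absurd (show (1 : ℕ) + 2 = 2 by exact_mod_cast this) (by omega)
  let f : R →+* C.presheaf.stalk z := (j.stalkMap z).hom
  have hfs : Function.Surjective f := j.stalkMap_surjective z
  obtain ⟨c, hc, hcu⟩ : ∃ c : C.presheaf.stalk z, c ≠ 0 ∧ ¬ IsUnit c := by
    by_contra hne
    push Not at hne
    exact hz ⟨exists_pair_ne _, mul_comm, fun {a} ha => (hne a ha).exists_right_inv⟩
  obtain ⟨b, rfl⟩ := hfs c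
  have hb : b ∈ IsLocalRing.maximalIdeal R := fun hu => hcu (hu.map f)
  obtain ⟨e, he⟩ := GenericRank.exists_pushStalk j M z
  haveI := hMtf z
  have hreg : IsSMulRegular N b := fun s t hst => e.injective (by
    have h' := congrArg e (show b • s = b • t from hst)
    rw [he, he] at h'
    exact smul_right_injective _ hc h')
  have h1 : (1 : ℕ∞) ≤ LocCoh.depth R N := by
    rw [LocCoh.depth, ← LocCohBase.idealDepth_quotSMulTop_add_one _ N
      (LocCohBase.smul_maximalIdeal_ne_top (R := R) N
        (IsLocalRing.maximalIdeal.isMaximal R).ne_top) hb hreg]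
    exact le_add_self
  have h2 : ((LocCoh.depth R N : ℕ∞) : WithBot ℕ∞) ≤ ((2 : ℕ) : WithBot ℕ∞) :=
    ((LocCohBase.depth_le_supportDim (R := R) N).trans
      (Module.supportDim_le_ringKrullDim R N)).trans hd.le
  obtain ⟨a, ha⟩ : ∃ a : ℕ, LocCoh.depth R N = a :=
    (ENat.ne_top_iff_exists.1 (ne_top_of_le_ne_top (ENat.natCast_ne_top 2)
      (WithBot.coe_le_coe.1 h2))).imp fun _ => Eq.symm
  have ha1 : 1 ≤ a := by rw [ha] at h1; exact_mod_cast h1
  have ha2 : a ≤ 2 := by
    have h := WithBot.coe_le_coe.1 h2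
    rw [ha] at h; exact_mod_cast h
  have h := CMExt.hasProjectiveDimensionLT_of_depth N (a := a) (c := 2 - a)
    (by rw [hd]; exact_mod_cast congrArg (Nat.cast : ℕ → WithBot ℕ∞) (show 2 = a + (2 - a) by omega)) (fun _ => ha)
  exact hasProjectiveDimensionLT_of_ge _ (2 - a + 1) 2 (by omega)

/-- Coherent modules on a closed subscheme of projective space are quotients of locally free ones. -/
theorem exists_cover {k : Type u} [Field k] {n : ℕ} (ι : X ⟶ CohB1.ProjSpace n k)
    [IsClosedImmersion ι] (F : X.Modules) (hF : Coh.IsCoh F) :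
    ∃ S : ShortComplex X.Modules, S.ShortExact ∧ S.X₃ = F ∧ FlatMod.IsFinLocFree S.X₂ ∧
      Coh.IsCoh S.X₁ := by
  haveI := PnCoh.isLocallyNoetherian_projSpace n k
  haveI : IsLocallyNoetherian X := LocallyOfFiniteType.isLocallyNoetherian ι
  obtain ⟨T, hT, h3, hE, -, -⟩ :=
    Pn.exists_twistSum_seq ((Scheme.Modules.pushforward ι).obj F) (CohTwo.isCoh_push ι hF)
  let adj := Scheme.Modules.pullbackPushforwardAdjunction ι
  haveI : PreservesColimitsOfSize.{0, 0} (Scheme.Modules.pullback ι) :=
    adj.leftAdjoint_preservesColimits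
  haveI := hT.epi_g
  let q : (Scheme.Modules.pullback ι).obj T.X₂ ⟶ F :=
    (Scheme.Modules.pullback ι).map (T.g ≫ eqToHom h3) ≫ adj.counit.app F
  haveI : IsIso (adj.counit.app F) := by
    haveI : IsIso (Scheme.Modules.pullbackPushforwardAdjunction ι).counit :=
      Misc7.ClosedImm.isIso_counit ι
    infer_instance
  haveI : Epi (T.g ≫ eqToHom h3) := epi_comp _ _
  haveI : Epi ((Scheme.Modules.pullback ι).map (T.g ≫ eqToHom h3)) :=
    (Scheme.Modules.pullback ι).map_epi _
  haveI : Epi q := epi_comp _ _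
  have hM : FlatMod.IsFinLocFree ((Scheme.Modules.pullback ι).obj T.X₂) :=
    LocFree.isFinLocFree_pullback ι hE.isFinLocFree
  haveI := hF.1
  exact ⟨ShortComplex.mk (kernel.ι q) q (kernel.condition q),
    { exact := ShortComplex.exact_of_f_is_kernel _ (kernelIsKernel q)
      mono_f := inferInstanceAs (Mono (kernel.ι q))
      epi_g := ‹Epi q› }, rfl, hM, QCohMod.isCoh_kernel q (KTheory.LocFree.isCoh hM)⟩

end Groth.Duality.BidualOne
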