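import Groth.Agent.Duality.SheafExtStalk
import Groth.Agent.Duality.PnPushDepth
import Groth.Agent.Inter.Vanishing
import Groth.Agent.PicAux.PicLaw

/-!
# Vanishing of Ext sheaves into `O(-n-1)` on projective space
-/

set_option autoImplicit false
set_option backward.isDefEq.respectTransparency false
set_option linter.style.haveILetI false

universe u

open CategoryTheory CategoryTheory.Limits AlgebraicGeometry TopologicalSpace

noncomputable section

namespace Groth.Duality.Pn

variable {k : Type u} [Field k] {n : ℕ}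

variable (k n) in
/-- Coherent modules on projective space have finite locally free covers. -/
theorem hasLocFreeCovers : SheafExtStalk.HasLocFreeCovers (CohB1.ProjSpace n k) := fun F hF => by
  obtain ⟨S, hS, h3, hE, hK, -⟩ := exists_twistSum_seq F hF
  exact ⟨S, hS, h3, hE.isFinLocFree, hK⟩

/-- `Ext^{n-i}(F, ω) = 0` as a sheaf exactly when `H^i(F(-m)) = 0` for large `m`. -/
theorem isZero_extSh_omega_iff {F : (CohB1.ProjSpace n k).Modules} (hF : Coh.IsCoh F)
    [ModSite.HasSheafHom (O := (CohB1.ProjSpace n k).sheaf) F]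
    [HasInjectiveResolutions (ModSite.Mod (CohB1.ProjSpace n k).sheaf)] {i j : ℕ} (hij : i + j = n) :
    IsZero ((ModSite.extSh (O := (CohB1.ProjSpace n k).sheaf) F j).obj (omega k n)) ↔
      NegVanish F i := by
  have := PnCoh.isLocallyNoetherian_projSpace n k
  refine (SheafExtStalk.isZero_extSh_iff (hasLocFreeCovers k n) F (omega k n) hF j).trans
    ⟨fun h => negVanish_of_stalkExtRingZero hF hij fun x _ =>
      (stalkExtZero_omega_iff F j x).mp (h x), fun h x => ?_⟩
  exact (stalkExtZero_omega_iff F j x).mpr (stalkExtRingZero_of_negVanish hF hij h x)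

variable {X : Scheme.{u}} (ι : X ⟶ CohB1.ProjSpace n k) [IsClosedImmersion ι]

/-- For the structure sheaf of a closed subscheme. -/
theorem negVanish_push_unit_iff (p : ℕ) :
    NegVanish ((Scheme.Modules.pushforward ι).obj (Coh.structureModule X)) p ↔
      ∃ m₀ : ℤ, ∀ m : ℤ, m₀ ≤ m → Subsingleton (Coh.HH X
        ((Scheme.Modules.pullback ι).obj (Twist.twistProjSpace n k (-m))) p) := by
  have := (KTheory.LocFree.isCoh (LocFree.isFinLocFree_unit X)).1
  refine exists_congr fun m₀ => forall₂_congr fun m _ => ?_
  rw [subsingleton_push_iff ι (Coh.structureModule X) (-m) p]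
  obtain ⟨e⟩ := PicAux.tensorMod_one
    (PicAux.isInvertible_pullback ι (PnCoh.isInvertible_twist n k (-m)))
  exact ⟨PnCoh.subsingleton_HH_of_iso (ι ≫ CohB1.ProjSpace.toSpec n k) e,
    PnCoh.subsingleton_HH_of_iso (ι ≫ CohB1.ProjSpace.toSpec n k) e.symm⟩

/-- Above the dimension everything vanishes. -/
theorem negVanish_push_of_dim_lt {p : ℕ} (hp : topologicalKrullDim ↥X < (p : WithBot ℕ∞)) :
    NegVanish ((Scheme.Modules.pushforward ι).obj (Coh.structureModule X)) p := by
  have := PnCoh.isLocallyNoetherian_projSpace n k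
  have : CompactSpace (CohB1.ProjSpace n k) :=
    @QuasiCompact.compactSpace_of_compactSpace _ _ (CohB1.ProjSpace.toSpec n k)
      (have := Variety2.isProper_projSpace_toSpec n k; inferInstance) inferInstance
  have : IsNoetherian (CohB1.ProjSpace n k) := {}
  have : IsLocallyNoetherian X := LocallyOfFiniteType.isLocallyNoetherian ι
  have : CompactSpace X := QuasiCompact.compactSpace_of_compactSpace ι
  have : IsNoetherian X := {}
  refine (negVanish_push_unit_iff ι p).mpr ⟨0, fun m _ => ?_⟩
  rcases p with _ | p
  · have he : IsEmpty ↥X := by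
      refine not_nonempty_iff.1 fun hne => ?_
      obtain ⟨x⟩ := hne
      have : Nonempty (IrreducibleCloseds ↥X) :=
        ⟨⟨closure {x}, isIrreducible_singleton.closure, isClosed_closure⟩⟩
      have h0 : (0 : WithBot ℕ∞) ≤ topologicalKrullDim ↥X := Order.krullDim_nonneg
      exact absurd hp (not_lt.2 (by exact_mod_cast h0))
    refine (SheafHom.h0 _).toEquiv.subsingleton_congr.2 ?_
    have e : (⊤ : X.Opens) = ⊥ := Opens.ext (Set.eq_empty_of_isEmpty _)
    rw [e]
    exact AddCommGrpCat.subsingleton_of_isZero (TopCat.Sheaf.isTerminalOfEmpty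
      (⟨Scheme.Modules.presheaf _, Scheme.Modules.isSheaf _⟩ :
        TopCat.Sheaf AddCommGrpCat.{u} X.toTopCat)).isZero
  · have : NoetherianSpace ↑X.toTopCat := inferInstanceAs (NoetherianSpace ↥X)
    have hd : topologicalKrullDim ↥X ≤ (p : WithBot ℕ∞) := by
      revert hp
      generalize topologicalKrullDim ↥X = a
      rcases a with _ | a
      · exact fun _ => bot_le
      · intro h
        have h' : a < ((p + 1 : ℕ) : ℕ∞) := WithBot.coe_lt_coe.1 h
        exact WithBot.coe_le_coe.2 (ENat.lt_add_one_iff (ENat.natCast_ne_top p) |>.1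
          (by exact_mod_cast h'))
    exact Inter.Vanishing.subsingleton_H_of_dim_le (X := X.toTopCat) hd _ (p + 1) p.lt_succ_self

end Groth.Duality.Pn
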