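import Groth.Agent.Duality.DualPair
import Groth.Agent.Duality.PnExtShVanish
import Groth.Agent.Duality.PnExtDuality
import Groth.Agent.Duality.SheafHomTwist
import Groth.Agent.Inter.Vanishing
import Groth.Agent.Misc7.ClosedImm.Modules

/-!
# Negative twists give acyclic covers on closed subschemes of projective space
-/

set_option autoImplicit false
set_option backward.isDefEq.respectTransparency false
set_option synthInstance.maxHeartbeats 400000
set_option maxHeartbeats 1000000
set_option linter.style.haveILetI false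

universe u

open CategoryTheory CategoryTheory.Limits AlgebraicGeometry TopologicalSpace
open CategoryTheory.Abelian
open Groth.PnCoh (sigmaProj sigmaProj_total isCoh_sigma)

noncomputable section

namespace Groth.Duality.Closed

variable {k : Type u} [Field k] {N : ℕ} {X : Scheme.{u}}
  (ι : X ⟶ CohB1.ProjSpace N k)

/-- `O_X(d)`. -/
abbrev tw (d : ℤ) : X.Modules := (Scheme.Modules.pullback ι).obj (Twist.twistProjSpace N k d)

variable [IsClosedImmersion ι]

/-- `H^q(X, O_X(-m)) = 0` for large `m`. -/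
def Vanish (q : ℕ) : Prop :=
  ∃ m₀ : ℤ, ∀ m : ℤ, m₀ ≤ m → Subsingleton (Coh.HH X (tw ι (-m)) q)

include ι in
theorem isNoetherian : AlgebraicGeometry.IsNoetherian X := by
  have := PnCoh.isLocallyNoetherian_projSpace N k
  have : CompactSpace (CohB1.ProjSpace N k) :=
    @QuasiCompact.compactSpace_of_compactSpace _ _ (CohB1.ProjSpace.toSpec N k)
      (have := Variety2.isProper_projSpace_toSpec N k; inferInstance) inferInstance
  have : IsLocallyNoetherian X := LocallyOfFiniteType.isLocallyNoetherian ι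
  have : CompactSpace X := QuasiCompact.compactSpace_of_compactSpace ι
  exact {}

theorem isCoh_tw (d : ℤ) : Coh.IsCoh (tw ι d) :=
  have := (PnCoh.isCoh_twist N k d).1
  ⟨QCohMod.isQCoh_pullback_obj ι _, QCohMod.isFT_pullback ι _ (PnCoh.isCoh_twist N k d).2⟩

theorem isInverseOf_tw (d : ℤ) : ClSub.IsInverseOf (tw ι d) (tw ι (-d)) := by
  obtain ⟨e⟩ := Pn.isInverseOf_twist N k d
  obtain ⟨c, -⟩ := PicAux.exists_pullback_tensorMod ι (Twist.twistProjSpace N k d)
    (Twist.twistProjSpace N k (-d))
  obtain ⟨u⟩ := PicAux.pullback_structure_iso ι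
  exact ⟨c.symm ≪≫ (Scheme.Modules.pullback ι).mapIso e ≪≫ u⟩

include ι in
/-- Cohomology vanishes above the dimension. -/
theorem subsingleton_HH_of_lt {d : ℕ} (hdim : topologicalKrullDim ↥X ≤ (d : WithBot ℕ∞))
    (M : X.Modules) {q : ℕ} (hq : d < q) : Subsingleton (Coh.HH X M q) := by
  have := isNoetherian ι
  have : NoetherianSpace ↑X.toTopCat := inferInstanceAs (NoetherianSpace ↥X)
  exact Inter.Vanishing.subsingleton_H_of_dim_le (X := X.toTopCat) hdim _ q hq

variable [X.Over (Spec (CommRingCat.of k))] [HasExt.{u} X.Modules]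

/-- `Ext^{i+1}(O_X(d), ω) = 0` for very negative `d`. -/
theorem exists_ext_tw_zero {ω : X.Modules} (hω : Coh.IsCoh ω) :
    ∃ b : ℤ, ∀ d : ℤ, d ≤ b → ∀ i : ℕ, Subsingleton (Ext (tw ι d) ω (i + 1)) := by
  obtain ⟨d₀, hd₀⟩ := PnCoh.exists_subsingleton_twist_closed N k ι ω hω
  refine ⟨-d₀, fun d hd i => ?_⟩
  have hP : FlatMod.IsFinLocFree (tw ι d) := LocFree.isFinLocFree_pullback ι (Pn.isFinLocFree_twist d)
  have := SheafHom.hasSheafHom (tw ι d)
  obtain ⟨e⟩ := SheafHom.nonempty_ext_linearEquiv k (tw ι d) hP (i + 1) ω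
  obtain ⟨θ⟩ := SheafHom.nonempty_sheafHom_inverse_app (isInverseOf_tw ι d) ω
  have : Subsingleton (Coh.HH X (CohB1.tensorMod ω (tw ι (-d))) (i + 1)) :=
    hd₀ (-d) (by omega) (i + 1) i.succ_pos
  exact (e ≪≫ₗ EulerDeg.hEquiv k θ (i + 1)).injective.subsingleton

/-- Vanishing of negative twists below the dimension gives acyclic covers. -/
theorem hasAcyclicCovers {ω : X.Modules} (hω : Coh.IsCoh ω) {d s : ℕ}
    (hV : ∀ q : ℕ, q < d → d ≤ q + s → Vanish ι q) :
    DualPair.HasAcyclicCovers ω d s := by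
  obtain ⟨b₁, hb₁⟩ := exists_ext_tw_zero ι hω
  have hb : ∀ n, n ≤ d → ∃ b : ℤ, ∀ e : ℤ, e ≤ b → ∀ q : ℕ, q < n → d ≤ q + s →
      Subsingleton (Coh.HH X (tw ι e) q) := by
    intro n
    induction n with
    | zero => exact fun _ => ⟨0, fun e _ q hq => absurd hq (Nat.not_lt_zero q)⟩
    | succ n ih =>
      intro hn
      obtain ⟨b, hb⟩ := ih (Nat.le_of_succ_le hn)
      by_cases hs : d ≤ n + s
      · obtain ⟨m₀, hm₀⟩ := hV n hn hs
        refine ⟨min b (-m₀), fun e he q hq hqs => ?_⟩
        rcases Nat.lt_succ_iff_lt_or_eq.1 hq with h | rfl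
        · exact hb e (he.trans (min_le_left _ _)) q h hqs
        · have h := hm₀ (-e) (by have := he.trans (min_le_right _ _); omega)
          rwa [neg_neg] at h
      · exact ⟨b, fun e he q hq hqs => hb e he q (by omega) hqs⟩
  obtain ⟨b₂, hb₂⟩ := hb d le_rfl
  intro F hF
  have := PnCoh.isLocallyNoetherian_projSpace N k
  obtain ⟨r, e, p, he, hp⟩ := PnCoh.exists_epi_twists (𝒜 := CohB1.polyGrading N k)
    ((Scheme.Modules.pushforward ι).obj F) (CohTwo.isCoh_push ι hF) (min b₁ b₂)
  let O' := fun j => Twist.twistProjSpace N k (e j)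
  let adj := Scheme.Modules.pullbackPushforwardAdjunction ι
  let q : (Scheme.Modules.pullback ι).obj (∐ O') ⟶ F :=
    (Scheme.Modules.pullback ι).map p ≫ adj.counit.app F
  let M := fun j => tw ι (e j)
  let q' : ∐ M ⟶ F := sigmaComparison (Scheme.Modules.pullback ι) O' ≫ q
  have : PreservesColimitsOfSize.{0, 0} (Scheme.Modules.pullback ι) :=
    adj.leftAdjoint_preservesColimits
  have : Epi p := hp
  have : Epi ((Scheme.Modules.pullback ι).map p) :=
    (Scheme.Modules.pullback ι).map_epi p
  have : IsIso (adj.counit.app F) := by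
    have : IsIso (Scheme.Modules.pullbackPushforwardAdjunction ι).counit :=
      Misc7.ClosedImm.isIso_counit ι
    infer_instance
  have hq : Epi q := epi_comp _ _
  have hq' : Epi q' := epi_comp (sigmaComparison (Scheme.Modules.pullback ι) O') q
  have hM : Coh.IsCoh (∐ M) := isCoh_sigma _ fun j => isCoh_tw ι (e j)
  have hNX := isNoetherian ι
  have := hF.1
  refine ⟨ShortComplex.mk (kernel.ι q') q' (kernel.condition q'), rfl,
    { exact := ShortComplex.exact_of_f_is_kernel _ (kernelIsKernel q')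
      mono_f := inferInstanceAs (Mono (kernel.ι q'))
      epi_g := hq' }, QCohMod.isCoh_kernel q' hM, hM, fun i x => ?_, fun a ha ha' y => ?_⟩
  · change Ext (∐ M) ω (i + 1) at x
    rw [← Ext.mk₀_id_comp x, ← sigmaProj_total M, Ext.mk₀_sum, Ext.sum_comp]
    refine Finset.sum_eq_zero fun j _ => ?_
    have := hb₁ (e j) ((he j).trans (min_le_left _ _)) i
    rw [← Ext.mk₀_comp_mk₀, Ext.comp_assoc_of_second_deg_zero,
      Subsingleton.elim ((Ext.mk₀ (Sigma.ι M j)).comp x (zero_add _)) 0, Ext.comp_zero]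
  · change Coh.HH X (∐ M) a at y
    have key : ∀ j, EulerDeg.hMap k (sigmaProj M j ≫ Sigma.ι M j) a y = 0 := fun j => by
      have := hb₂ (e j) ((he j).trans (min_le_right _ _)) a ha ha'
      rw [EulerDeg.hMap_comp, LinearMap.comp_apply,
        Subsingleton.elim (EulerDeg.hMap k (sigmaProj M j) a y) 0]
      exact map_zero _
    have h := hMap_sum (A := k) Finset.univ (fun j => sigmaProj M j ≫ Sigma.ι M j) a
    rw [sigmaProj_total, EulerDeg.hMap_id] at h
    refine (LinearMap.congr_fun h y).trans ?_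
    rw [LinearMap.sum_apply]
    exact Finset.sum_eq_zero fun j _ => key j

omit [X.Over (Spec (CommRingCat.of k))] [HasExt.{u} X.Modules] in
theorem vanish_iff_negVanish (q : ℕ) :
    Vanish ι q ↔ Pn.NegVanish ((Scheme.Modules.pushforward ι).obj (Coh.structureModule X)) q :=
  (Pn.negVanish_push_unit_iff ι q).symm

omit [HasExt.{u} X.Modules] [X.Over (Spec (CommRingCat.of k))] in
/-- Cohen–Macaulay of dimension `n` at closed points is vanishing below `n`. -/
theorem forall_vanish_iff_cm {n : ℕ} (hn : topologicalKrullDim ↥X = n) :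
    (∀ q : ℕ, q < n → Vanish ι q) ↔ ∀ x : X, IsClosed ({x} : Set ↥X) →
      LocCoh.IsCohenMacaulayLocalRing (X.presheaf.stalk x) ∧ ringKrullDim (X.presheaf.stalk x) = n := by
  have := isNoetherian ι
  have hO : Coh.IsCoh (Coh.structureModule X) := KTheory.LocFree.isCoh (LocFree.isFinLocFree_unit X)
  rw [show (∀ q : ℕ, q < n → Vanish ι q) ↔ ∀ q : ℕ, q < n →
      Pn.NegVanish ((Scheme.Modules.pushforward ι).obj (Coh.structureModule X)) q from
    forall₂_congr fun q _ => vanish_iff_negVanish ι q, Pn.forall_negVanish_push_iff_depth ι hO]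
  have e : ∀ x : X, LocCoh.depth (X.presheaf.stalk x) ((Coh.structureModule X).presheaf.stalk x) =
      LocCoh.depth (X.presheaf.stalk x) (X.presheaf.stalk x) := fun x =>
    (LocCohBase.idealDepth_congr (LinearEquiv.ofBijective _
      (CohTwo.bijective_toSpanSingleton_one x))).symm
  refine forall₂_congr fun x _ => ?_
  rw [e]
  constructor
  · intro hd
    have hle : ringKrullDim (X.presheaf.stalk x) ≤ (n : WithBot ℕ∞) :=
      (ringKrullDim_stalk_le x).trans hn.le
    have hds := LocCohBase.depth_le_supportDim (R := X.presheaf.stalk x) (X.presheaf.stalk x)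
    rw [Module.supportDim_self_eq_ringKrullDim] at hds
    have hge : (n : WithBot ℕ∞) ≤ ringKrullDim (X.presheaf.stalk x) :=
      (WithBot.coe_le_coe.mpr hd).trans hds
    refine ⟨{ supportDim_eq_depth := ?_ }, le_antisymm hle hge⟩
    rw [Module.supportDim_self_eq_ringKrullDim]
    exact le_antisymm (hle.trans (WithBot.coe_le_coe.mpr hd)) hds
  · rintro ⟨hcm, hdim⟩
    have h := hcm.supportDim_eq_depth
    rw [Module.supportDim_self_eq_ringKrullDim, hdim] at h
    exact le_of_eq (WithBot.coe_injective h)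

end Groth.Duality.Closed
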