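import Groth.Agent.CohBase.FiniteBC.PushNat
import Groth.Agent.CohC3.QuotSections
import Groth.Agent.EulerDeg.HLinear

/-!
# `Hⁿ(X, h_* N) = Hⁿ(X', N)`, linearly over the base ring and naturally
-/

set_option autoImplicit false

universe u

open CategoryTheory CategoryTheory.Limits AlgebraicGeometry

noncomputable section

namespace Groth.Duality.PushHLin

variable {A : Type u} [CommRing A] {X X' : Scheme.{u}} [X.Over (Spec (CommRingCat.of A))]
  [X'.Over (Spec (CommRingCat.of A))] (h : X' ⟶ X) [IsAffineHom h]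
  (hh : h ≫ (X ↘ Spec (CommRingCat.of A)) = X' ↘ Spec (CommRingCat.of A))

/-- The comparison map. -/
def pushAdd (N : X'.Modules) [N.IsQuasicoherent] (n : ℕ) :
    Coh.HH X ((Scheme.Modules.pushforward h).obj N) n ≃+ Coh.HH X' N n :=
  CohBase.FiniteBC.pushHA h (X ↘ Spec (CommRingCat.of A)) (X' ↘ Spec (CommRingCat.of A)) N n

theorem pushAdd_natural {N N' : X'.Modules} [N.IsQuasicoherent] [N'.IsQuasicoherent] (φ : N ⟶ N')
    (n : ℕ) (x : Coh.HH X ((Scheme.Modules.pushforward h).obj N) n) :
    pushAdd (A := A) h N' n (EulerDeg.hMap A ((Scheme.Modules.pushforward h).map φ) n x) =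
      EulerDeg.hMap A φ n (pushAdd (A := A) h N n x) :=
  CohBase.FiniteBC.pushHA_natural h (X ↘ Spec (CommRingCat.of A)) (X' ↘ Spec (CommRingCat.of A)) φ n x

/-- The comparison map is linear. -/
def pushLin (N : X'.Modules) [N.IsQuasicoherent] (n : ℕ) :
    Coh.HH X ((Scheme.Modules.pushforward h).obj N) n ≃ₗ[A] Coh.HH X' N n :=
  (pushAdd (A := A) h N n).toLinearEquiv fun a x => by
    have e : EulerDeg.hMap A ((Scheme.Modules.pushforward h).map (Formal.smulMod A N a)) n x = a • x := by
      rw [CohC3.pushforward_map_smulMod hh N a]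
      rfl
    rw [← e]
    exact (pushAdd_natural (A := A) h (Formal.smulMod A N a) n x).trans rfl

theorem pushLin_natural {N N' : X'.Modules} [N.IsQuasicoherent] [N'.IsQuasicoherent] (φ : N ⟶ N')
    (n : ℕ) (y : Coh.HH X' N n) :
    (pushLin h hh N' n).symm (EulerDeg.hMap A φ n y) =
      EulerDeg.hMap A ((Scheme.Modules.pushforward h).map φ) n ((pushLin h hh N n).symm y) := by
  rw [LinearEquiv.symm_apply_eq]
  refine Eq.symm ((pushAdd_natural (A := A) h φ n _).trans ?_)
  exact congrArg _ ((pushLin h hh N n).apply_symm_apply y)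

end Groth.Duality.PushHLin
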