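import Groth.Prelude.Def_Canon
import Groth.Agent.DualMod.RepRel
import Groth.Agent.DualMod.Finite
import Groth.Agent.Duality.PnRepresent
import Groth.Agent.Duality.BidualOne
import Groth.Agent.CohTwo.CohSub
import Groth.Agent.Ega2Proj.IsoAffine
import Groth.Agent.PnCoh.OverAffine
import Groth.Agent.Variety2.ProjBasics
import Groth.Agent.Variety2.ProjDim

/-!
# Dualizing pairs over an affine base

`Canon.IsRDualOver`: comparison, recognition on twists, projective space.
-/

set_option autoImplicit false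
set_option linter.style.haveILetI false
set_option backward.isDefEq.respectTransparency false
set_option maxHeartbeats 1000000
set_option synthInstance.maxHeartbeats 400000

universe u

open CategoryTheory CategoryTheory.Limits AlgebraicGeometry Opposite

noncomputable section

namespace Groth.Duality.RDual

/-- Pullback preserves coherence. -/
theorem isCoh_pullback {X Y : Scheme.{u}} (g : Y ⟶ X) {F : X.Modules} (hF : Coh.IsCoh F) :
    Coh.IsCoh ((Scheme.Modules.pullback g).obj F) :=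
  haveI := hF.1
  ⟨QCohMod.isQCoh_pullback_obj g F, QCohMod.isFT_pullback g F hF.2⟩

section Basic

variable {A : Type u} [CommRing A] {X : Scheme.{u}} [X.Over (Spec (CommRingCat.of A))] {r : ℕ}

theorem HHlin_comp {M N P : X.Modules} (φ : M ⟶ N) (ψ : N ⟶ P) :
    Canon.HHlin A (φ ≫ ψ) r = (Canon.HHlin A ψ r).comp (Canon.HHlin A φ r) :=
  LinearMap.ext fun x => (CohC3.hmap_comp (A := A) φ ψ r x).symm

theorem HHlin_id (M : X.Modules) (x : Coh.HH X M r) : Canon.HHlin A (𝟙 M) r x = x :=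
  CohC3.hmap_id (A := A) M r x

/-- The duality map of a composite. -/
theorem dualityMap_comp {F M ω : X.Modules} (φ : F ⟶ M) (ρ : M ⟶ ω) (tr : Coh.HH X ω r →ₗ[A] A) :
    Canon.dualityMap A X r ω tr F (φ ≫ ρ) =
      Canon.dualityMap A X r M (tr.comp (Canon.HHlin A ρ r)) F φ :=
  LinearMap.ext fun x => congrArg tr (LinearMap.congr_fun (HHlin_comp φ ρ) x)

/-- Bijectivity of the duality map in `∃!` form. -/
theorem bijective_dualityMap {ω F : X.Modules} (tr : Coh.HH X ω r →ₗ[A] A)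
    (h : ∀ g : Coh.HH X F r →ₗ[A] A, ∃! φ : F ⟶ ω, ∀ x, tr (CohC3.hmap A φ r x) = g x) :
    Function.Bijective (Canon.dualityMap A X r ω tr F) := by
  rw [Function.bijective_iff_existsUnique]
  intro g
  obtain ⟨φ, hφ, hu⟩ := h g
  exact ⟨φ, LinearMap.ext fun x => hφ x, fun φ' hφ' => hu φ' fun x => LinearMap.congr_fun hφ' x⟩

/-- A proper scheme over a ring has a dualizing pair. -/
theorem exists_isRDualOver [IsProper (X ↘ Spec (CommRingCat.of A))]
    (hfib : ∀ P, topologicalKrullDim ↥((X ↘ Spec (CommRingCat.of A)).fiber P) ≤ (r : WithBot ℕ∞)) :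
    ∃ (ω : X.Modules) (tr : Coh.HH X ω r →ₗ[A] A), Canon.IsRDualOver A X r ω tr := by
  obtain ⟨ω, γ, hω, h⟩ := DualMod.exists_dualPairA A (X := X) hfib
  exact ⟨ω, γ, hω, fun F hF => bijective_dualityMap γ (h F hF)⟩

/-- Two dualizing pairs are uniquely isomorphic. -/
theorem existsUnique_iso {ω ω' : X.Modules} {tr : Coh.HH X ω r →ₗ[A] A}
    {tr' : Coh.HH X ω' r →ₗ[A] A} (h : Canon.IsRDualOver A X r ω tr)
    (h' : Canon.IsRDualOver A X r ω' tr') :
    (∃! ρ : ω' ⟶ ω, tr ∘ₗ Canon.HHlin A ρ r = tr') ∧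
      ∀ ρ : ω' ⟶ ω, tr ∘ₗ Canon.HHlin A ρ r = tr' → IsIso ρ := by
  refine ⟨(Function.bijective_iff_existsUnique _).1 (h.2 ω' h'.1) tr', fun ρ hρ => ?_⟩
  obtain ⟨σ, hσ⟩ := (h'.2 ω h.1).2 tr
  refine ⟨σ, (h'.2 ω' h'.1).1 ?_, (h.2 ω h.1).1 ?_⟩
  · rw [dualityMap_comp]
    have e : tr'.comp (Canon.HHlin A σ r) = tr := hσ
    rw [e]
    exact hρ.trans (LinearMap.ext fun x => congrArg tr' (HHlin_id ω' x).symm)
  · rw [dualityMap_comp]
    have e : tr.comp (Canon.HHlin A ρ r) = tr' := hρ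
    rw [e]
    exact hσ.trans (LinearMap.ext fun x => congrArg tr (HHlin_id ω x).symm)

/-- A pair isomorphic to a dualizing pair is dualizing. -/
theorem isRDualOver_of_isIso {ω ω' : X.Modules} {tr : Coh.HH X ω r →ₗ[A] A}
    {tr' : Coh.HH X ω' r →ₗ[A] A} (h' : Canon.IsRDualOver A X r ω' tr') (hω : Coh.IsQCoh ω)
    (ρ : ω ⟶ ω') [IsIso ρ] (hρ : tr'.comp (Canon.HHlin A ρ r) = tr) :
    Canon.IsRDualOver A X r ω tr := by
  refine ⟨hω, fun F hF => ?_⟩
  have e : Canon.dualityMap A X r ω tr F =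
      Canon.dualityMap A X r ω' tr' F ∘ fun φ => φ ≫ ρ := funext fun φ => by
    rw [Function.comp_apply, dualityMap_comp, hρ]
  rw [e]
  exact (h'.2 F hF).comp ⟨fun a b hab => (cancel_mono ρ).1 hab,
    fun b => ⟨b ≫ inv ρ, by simp⟩⟩

end Basic

section Detect

variable {X : Scheme.{u}} [AlgebraicGeometry.IsNoetherian X] {ω ω' : X.Modules}

/-- A morphism of quasi-coherent modules seen bijective by coherent modules is an isomorphism. -/
theorem isIso_of_bijective_comp (hω : Coh.IsQCoh ω) (hω' : Coh.IsQCoh ω') (ρ : ω ⟶ ω')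
    (h : ∀ G : X.Modules, Coh.IsCoh G → Function.Bijective fun φ : G ⟶ ω => φ ≫ ρ) : IsIso ρ := by
  classical
  haveI : ω.IsQuasicoherent := hω
  haveI : ω'.IsQuasicoherent := hω'
  obtain ⟨ι, hι, V, hV, hcov⟩ := DualMod.exists_cover X
  have hmem : ∀ x, ∃ i, x ∈ V i := fun x => TopologicalSpace.Opens.mem_iSup.1
    (hcov ▸ (trivial : x ∈ (⊤ : X.Opens)))
  refine Ega2Proj.isIso_of_affine_cover ρ V hV hcov fun i => ⟨?_, fun s => ?_⟩
  · refine (injective_iff_map_eq_zero _).mpr fun s hs => ?_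
    obtain ⟨y, hy⟩ := QCohMod.exists_app_eq_of_mono_exact
      (S := ShortComplex.mk (kernel.ι ρ) ρ (kernel.condition ρ))
      (ShortComplex.exact_of_f_is_kernel _ (kernelIsKernel ρ)) (V i) s hs
    haveI : (kernel ρ).IsQuasicoherent := QCohMod.isQCoh_kernel ρ
    obtain ⟨G, a, _, hG, ha⟩ := CohTwo.exists_coh_sub (kernel ρ) V hV hmem
      fun j => if e : j = i then e ▸ {y} else ∅
    obtain ⟨b, hb⟩ := ha i y (by simp)
    have h0 : a ≫ kernel.ι ρ = 0 := (h G hG).1 (by simp)
    have : a = 0 := zero_of_comp_mono _ h0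
    subst this
    rw [← hy, ← hb]
    simp
  · obtain ⟨G, a, _, hG, ha⟩ := CohTwo.exists_coh_sub ω' V hV hmem
      fun j => if e : j = i then e ▸ {s} else ∅
    obtain ⟨b, hb⟩ := ha i s (by simp)
    obtain ⟨φ, hφ⟩ := (h G hG).2 a
    refine ⟨φ.app (V i) b, ?_⟩
    rw [← hb, ← show φ ≫ ρ = a from hφ]
    rfl

/-- Bijectivity passes to finite coproducts. -/
theorem bijective_comp_sigma {r : ℕ} {M : Fin r → X.Modules} (ρ : ω ⟶ ω')
    (h : ∀ j, Function.Bijective fun φ : M j ⟶ ω => φ ≫ ρ) :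
    Function.Bijective fun φ : ∐ M ⟶ ω => φ ≫ ρ := by
  refine ⟨fun a b hab => Sigma.hom_ext _ _ fun j => (h j).1 ?_, fun ψ => ?_⟩
  · simp only [Category.assoc]
    exact congrArg (fun f => Sigma.ι M j ≫ f) hab
  · choose φ hφ using fun j => (h j).2 (Sigma.ι M j ≫ ψ)
    exact ⟨Sigma.desc φ, Sigma.hom_ext _ _ fun j => by simpa using hφ j⟩

/-- Bijectivity on a generating family passes to coherent modules. -/
theorem bijective_comp_of_gen (ρ : ω ⟶ ω') (P : X.Modules → Prop)
    (hgen : ∀ G : X.Modules, Coh.IsCoh G → ∃ (E : X.Modules) (p : E ⟶ G), P E ∧ Epi p ∧ Coh.IsCoh E)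
    (h : ∀ E, P E → Function.Bijective fun φ : E ⟶ ω => φ ≫ ρ) (G : X.Modules) (hG : Coh.IsCoh G) :
    Function.Bijective fun φ : G ⟶ ω => φ ≫ ρ := by
  have hinj : ∀ G : X.Modules, Coh.IsCoh G → Function.Injective fun φ : G ⟶ ω => φ ≫ ρ := by
    intro G hG a b hab
    obtain ⟨E, p, hE, hp, -⟩ := hgen G hG
    refine (cancel_epi p).1 ((h E hE).1 ?_)
    simp only [Category.assoc]
    exact congrArg (fun f => p ≫ f) hab
  refine ⟨hinj G hG, fun ψ => ?_⟩
  obtain ⟨E, p, hE, hp, hEc⟩ := hgen G hG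
  obtain ⟨φ, hφ⟩ := (h E hE).2 (p ≫ ψ)
  haveI := hG.1
  have hφ0 : kernel.ι p ≫ φ = 0 := hinj _ (QCohMod.isCoh_kernel p hEc) (by
    change (kernel.ι p ≫ φ) ≫ ρ = 0 ≫ ρ
    rw [Category.assoc, show φ ≫ ρ = p ≫ ψ from hφ, kernel.condition_assoc, zero_comp, zero_comp])
  let S := ShortComplex.mk (kernel.ι p) p (kernel.condition p)
  have hS : S.Exact := ShortComplex.exact_of_f_is_kernel S (kernelIsKernel p)
  haveI : Epi S.g := hp
  refine ⟨hS.desc φ hφ0, (cancel_epi p).1 ?_⟩
  change p ≫ hS.desc φ hφ0 ≫ ρ = p ≫ ψ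
  rw [← Category.assoc, show p ≫ hS.desc φ hφ0 = φ from hS.g_desc φ hφ0]
  exact hφ

end Detect

section Proj

variable {A : Type u} [CommRing A] [IsNoetherianRing A] {n : ℕ}

/-- The fibres of projective space. -/
theorem dim_fiber (P : ↥(Spec (CommRingCat.of A))) :
    topologicalKrullDim ↥((CohB1.ProjSpace.toSpec n A).fiber P) ≤ (n : WithBot ℕ∞) := by
  let S := Spec (CommRingCat.of A)
  let f : CommRingCat.of A ⟶ S.residueField P := Spec.preimage (S.fromSpecResidueField P)
  letI : Algebra A (S.residueField P) := f.hom.toAlgebra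
  have hf : Spec.map (CommRingCat.ofHom (algebraMap A (S.residueField P))) =
      S.fromSpecResidueField P := Spec.map_preimage _
  have h1 := PnCoh.isPullback_toBasePn n A (S.residueField P)
  rw [hf] at h1
  have h2 : IsPullback ((CohB1.ProjSpace.toSpec n A).fiberι P)
      ((CohB1.ProjSpace.toSpec n A).fiberToSpecResidueField P) (CohB1.ProjSpace.toSpec n A)
      (S.fromSpecResidueField P) := IsPullback.of_hasPullback _ _
  rw [← (Scheme.homeoOfIso (h1.isoIsPullback _ _ h2)).isHomeomorph.topologicalKrullDim_eq]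
  exact (Variety2.PSpace.dim_projSpace (n := n) (k := S.residueField P)).le

variable {X : Scheme.{u}} [X.Over (Spec (CommRingCat.of A))]
  (ι : X ⟶ CohB1.ProjSpace n A) [IsClosedImmersion ι]
  (hι : ι ≫ CohB1.ProjSpace.toSpec n A = X ↘ Spec (CommRingCat.of A))

omit [X.Over (Spec (CommRingCat.of A))] in
/-- Coherent modules are quotients of sums of twists. -/
theorem exists_gen (G : X.Modules) (hG : Coh.IsCoh G) :
    ∃ (r : ℕ) (d : Fin r → ℤ)
      (p : (∐ fun j => (Scheme.Modules.pullback ι).obj (Twist.twistProjSpace n A (d j))) ⟶ G),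
      Epi p := by
  haveI := PnCoh.isLocallyNoetherian_projSpace n A
  haveI : IsLocallyNoetherian X := LocallyOfFiniteType.isLocallyNoetherian ι
  obtain ⟨r, d, φ, -, hφ⟩ := PnCoh.exists_epi_twists (𝒜 := CohB1.polyGrading n A)
    ((Scheme.Modules.pushforward ι).obj G) (CohTwo.isCoh_push ι hG) 0
  let adj := Scheme.Modules.pullbackPushforwardAdjunction ι
  haveI : PreservesColimitsOfSize.{u, u} (Scheme.Modules.pullback ι) :=
    adj.leftAdjoint_preservesColimits
  haveI : PreservesColimitsOfSize.{0, 0} (Scheme.Modules.pullback ι) :=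
    adj.leftAdjoint_preservesColimits
  haveI : IsIso (adj.counit.app G) := by
    haveI : IsIso (Scheme.Modules.pullbackPushforwardAdjunction ι).counit :=
      Misc7.ClosedImm.isIso_counit ι
    infer_instance
  haveI := hφ
  let T : Fin r → (CohB1.ProjSpace n A).Modules := fun j => Twist.twistProjSpace n A (d j)
  let p : (∐ fun j => (Scheme.Modules.pullback ι).obj (Twist.twistProjSpace n A (d j))) ⟶ G :=
    Sigma.desc fun j => (Scheme.Modules.pullback ι).map (Sigma.ι T j ≫ φ) ≫ adj.counit.app G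
  refine ⟨r, d, p, ⟨fun a b hab => ?_⟩⟩
  have hh : ∀ j : Fin r, (Scheme.Modules.pullback ι).map (Sigma.ι T j) ≫
      (Scheme.Modules.pullback ι).map φ ≫ adj.counit.app G ≫ a =
      (Scheme.Modules.pullback ι).map (Sigma.ι T j) ≫
      (Scheme.Modules.pullback ι).map φ ≫ adj.counit.app G ≫ b := fun j => by
    have := congrArg (fun f => Sigma.ι (fun j => (Scheme.Modules.pullback ι).obj
      (Twist.twistProjSpace n A (d j))) j ≫ f) hab
    simp only [p, Sigma.ι_desc_assoc, Functor.map_comp, Category.assoc] at this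
    exact this
  haveI : Epi ((Scheme.Modules.pullback ι).map φ) := (Scheme.Modules.pullback ι).map_epi φ
  refine (cancel_epi (adj.counit.app G)).1 ((cancel_epi ((Scheme.Modules.pullback ι).map φ)).1 ?_)
  exact (isColimitOfPreserves (Scheme.Modules.pullback ι) (coproductIsCoproduct T)).hom_ext
    fun j => hh j.as

include hι in
/-- A pair which is dual on twists is dualizing. -/
theorem isRDualOver_of_twists {r : ℕ}
    (hfib : ∀ P, topologicalKrullDim ↥((X ↘ Spec (CommRingCat.of A)).fiber P) ≤ (r : WithBot ℕ∞))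
    (ω : X.Modules) (hω : Coh.IsQCoh ω) (tr : Coh.HH X ω r →ₗ[A] A)
    (h : ∀ m : ℤ, Function.Bijective
      (Canon.dualityMap A X r ω tr ((Scheme.Modules.pullback ι).obj (Twist.twistProjSpace n A m)))) :
    Canon.IsRDualOver A X r ω tr := by
  haveI := PnCoh.isLocallyNoetherian_projSpace n A
  haveI : IsLocallyNoetherian X := LocallyOfFiniteType.isLocallyNoetherian ι
  haveI : IsProper (X ↘ Spec (CommRingCat.of A)) := hι ▸ inferInstance
  haveI : CompactSpace X := CohFin.compactSpace_of_proper (X ↘ Spec (CommRingCat.of A))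
  haveI : AlgebraicGeometry.IsNoetherian X := {}
  obtain ⟨ω', γ, hγ⟩ := exists_isRDualOver (A := A) (X := X) hfib
  obtain ⟨ρ, hρ⟩ := (hγ.2 ω hω).2 tr
  have hρ' : γ.comp (Canon.HHlin A ρ r) = tr := hρ
  have hc : ∀ d : ℤ, Coh.IsCoh ((Scheme.Modules.pullback ι).obj (Twist.twistProjSpace n A d)) :=
    fun d => isCoh_pullback ι (PnCoh.isCoh_twist n A d)
  haveI : IsIso ρ := isIso_of_bijective_comp hω hγ.1 ρ fun G hG =>
    bijective_comp_of_gen ρ
      (fun E => ∃ (l : ℕ) (d : Fin l → ℤ),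
        E = ∐ fun j => (Scheme.Modules.pullback ι).obj (Twist.twistProjSpace n A (d j)))
      (fun G hG => by
        obtain ⟨l, d, p, hp⟩ := exists_gen ι G hG
        exact ⟨_, p, ⟨l, d, rfl⟩, hp, PnCoh.isCoh_sigma _ fun j => hc _⟩)
      (by
        rintro E ⟨l, d, rfl⟩
        refine bijective_comp_sigma ρ fun j => ?_
        have h1 := hγ.2 _ (hc (d j)).1
        refine (Function.Bijective.of_comp_iff' h1 _).1 ?_
        have e : (Canon.dualityMap A X r ω' γ _ ∘ fun φ => φ ≫ ρ) =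
            Canon.dualityMap A X r ω tr
              ((Scheme.Modules.pullback ι).obj (Twist.twistProjSpace n A (d j))) :=
          funext fun φ => by rw [Function.comp_apply, dualityMap_comp, hρ']
        rw [e]
        exact h (d j)) G hG
  exact isRDualOver_of_isIso hγ hω ρ hρ'

/-- `O(-n-1)` is dualizing on projective space. -/
theorem exists_projSpace :
    ∃ tr : Coh.HH (CohB1.ProjSpace n A) (Twist.twistProjSpace n A (-((n : ℤ) + 1))) n →ₗ[A] A,
      Canon.IsRDualOver A (CohB1.ProjSpace n A) n (Twist.twistProjSpace n A (-((n : ℤ) + 1))) tr := by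
  haveI := PnCoh.isLocallyNoetherian_projSpace n A
  haveI : CompactSpace (CohB1.ProjSpace n A) :=
    QuasiCompact.compactSpace_of_compactSpace (CohB1.ProjSpace.toSpec n A)
  haveI : AlgebraicGeometry.IsNoetherian (CohB1.ProjSpace n A) := {}
  let f := CohB1.ProjSpace n A ↘ Spec (CommRingCat.of A)
  haveI : IsProper f := inferInstanceAs (IsProper (CohB1.ProjSpace.toSpec n A))
  obtain ⟨ω', γ, hγ⟩ := exists_isRDualOver (A := A) (X := CohB1.ProjSpace n A) (r := n)
    (fun P => dim_fiber P)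
  have hω : Coh.IsCoh (Twist.twistProjSpace n A (-((n : ℤ) + 1))) := PnCoh.isCoh_twist n A _
  obtain ⟨ρ, hρ⟩ := (hγ.2 _ hω.1).2 (Pn.trace n A)
  have hρ' : γ.comp (Canon.HHlin A ρ n) = Pn.trace n A := hρ
  haveI : IsIso ρ := isIso_of_bijective_comp hω.1 hγ.1 ρ fun G hG => by
    have h1 := hγ.2 G hG.1
    refine (Function.Bijective.of_comp_iff' h1 _).1 ?_
    have e : (Canon.dualityMap A (CohB1.ProjSpace n A) n ω' γ G ∘ fun φ => φ ≫ ρ) =
        Canon.dualityMap A (CohB1.ProjSpace n A) n _ (Pn.trace n A) G :=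
      funext fun φ => by rw [Function.comp_apply, dualityMap_comp, hρ']
    rw [e]
    exact representsAt_iff.1 (Pn.representsAt G hG)
  exact ⟨_, isRDualOver_of_isIso hγ hω.1 ρ hρ'⟩

end Proj

end Groth.Duality.RDual
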