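import Groth.Agent.Duality.CurveDualInvertible
import Groth.Agent.Duality.RDualPairs
import Groth.Agent.Duality.PushHLin
import Groth.Agent.Curves1.RR.ReducedRestrict
import Groth.Agent.CurvStField.CMDimOne
import Groth.Agent.QCohMod.Killed
import Groth.Agent.EulerDeg.Coherent
import Groth.Agent.EulerDeg.Supported
import Groth.Agent.Inter.Push
import Groth.Agent.LefSections.Basic
import Groth.Agent.S19606
import Groth.Agent.RefRank.EffCartierDecomp

/-!
# Adjunction for a subcurve of a proper reduced curve with invertible dualizing sheaf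

If the reduced curve `X` is the union of two subcurves `S`, `S'` without common components, then
`deg(ω|_S) = -2χ(O_S) + h⁰(S ∩ S')`, the intersection being the scheme `V(I_S + I_{S'})`.
-/

set_option autoImplicit false
set_option backward.isDefEq.respectTransparency false
set_option linter.style.haveILetI false
set_option maxHeartbeats 1000000
set_option synthInstance.maxHeartbeats 400000

universe u

open CategoryTheory CategoryTheory.Limits AlgebraicGeometry TopologicalSpace

noncomputable section

namespace Groth.Duality.CurveAdj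

open Groth.Curves1.RR.Red (sub inc rest subOver)
open Groth.QCohMod (germ germ_res germ_smul res)
open Groth.PicAux (Gen)

variable {X : Scheme.{u}}

/-- Every point has a non-closed generization. -/
def HasGen (X : Scheme.{u}) : Prop :=
  ∀ y : X, ∃ η : X, η ⤳ y ∧ ¬ IsClosed ({η} : Set X)

theorem hasGen_of_equidim (hequi : ∀ Z ∈ irreducibleComponents (X : Type u), topologicalKrullDim Z = 1) :
    HasGen X := by
  intro y
  obtain ⟨η, hη⟩ := QuasiSober.sober (isIrreducible_irreducibleComponent (x := y))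
    isClosed_irreducibleComponent
  refine ⟨η, hη.specializes mem_irreducibleComponent, fun hc => ?_⟩
  have h1 := hequi _ (irreducibleComponent_mem_irreducibleComponents y)
  rw [show irreducibleComponent y = {η} from hη.def.symm.trans hc.closure_eq] at h1
  exact absurd (h1 ▸ topologicalKrullDim_zero_of_discreteTopology (X := ({η} : Set X)))
    (not_le.2 zero_lt_one)

theorem equidim_of_hasGen (hX : HasGen X) (hdim : topologicalKrullDim X ≤ 1) :
    ∀ Z ∈ irreducibleComponents (X : Type u), topologicalKrullDim Z = 1 := by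
  intro Z hZ
  refine le_antisymm (Topology.IsInducing.subtypeVal.topologicalKrullDim_le.trans hdim) ?_
  by_contra h
  have hZc := isClosed_of_mem_irreducibleComponents Z hZ
  obtain ⟨η, hη⟩ := QuasiSober.sober hZ.1 hZc
  obtain ⟨ξ, hξ, hξc⟩ := hX η
  have hZξ : Z ≤ closure ({ξ} : Set X) := fun z hz =>
    specializes_iff_mem_closure.1 (hξ.trans (hη.specializes hz))
  have hξZ : ξ ∈ Z := hZ.2 isIrreducible_singleton.closure hZξ (subset_closure rfl)
  refine hξc ?_
  have : closure ({ξ} : Set X) = {ξ} := by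
    refine (Set.Subset.antisymm ?_ subset_closure)
    intro z hz
    by_contra hne
    refine h (Order.one_le_krullDim_iff.2 ?_)
    let toC : (z : Z) → IrreducibleCloseds Z := fun z =>
      ⟨closure {z}, isIrreducible_singleton.closure, isClosed_closure⟩
    have hzZ : z ∈ Z := closure_minimal (Set.singleton_subset_iff.2 hξZ) hZc hz
    refine ⟨toC ⟨z, hzZ⟩, toC ⟨ξ, hξZ⟩, lt_of_le_of_ne ?_ ?_⟩
    · show closure {(⟨z, hzZ⟩ : Z)} ⊆ closure {(⟨ξ, hξZ⟩ : Z)}
      refine closure_minimal (Set.singleton_subset_iff.2 ?_) isClosed_closure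
      rw [closure_subtype]
      simpa using hz
    · intro he
      have h2 : (⟨ξ, hξZ⟩ : Z) ∈ closure {(⟨z, hzZ⟩ : Z)} := by
        rw [show closure {(⟨z, hzZ⟩ : Z)} = closure {(⟨ξ, hξZ⟩ : Z)} from congrArg IrreducibleCloseds.carrier he]
        exact subset_closure rfl
      rw [closure_subtype] at h2
      exact hne ((specializes_iff_mem_closure.2 (by simpa using h2) : z ⤳ ξ).antisymm
        (specializes_iff_mem_closure.2 hz)).eq
  exact this ▸ isClosed_closure

theorem hasGen_sub {S : Closeds X} (hS : ∀ y ∈ (S : Set X), ∃ η ∈ (S : Set X), η ⤳ y ∧ ¬ IsClosed ({η} : Set X)) :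
    HasGen (sub S) := by
  intro y
  obtain ⟨η, hηS, hη, hηc⟩ := hS (inc S y) ((Groth.Curves1.RR.Red.range_inc S).le ⟨y, rfl⟩)
  obtain ⟨w, rfl⟩ := (Groth.Curves1.RR.Red.range_inc S).ge hηS
  refine ⟨w, (inc S).isClosedEmbedding.isInducing.specializes_iff.1 hη, fun hc => hηc ?_⟩
  rw [← Set.image_singleton]
  exact (inc S).isClosedEmbedding.isClosedMap _ hc

/-- A section of an invertible module on a reduced scheme vanishing at the non-closed points vanishes. -/
theorem eq_zero_of_germ_nonclosed [IsReduced X] (hX : HasGen X) {L : X.Modules}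
    (hL : PicF.IsInvertible L) {U : X.Opens} (s : Γ(L, U))
    (h : ∀ (η : X) (hη : η ∈ U), ¬ IsClosed ({η} : Set X) → germ L η hη s = 0) : s = 0 := by
  refine TopCat.Presheaf.section_ext ⟨L.presheaf, L.isSheaf⟩ U _ _ fun x hx => ?_
  obtain ⟨W, e, -, hxW, he⟩ := Groth.PicAux.exists_affine_gen_mem hL x
  obtain ⟨c, hc⟩ := he.exists_coeff (inf_le_right : U ⊓ W ≤ W) (res L (inf_le_left : U ⊓ W ≤ U) s)
  suffices c = 0 by
    change germ L x hx s = germ L x hx 0
    rw [map_zero, ← germ_res L (inf_le_left : U ⊓ W ≤ U) x ⟨hx, hxW⟩ s]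
    refine (congrArg (germ L x _) hc).trans ?_
    rw [this, zero_smul, map_zero]
  rw [← AlgebraicGeometry.basicOpen_eq_bot_iff]
  refine eq_bot_iff.2 fun y hy => ?_
  obtain ⟨η, hηy, hηc⟩ := hX y
  have hηb : η ∈ X.basicOpen c := hηy.mem_open (X.basicOpen c).isOpen hy
  have hηU : η ∈ U ⊓ W := X.basicOpen_le c hηb
  have h1 := h η hηU.1 hηc
  rw [← germ_res L (inf_le_left : U ⊓ W ≤ U) η hηU s] at h1
  obtain ⟨V, hηV, i₁, i₂, hV⟩ := L.presheaf.germ_eq η hηU hηU (res L (inf_le_left : U ⊓ W ≤ U) s) 0
    (h1.trans (map_zero _).symm)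
  have h2 : Groth.PicAux.resX X i₁.le c = 0 := by
    refine he.smul_inj (i₁.le.trans inf_le_right) ?_
    rw [zero_smul]
    refine Eq.trans ?_ ((show res L i₁.le (res L (inf_le_left : U ⊓ W ≤ U) s) =
      res L i₁.le 0 from hV).trans (map_zero _))
    rw [show (res L (inf_le_left : U ⊓ W ≤ U) s) = c • Groth.PicAux.res L inf_le_right e from hc]
    exact ((Groth.PicAux.res_smul ..).trans (congrArg _ (Groth.PicAux.res_res ..))).symm
  have h3 := (Scheme.mem_basicOpen X c η hηU).1 hηb
  rw [← TopCat.Presheaf.germ_res_apply X.presheaf i₁ η hηV c] at h3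
  rw [show X.presheaf.map i₁.op c = 0 from h2, map_zero, isUnit_zero_iff] at h3
  exact (zero_ne_one h3).elim

/-- An ideal sheaf with reduced subscheme is the vanishing ideal of its support. -/
theorem eq_vanishingIdeal (J : X.IdealSheafData) [IsReduced J.subscheme] :
    J = Scheme.IdealSheafData.vanishingIdeal J.support :=
  le_antisymm (Scheme.IdealSheafData.le_support_iff_le_vanishingIdeal.1 le_rfl)
    (Groth.RefRank.EffCartierLocal.le_of_isReduced_subscheme (by
      rw [Scheme.IdealSheafData.coe_support_vanishingIdeal]))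

variable {k : Type u} [Field k] [X.Over (Spec (CommRingCat.of k))]
  [IsProper (X ↘ Spec (CommRingCat.of k))]

theorem euler_quotMod (S : Closeds X) :
    letI := subOver (k := k) S
    Curv2.euler k X (ClSub.quotMod (Scheme.IdealSheafData.vanishingIdeal S)) =
      Curv2.euler k (sub S) (Coh.structureModule (sub S)) := by
  letI := subOver (k := k) S
  exact Groth.Inter.euler_push k (inc S) rfl _

/-- The Euler characteristic of the functions on two subcurves covering a reduced scheme. -/
theorem euler_structure [IsReduced X] (S S' : Closeds X) (hcov : ∀ y : X, y ∈ S ∨ y ∈ S') :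
    letI := subOver (k := k) S
    letI := subOver (k := k) S'
    Curv2.euler k X (Coh.structureModule X) +
      Curv2.euler k X (ClSub.quotMod
        (Scheme.IdealSheafData.vanishingIdeal S ⊔ Scheme.IdealSheafData.vanishingIdeal S')) =
      Curv2.euler k (sub S) (Coh.structureModule (sub S)) +
        Curv2.euler k (sub S') (Coh.structureModule (sub S')) := by
  letI := subOver (k := k) S
  letI := subOver (k := k) S'
  haveI := Groth.EulerDeg.isNoetherian_of_proper k X
  let I₁ := Scheme.IdealSheafData.vanishingIdeal S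
  let I₂ := Scheme.IdealSheafData.vanishingIdeal S'
  have h : I₁ ⊓ I₂ = ⊥ := by
    rw [← Scheme.IdealSheafData.vanishingIdeal_sup, show S ⊔ S' = ⊤ from top_le_iff.1 fun y _ => hcov y,
      Scheme.IdealSheafData.vanishingIdeal_top, Scheme.nilradical_eq_bot]
  obtain ⟨hepi, w, ⟨hlim⟩⟩ := Groth.Agent.S19606.result X I₁ I₂ h
    (Lef.quotMap (le_sup_left : I₁ ≤ I₁ ⊔ I₂)) (Lef.quotMap (le_sup_right : I₂ ≤ I₁ ⊔ I₂))
    (Groth.LefSections.toSub_quotMap _) (Groth.LefSections.toSub_quotMap _)
  let T := ShortComplex.mk _ _ w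
  haveI : Mono T.f := mono_of_isLimit_fork hlim
  haveI : Epi T.g := hepi
  have hT : T.ShortExact := { exact := ShortComplex.exact_of_f_is_kernel _ hlim }
  have hO : Coh.IsCoh (Coh.structureModule X) :=
    Groth.KTheory.LocFree.isCoh (Groth.LocFree.isFinLocFree_unit X)
  have hT' : ShortComplex.ShortExact
      (ShortComplex.mk (biprod.inl : ClSub.quotMod I₁ ⟶ _) (biprod.snd : _ ⟶ ClSub.quotMod I₂)
        biprod.inl_snd) := (ShortComplex.Splitting.ofHasBinaryBiproduct _ _).shortExact
  have h1 := Groth.EulerDeg.euler_add hT' (Groth.EulerDeg.finCoh k X (Groth.EulerDeg.isCoh_quotMod I₁))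
    (Groth.EulerDeg.finCoh k X (Groth.EulerDeg.isCoh_quotMod I₂))
  have h2 := Groth.EulerDeg.euler_add hT (Groth.EulerDeg.finCoh k X hO)
    (Groth.EulerDeg.finCoh k X (Groth.EulerDeg.isCoh_quotMod (I₁ ⊔ I₂)))
  rw [← euler_quotMod S, ← euler_quotMod S', ← h1]
  exact h2.symm

/-- The sections of `ω` vanishing on `S` form the direct image of a dualizing sheaf of the
complementary subcurve. -/
theorem euler_kernel [IsReduced X] (hX : HasGen X) (hdim : topologicalKrullDim X ≤ 1)
    {ω : X.Modules} (hω : PicF.IsInvertible ω) {tr : Coh.HH X ω 1 →ₗ[k] k}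
    (htr : Canon.IsRDualOver k X 1 ω tr) (S S' : Closeds X) (hcov : ∀ y : X, y ∈ S ∨ y ∈ S')
    (hdis : ∀ η : X, ¬ IsClosed ({η} : Set X) → η ∈ S → η ∉ S')
    (hS : HasGen (sub S)) (hS' : HasGen (sub S')) :
    letI := subOver (k := k) S'
    Curv2.euler k X (kernel (rest S ω)) = - Curv2.euler k (sub S') (Coh.structureModule (sub S')) := by
  letI := subOver (k := k) S'
  haveI := Groth.EulerDeg.isNoetherian_of_proper k X
  haveI := Groth.Curves1.RR.Red.isProper_sub k S'
  haveI : AlgebraicGeometry.IsNoetherian (sub S') := Groth.EulerDeg.isNoetherian_of_proper k (sub S')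
  haveI : ω.IsQuasicoherent := htr.1
  let i := inc S'
  let p := Scheme.Modules.pushforward i
  let adj := Scheme.Modules.pullbackPushforwardAdjunction i
  let K := kernel (rest S ω)
  let κ : K ⟶ ω := kernel.ι _
  have hinv : PicF.IsInvertible ((Scheme.Modules.pullback (inc S)).obj ω) :=
    Groth.PicAux.isInvertible_pullback (inc S) hω
  haveI : ((Scheme.Modules.pullback (inc S)).obj ω).IsQuasicoherent :=
    Groth.QCohMod.isQCoh_pullback_obj (inc S) ω
  haveI : K.IsQuasicoherent := Groth.QCohMod.isQCoh_kernel (rest S ω)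
  haveI : Mono κ := inferInstanceAs (Mono (kernel.ι _))
  have hK : Groth.QCohMod.Killed (Scheme.IdealSheafData.vanishingIdeal S') K := by
    intro U a ha s
    refine Groth.QCohMod.app_injective_of_mono κ U.1 ?_
    rw [κ.app_smul, map_zero]
    refine eq_zero_of_germ_nonclosed hX hω _ fun η hηU hηc => ?_
    rw [germ_smul]
    have hf := Groth.Curves1.RR.Red.isField_stalk_nonclosed k hdim hηc
    by_cases hη : η ∈ (S : Set X)
    · have h1 : germ ω η hηU (κ.app U.1 s) = 0 := by
        refine Groth.Curves1.RR.Red.stalk_rest_injective hω hη hf ?_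
        refine (Groth.CohTwo.stalkLin_germ (rest S ω) η hηU _).trans ?_
        have h0 : (rest S ω).app U.1 (κ.app U.1 s) = 0 :=
          congr(($(kernel.condition (rest S ω))).app U.1 s)
        rw [h0, map_zero, map_zero]
      rw [h1, smul_zero]
    · have hη' : η ∈ (S' : Set X) := (hcov η).resolve_left hη
      have h1 : (inc S').app U.1 a = 0 := by
        rw [← RingHom.mem_ker, Scheme.IdealSheafData.ker_subschemeι_app]
        exact ha
      rw [Groth.Curves1.RR.Red.germ_eq_zero_of_app_eq_zero hη' hf hηU a h1, zero_smul]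
  haveI hu : IsIso (adj.unit.app K) :=
    (Groth.QCohMod.isIso_unit_closedImmersion_iff i K).2 (by
      rw [Scheme.IdealSheafData.ker_subschemeι]; exact hK)
  let ω' := (Scheme.Modules.pullback i).obj K
  haveI : ω'.IsQuasicoherent := Groth.QCohMod.isQCoh_pullback_obj i K
  let u : K ≅ p.obj ω' := asIso (adj.unit.app K)
  let τ : p.obj ω' ⟶ ω := u.inv ≫ κ
  let e := Groth.Duality.PushHLin.pushLin (A := k) i rfl ω' 1
  let tr' : Coh.HH (sub S') ω' 1 →ₗ[k] k := tr ∘ₗ Canon.HHlin k τ 1 ∘ₗ e.symm.toLinearMap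
  have hzero : ∀ (F : (sub S').Modules), F.IsQuasicoherent → ∀ φ : p.obj F ⟶ ω, φ ≫ rest S ω = 0 := by
    intro F _ φ
    refine Scheme.Modules.hom_ext _ _ fun U => ?_
    ext s
    refine eq_zero_of_germ_nonclosed hS hinv (show Γ((Scheme.Modules.pullback (inc S)).obj ω, inc S ⁻¹ᵁ U) from
      (φ ≫ rest S ω).app U s) fun w hw hwc => ?_
    have hwS : inc S w ∈ (S : Set X) := (Groth.Curves1.RR.Red.range_inc S).le ⟨w, rfl⟩
    have hwX : ¬ IsClosed ({inc S w} : Set X) := fun hc => hwc (by
      have := hc.preimage (inc S).continuous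
      rwa [show (inc S) ⁻¹' {inc S w} = {w} from by
        ext v; exact (inc S).isClosedEmbedding.injective.eq_iff] at this)
    haveI := Groth.Curves1.RR.Red.subsingleton_stalk_push S' F (hdis _ hwX hwS)
    obtain ⟨V, hwV, i₁, i₂, hV⟩ := (p.obj F).presheaf.germ_eq (inc S w) hw hw s 0 (Subsingleton.elim _ _)
    let Y' := (Scheme.Modules.pullback (inc S)).obj ω
    rw [← germ_res Y' ((inc S).preimage_mono i₁.le) w hwV]
    have h1 : res ((Scheme.Modules.pushforward (inc S)).obj Y') i₁.le ((φ ≫ rest S ω).app U s) = 0 := by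
      refine (CohTwo.app_res (φ ≫ rest S ω) i₁.le s).symm.trans ?_
      rw [show Groth.CohTwo.res (p.obj F) i₁.le s = 0 from hV.trans (map_zero _), map_zero]
    exact (congrArg (germ Y' w hwV) h1).trans (map_zero _)
  have hdual : Canon.IsRDualOver k (sub S') 1 ω' tr' := by
    refine ⟨inferInstance, fun F hF => ?_⟩
    haveI : F.IsQuasicoherent := hF
    let eF := Groth.Duality.PushHLin.pushLin (A := k) i rfl F 1
    have h1 := htr.2 (p.obj F) (Groth.QCohMod.isQCoh_pushforward F i)
    have h2 : Function.Bijective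
        (fun g : Coh.HH X (p.obj F) 1 →ₗ[k] k => g ∘ₗ eF.symm.toLinearMap) :=
      ⟨fun a b hab => LinearMap.ext fun x =>
        (congrArg a (eF.symm_apply_apply x)).symm.trans
          ((LinearMap.congr_fun hab (eF x)).trans (congrArg b (eF.symm_apply_apply x))),
        fun g => ⟨g ∘ₗ eF.toLinearMap, LinearMap.ext fun x => congrArg g (eF.apply_symm_apply x)⟩⟩
    have h3 : Function.Bijective fun φ : F ⟶ ω' => p.map φ ≫ τ := by
      haveI : Mono τ := mono_comp _ _
      refine ⟨fun a b hab => p.map_injective ((cancel_mono τ).1 hab), fun ψ => ?_⟩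
      obtain ⟨g, hg⟩ := Groth.QCohMod.exists_map_pushforward_eq i
        (kernel.lift (rest S ω) ψ (hzero F hF ψ) ≫ u.hom)
      refine ⟨g, ?_⟩
      show p.map g ≫ u.inv ≫ κ = ψ
      rw [show p.map g = _ from hg, Category.assoc, Iso.hom_inv_id_assoc]
      exact kernel.lift_ι _ _ _
    have e1 : Canon.dualityMap k (sub S') 1 ω' tr' F =
        (fun g => g ∘ₗ eF.symm.toLinearMap) ∘ Canon.dualityMap k X 1 ω tr (p.obj F) ∘
          fun φ => p.map φ ≫ τ := by
      funext φ
      refine LinearMap.ext fun x => ?_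
      refine (congrArg (fun z => tr (Canon.HHlin k τ 1 z))
        (Groth.Duality.PushHLin.pushLin_natural i rfl φ 1 x)).trans ?_
      exact (congrArg tr (LinearMap.congr_fun
        (Groth.Duality.RDual.HHlin_comp (p.map φ) τ) (eF.symm x))).symm
    rw [e1]
    exact h2.comp (h1.comp h3)
  have hdim' : topologicalKrullDim (sub S') ≤ 1 :=
    (inc S').isClosedEmbedding.isInducing.topologicalKrullDim_le.trans hdim
  have hcm : ∀ x : sub S', LocCoh.IsCohenMacaulayLocalRing ((sub S').presheaf.stalk x) := fun x =>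
    Groth.CurvStField.isCM_of_isReduced_dim_le_one _ (by
      rw [← PrimeSpectrum.topologicalKrullDim_eq_ringKrullDim]
      exact (((sub S').fromSpecStalk x).isEmbedding.isInducing.topologicalKrullDim_le).trans hdim')
  rw [Groth.EulerDeg.euler_congr k u, Groth.Agent.S1656.aux hcm (equidim_of_hasGen hS' hdim') hdim' hdual,
    neg_neg]
  exact Groth.Inter.euler_push k i rfl ω'

/-- Adjunction: `deg(ω|_S) = -2χ(O_S) + h⁰(S ∩ S')`. -/
theorem deg_restrict [IsReduced X] (hX : HasGen X) (hdim : topologicalKrullDim X ≤ 1)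
    {ω : X.Modules} (hω : PicF.IsInvertible ω) {tr : Coh.HH X ω 1 →ₗ[k] k}
    (htr : Canon.IsRDualOver k X 1 ω tr) (S S' : Closeds X) (hcov : ∀ y : X, y ∈ S ∨ y ∈ S')
    (hdis : ∀ η : X, ¬ IsClosed ({η} : Set X) → η ∈ S → η ∉ S')
    (hS : HasGen (sub S)) (hS' : HasGen (sub S')) :
    letI := subOver (k := k) S
    Curv2.deg k (sub S) ((Scheme.Modules.pullback (inc S)).obj ω) 1 =
      -2 * Curv2.euler k (sub S) (Coh.structureModule (sub S)) +
        Module.finrank k (Coh.HH X (ClSub.quotMod
          (Scheme.IdealSheafData.vanishingIdeal S ⊔ Scheme.IdealSheafData.vanishingIdeal S')) 0) := by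
  letI := subOver (k := k) S
  letI := subOver (k := k) S'
  haveI := Groth.EulerDeg.isNoetherian_of_proper k X
  haveI : Epi (rest S ω) := Groth.Curves1.RR.Red.epi_rest S hω
  haveI : ω.IsQuasicoherent := htr.1
  let T := ShortComplex.mk (kernel.ι (rest S ω)) (rest S ω) (kernel.condition _)
  have hT : T.ShortExact := { exact := ShortComplex.exact_of_f_is_kernel _ (kernelIsKernel _) }
  have hωc := Groth.EulerDeg.isCoh_of_isInvertible hω
  have hR : Coh.IsCoh ((Scheme.Modules.pushforward (inc S)).obj ((Scheme.Modules.pullback (inc S)).obj ω)) :=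
    Groth.CohTwo.isCoh_push (inc S)
      (Groth.EulerDeg.isCoh_of_isInvertible (Groth.PicAux.isInvertible_pullback (inc S) hω))
  have h1 := Groth.EulerDeg.euler_add hT
    (Groth.EulerDeg.finCoh k X (Groth.QCohMod.isCoh_kernel (rest S ω) hωc))
    (Groth.EulerDeg.finCoh k X hR)
  have h2 := euler_kernel hX hdim hω htr S S' hcov hdis hS hS'
  have h3 := euler_structure (k := k) S S' hcov
  have h4 : Curv2.euler k X T.X₃ =
      Curv2.euler k (sub S) ((Scheme.Modules.pullback (inc S)).obj ω) :=
    Groth.Inter.euler_push k (inc S) rfl _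
  have hcm : ∀ x : X, LocCoh.IsCohenMacaulayLocalRing (X.presheaf.stalk x) := fun x =>
    Groth.CurvStField.isCM_of_isReduced_dim_le_one _ (by
      rw [← PrimeSpectrum.topologicalKrullDim_eq_ringKrullDim]
      exact ((X.fromSpecStalk x).isEmbedding.isInducing.topologicalKrullDim_le).trans hdim)
  have h5 := Groth.Agent.S1656.aux hcm (equidim_of_hasGen hX hdim) hdim htr
  let W := Scheme.IdealSheafData.vanishingIdeal S ⊔ Scheme.IdealSheafData.vanishingIdeal S'
  have hW : Groth.EulerDeg.SupportedAtClosed (ClSub.quotMod W) := by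
    intro x hx
    by_contra hs
    have hxW : x ∈ (W.support : Set X) := Groth.EulerDeg.support_quotMod_subset W hx
    have ha := Scheme.IdealSheafData.support_antitone (le_sup_left : _ ≤ W) hxW
    have hb := Scheme.IdealSheafData.support_antitone (le_sup_right : _ ≤ W) hxW
    exact hdis x hs ((Scheme.IdealSheafData.coe_support_vanishingIdeal S).le ha)
      ((Scheme.IdealSheafData.coe_support_vanishingIdeal S').le hb)
  have h6 := Groth.EulerDeg.euler_eq_h0 (k := k) hW
  unfold Curv2.deg
  simp only [Nat.cast_one, one_mul]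
  rw [← h4, ← h6]
  have h7 : Curv2.euler k X ω = Curv2.euler k X (kernel (rest S ω)) + Curv2.euler k X T.X₃ := h1
  linarith

end Groth.Duality.CurveAdj
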