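import Groth.Agent.Inter.Vanishing
import Groth.Agent.CohTwo.SupportLocal

/-!
# Cohomology above the dimension of the support
-/

set_option autoImplicit false

universe u

open CategoryTheory CategoryTheory.Limits AlgebraicGeometry TopologicalSpace Opposite Order

namespace Groth.Duality.SupportVanish

open Groth.Inter.Vanishing

variable {X : TopCat.{u}}

theorem height_le_dim {Z : Set X} (T : IrreducibleCloseds X) (hT : (T : Set X) ⊆ Z) {d : ℕ}
    (hd : topologicalKrullDim Z ≤ (d : WithBot ℕ∞)) : Order.height T ≤ (d : ℕ∞) := by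
  refine Order.height_le_iff'.2 fun l hl => ?_
  have hsub : ∀ i, ((l i : IrreducibleCloseds X) : Set X) ⊆ Z := fun i =>
    (SetLike.coe_subset_coe.2 ((l.monotone (Fin.le_last i)).trans hl.le)).trans hT
  let g : Fin (l.length + 1) → IrreducibleCloseds Z := fun i =>
    { carrier := Subtype.val ⁻¹' ((l i : IrreducibleCloseds X) : Set X)
      isIrreducible' := by
        refine ⟨?_, ?_⟩
        · obtain ⟨x, hx⟩ := (l i).isIrreducible.1
          exact ⟨⟨x, hsub i hx⟩, hx⟩
        · intro u v hu hv ⟨a, hau, hau'⟩ ⟨b, hbv, hbv'⟩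
          obtain ⟨u', hu', rfl⟩ := isOpen_induced_iff.1 hu
          obtain ⟨v', hv', rfl⟩ := isOpen_induced_iff.1 hv
          obtain ⟨c, hc, hcu, hcv⟩ := (l i).isIrreducible.2 u' v' hu' hv' ⟨a, hau, hau'⟩ ⟨b, hbv, hbv'⟩
          exact ⟨⟨c, hsub i hc⟩, hc, hcu, hcv⟩
      isClosed' := (l i).isClosed.preimage continuous_subtype_val }
  have hg : ∀ i : Fin l.length, g i.castSucc < g i.succ := fun i => by
    have h : l i.castSucc < l i.succ := l.step i
    refine lt_of_le_of_ne (fun z hz => h.le hz) fun e => h.ne (SetLike.coe_injective ?_)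
    refine Set.Subset.antisymm h.le fun x hx => ?_
    have h2 : (⟨x, hsub _ hx⟩ : Z) ∈ g i.castSucc := e.symm ▸ hx
    exact h2
  have h := (LTSeries.length_le_krullDim (⟨l.length, g, hg⟩ : LTSeries (IrreducibleCloseds Z))).trans hd
  exact_mod_cast h

theorem supportLT_of_stalk (F : CohTop.Ab X) {Z : Set X} (hZ : IsClosed Z) {d : ℕ}
    (hd : topologicalKrullDim Z ≤ (d : WithBot ℕ∞))
    (hF : ∀ x : X, x ∉ Z → Subsingleton ((TopCat.Sheaf.presheaf F).stalk x)) : SupportLT F (d + 1) := by
  intro U s T hbad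
  have h1 : (T : Set X) ∩ U ⊆ Z := fun x hx => by
    by_contra hxZ
    have hx' := hbad.2 hx
    have := hF x hxZ
    obtain ⟨W, hxW, i₁, i₂, e⟩ := TopCat.Presheaf.germ_eq (TopCat.Sheaf.presheaf F) x hx'.1 hx'.1 s 0
      (Subsingleton.elim _ _)
    refine hx'.2 W i₁.le hxW ?_
    exact e.trans (map_zero _)
  have h2 : (T : Set X) ⊆ Z :=
    (subset_closure_inter_of_isPreirreducible_of_isOpen T.isIrreducible.2 U.isOpen hbad.1).trans
      (closure_minimal h1 hZ)
  exact (height_le_dim T h2 hd).trans_lt (by exact_mod_cast d.lt_succ_self)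

/-- Above the dimension of a closed set containing the support, cohomology vanishes. -/
theorem subsingleton_HH_of_support {Y : Scheme.{u}} [AlgebraicGeometry.IsNoetherian Y] (M : Y.Modules)
    {Z : Set Y} (hZ : IsClosed Z) {d : ℕ} (hd : topologicalKrullDim Z ≤ (d : WithBot ℕ∞))
    (hM : CohB1.support M ⊆ Z) {q : ℕ} (hq : d < q) : Subsingleton (Coh.HH Y M q) := by
  have : NoetherianSpace ↑Y.toTopCat := inferInstanceAs (NoetherianSpace ↥Y)
  exact subsingleton_H_of_supportLT (X := Y.toTopCat) (d + 1) (Coh.toAb M)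
    (supportLT_of_stalk (X := Y.toTopCat) (Coh.toAb M) hZ hd fun x hx =>
      not_not.1 fun h => hx (hM h)) q hq

end Groth.Duality.SupportVanish
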