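import Groth.Agent.Duality.CurveAdjunction
import Groth.Agent.Duality.ShriekBridge.Nonvanish
import Groth.Agent.Curves1.Node.NodalLocal

/-!
# Adjunction on nodal curves, for a closed union of components and its complement
-/

set_option autoImplicit false
set_option backward.isDefEq.respectTransparency false
set_option linter.style.haveILetI false
set_option maxHeartbeats 1000000
set_option synthInstance.maxHeartbeats 400000

universe u

open CategoryTheory CategoryTheory.Limits AlgebraicGeometry TopologicalSpace
attribute [local instance] HasDerivedCategory.standard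

noncomputable section

namespace Groth.Duality.CurveAdj

open Groth.Curves1.RR.Red (sub inc rest subOver)

variable {k : Type u} [Field k] {X : Scheme.{u}} [X.Over (Spec (CommRingCat.of k))]
  [IsProper (X ↘ Spec (CommRingCat.of k))]

theorem hasGen_of_h0 (hdim : topologicalKrullDim X = 1)
    (h0 : Module.finrank k (Coh.HH X (Coh.structureModule X) 0) = 1) : HasGen X := by
  haveI := Groth.EulerDeg.isNoetherian_of_proper k X
  exact fun x => Groth.Duality.ShriekBridge.exists_specializes_not_isClosed
    (fun C hC => Groth.Duality.ShriekBridge.eq_empty_or_univ_of_isClopen h0 hC) hdim x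

theorem isReduced_of_nodal (hX : Curv2.AtWorstNodal k X) : IsReduced X := by
  haveI := Groth.EulerDeg.isNoetherian_of_proper k X
  haveI := Groth.Curves1.Node.geometricallyReduced_of_atWorstNodal hX
  exact GeometricallyReduced.isReduced_of_flat_of_isLocallyNoetherian (X ↘ Spec (CommRingCat.of k))

/-- The closure of the complement of a closed set, as a closed set. -/
def compl' (S : Closeds X) : Closeds X := ⟨closure (S : Set X)ᶜ, isClosed_closure⟩

omit [X.Over (Spec (CommRingCat.of k))] [IsProper (X ↘ Spec (CommRingCat.of k))] in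
theorem mem_or_mem_compl' (S : Closeds X) (y : X) : y ∈ S ∨ y ∈ compl' S :=
  (em (y ∈ S)).imp_right fun h => subset_closure h

theorem closure_compl_subset (hX : HasGen X) (S : Closeds X) :
    (compl' S : Set X) ⊆ closure {η : X | ¬ IsClosed ({η} : Set X) ∧ η ∉ (S : Set X)} := by
  refine closure_minimal (fun y hy => ?_) isClosed_closure
  obtain ⟨η, hη, hηc⟩ := hX y
  exact hη.mem_closed isClosed_closure (subset_closure ⟨hηc, fun h => hy (hη.mem_closed S.isClosed h)⟩)

include k in
/-- A non-closed point of `S` is not in the closure of the complement. -/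
theorem notMem_compl' (hX : HasGen X) (hdim : topologicalKrullDim X ≤ 1) (S : Closeds X) (η : X)
    (hη : ¬ IsClosed ({η} : Set X)) (hS : η ∈ S) : η ∉ compl' S := fun h => by
  haveI := Groth.EulerDeg.isNoetherian_of_proper k X
  have := Groth.Curves1.RR.Red.mem_of_mem_closure k hdim
    ((Groth.Curves1.RR.Red.finite_nonclosed k hdim).subset fun _ h => h.1)
    (fun _ h => h.1) hη (closure_compl_subset hX S h)
  exact this.2 hS

include k in
/-- The closure of the complement is a union of one-dimensional components. -/
theorem hasGen_compl' (hX : HasGen X) (hdim : topologicalKrullDim X ≤ 1) (S : Closeds X) :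
    HasGen (sub (compl' S)) := by
  haveI := Groth.EulerDeg.isNoetherian_of_proper k X
  refine hasGen_sub fun y hy => ?_
  let A := {η : X | ¬ IsClosed ({η} : Set X) ∧ η ∉ (S : Set X)}
  have hA : A.Finite := (Groth.Curves1.RR.Red.finite_nonclosed k hdim).subset fun _ h => h.1
  have h := closure_compl_subset hX S hy
  rw [show closure A = ⋃ η ∈ A, closure ({η} : Set X) by
    conv_lhs => rw [← Set.biUnion_of_singleton A]
    exact hA.closure_biUnion _] at h
  simp only [Set.mem_iUnion] at h
  obtain ⟨η, hη, hyη⟩ := h
  exact ⟨η, subset_closure hη.2, specializes_iff_mem_closure.2 hyη, hη.1⟩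

omit [X.Over (Spec (CommRingCat.of k))] [IsProper (X ↘ Spec (CommRingCat.of k))] in
/-- A component is covered by a non-closed point. -/
theorem hasGen_component (hX : HasGen X) {C : Set X} (hC : C ∈ irreducibleComponents (X : Type u)) :
    HasGen (sub ⟨C, isClosed_of_mem_irreducibleComponents C hC⟩) := by
  refine hasGen_sub fun y hy => ?_
  obtain ⟨η, hη⟩ := QuasiSober.sober hC.1 (isClosed_of_mem_irreducibleComponents C hC)
  obtain ⟨ξ, hξ, hξc⟩ := hX η
  have hξC : ξ ∈ C := hC.2 isIrreducible_singleton.closure
    (fun z hz => specializes_iff_mem_closure.1 (hξ.trans (hη.specializes hz))) (subset_closure rfl)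
  exact ⟨ξ, hξC, hξ.trans (hη.specializes hy), hξc⟩

/-- `deg(ω|_S) = -2χ(O_S) + h⁰(S ∩ closure(X ∖ S))` on a nodal curve. -/
theorem deg_dualizingMod_restrict (hdim : topologicalKrullDim X = 1)
    (h0 : Module.finrank k (Coh.HH X (Coh.structureModule X) 0) = 1) (hX : Curv2.AtWorstNodal k X)
    [DCoh.HasRpush (X ↘ (Spec (CommRingCat.of k)))] (h : DCoh.RpushPreservesQCoh (X ↘ (Spec (CommRingCat.of k)))) [DCoh.HasShriek (X ↘ (Spec (CommRingCat.of k))) h]
    (OY : DCoh.DQCoh (Spec (CommRingCat.of k))) (hOY : Nonempty (OY.obj ≅ DCoh.inD (Spec (CommRingCat.of k)) (Coh.structureModule (Spec (CommRingCat.of k)))))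
    (S : Closeds X) (hS : HasGen (sub S)) :
    letI := subOver (k := k) S
    Curv2.deg k (sub S) ((Scheme.Modules.pullback (inc S)).obj (DCoh.dualizingMod (X ↘ (Spec (CommRingCat.of k))) h OY 1)) 1 =
      -2 * Curv2.euler k (sub S) (Coh.structureModule (sub S)) +
        Module.finrank k (Coh.HH X (ClSub.quotMod
          (Scheme.IdealSheafData.vanishingIdeal S ⊔ Scheme.IdealSheafData.vanishingIdeal (compl' S))) 0) := by
  haveI := isReduced_of_nodal hX
  have hgen := hasGen_of_h0 hdim h0
  have hequi := equidim_of_hasGen hgen hdim.le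
  obtain ⟨tr, htr⟩ := Groth.Duality.ShriekBridge.exists_isRDualOver_dualizingMod (d := 1)
    (fun P => ((X ↘ (Spec (CommRingCat.of k))).fiberι P).isEmbedding.isInducing.topologicalKrullDim_le.trans
      hdim.le) h OY hOY
  exact deg_restrict hgen hdim.le
    (CurveDual.isInvertible_of_isRDualOver (fun x => Groth.Curves1.Node.isGorenstein_stalk_of_atWorstNodal hX x)
      hequi htr) htr S (compl' S) (mem_or_mem_compl' S)
    (notMem_compl' (k := k) hgen hdim.le S) hS (hasGen_compl' (k := k) hgen hdim.le S)

omit [X.Over (Spec (CommRingCat.of k))] [IsProper (X ↘ Spec (CommRingCat.of k))] in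
/-- The scheme-theoretic closure of an open in a reduced noetherian scheme is the reduced one. -/
theorem ker_opens_ι [IsReduced X] [AlgebraicGeometry.IsNoetherian X] (U : X.Opens) :
    U.ι.ker = Scheme.IdealSheafData.vanishingIdeal ⟨closure (U : Set X), isClosed_closure⟩ := by
  haveI : CompactSpace U := isCompact_iff_compactSpace.1 (NoetherianSpace.isCompact _)
  haveI : QuasiCompact U.ι := inferInstance
  refine le_antisymm ?_ ?_
  · rw [← Scheme.IdealSheafData.le_support_iff_le_vanishingIdeal]
    refine fun z hz => closure_minimal ?_ U.ι.ker.support.isClosed hz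
    intro w hw
    exact Scheme.Hom.range_subset_ker_support U.ι ⟨⟨w, hw⟩, rfl⟩
  · intro V f hf
    rw [Scheme.Hom.ker_apply, RingHom.mem_ker]
    rw [← AlgebraicGeometry.basicOpen_eq_bot_iff, ← Scheme.preimage_basicOpen]
    refine eq_bot_iff.2 fun w hw => ?_
    have hz : (inc ⟨closure (U : Set X), isClosed_closure⟩).app V.1 f = 0 := by
      rw [← RingHom.mem_ker, Scheme.IdealSheafData.ker_subschemeι_app]
      exact hf
    refine ((Groth.Curves1.RR.Red.app_eq_zero_iff _ f).1 hz (U.ι w) (subset_closure ?_) hw).elim
    exact w.2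

/-- `Hom.ker` of the complement of a component is the ideal of the closure of the complement. -/
theorem ker_compl_ι [IsReduced X] [AlgebraicGeometry.IsNoetherian X] (S : Closeds X) :
    (Scheme.Opens.ι (⟨(S : Set X)ᶜ, S.isClosed.isOpen_compl⟩ : X.Opens)).ker =
      Scheme.IdealSheafData.vanishingIdeal (compl' S) :=
  ker_opens_ι _

end Groth.Duality.CurveAdj
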