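import Groth.Agent.EulerDeg.HLinear
import Groth.Prelude.Def_KLin
import Mathlib.Algebra.Homology.DerivedCategory.Ext.Map

/-!
# The Yoneda pairing of cohomology with `Ext`
-/

set_option autoImplicit false

universe u

open CategoryTheory CategoryTheory.Limits AlgebraicGeometry
open CategoryTheory.Abelian

noncomputable section

namespace Groth.Duality.Yoneda

open Groth.CohBase (toAbF)

variable {k : Type u} [CommRing k] {X : Scheme.{u}} [X.Over (Spec (CommRingCat.of k))]
  [HasExt.{u} X.Modules]

/-- The product of a cohomology class with an extension class. -/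
def ypair {F G : X.Modules} {i j m : ℕ} (h : j + i = m) (y : Coh.HH X F j) (x : Ext F G i) :
    Coh.HH X G m :=
  Ext.comp y (x.mapExactFunctor (toAbF X)) h

theorem ypair_smul {F G : X.Modules} {i j m : ℕ} (h : j + i = m) (a : k)
    (y : Coh.HH X F j) (x : Ext F G i) :
    ypair h (a • y) x = a • ypair h y x := by
  have e : (Ext.mk₀ (Formal.smulMod k F a)).comp x (zero_add i) =
      x.comp (Ext.mk₀ (Formal.smulMod k G a)) (add_zero i) := by
    have h1 : a • x = x.comp (Ext.mk₀ (a • 𝟙 G)) (add_zero i) := Ext.smul_eq_comp_mk₀ x a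
    have h2 : a • x = (Ext.mk₀ (a • 𝟙 F)).comp x (zero_add i) := by
      rw [Ext.mk₀_smul, Ext.smul_comp, Ext.mk₀_id_comp]
    have hF : (a • 𝟙 F : F ⟶ F) = Formal.smulMod k F a := by
      rw [KLin.smul_def]; exact Category.comp_id _
    have hG : (a • 𝟙 G : G ⟶ G) = Formal.smulMod k G a := by
      rw [KLin.smul_def]; exact Category.comp_id _
    rw [← hF, ← hG, ← h1, ← h2]
  have e' := congrArg (fun z => z.mapExactFunctor (toAbF X)) e
  simp only [Ext.mapExactFunctor_comp, Ext.mapExactFunctor_mk₀] at e'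
  change Ext.comp (Ext.comp y (Ext.mk₀ ((toAbF X).map (Formal.smulMod k F a))) (add_zero j)) _ h =
    Ext.comp (Ext.comp y (x.mapExactFunctor (toAbF X)) h)
      (Ext.mk₀ ((toAbF X).map (Formal.smulMod k G a))) (add_zero m)
  rw [Ext.comp_assoc_of_second_deg_zero, e', Ext.comp_assoc_of_third_deg_zero]

variable {G : X.Modules} {n : ℕ} (τ : Coh.HH X G n →ₗ[k] k)

/-- The duality map of a functional on `Hⁿ(G)`. -/
def dual {F : X.Modules} {i j : ℕ} (h : j + i = n) :
    Ext F G i →+ Module.Dual k (Coh.HH X F j) where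
  toFun x :=
    { toFun := fun y => τ (ypair h y x)
      map_add' := fun y y' => by
        rw [← map_add]
        exact congrArg τ (Ext.add_comp _ _ _ _)
      map_smul' := fun a y => by rw [ypair_smul, map_smul, RingHom.id_apply] }
  map_zero' := LinearMap.ext fun y => by
    change τ (ypair h y 0) = 0
    rw [ypair, Ext.mapExactFunctor_zero, Ext.comp_zero]
    exact map_zero _
  map_add' x x' := LinearMap.ext fun y => by
    change τ (ypair h y (x + x')) = τ (ypair h y x) + τ (ypair h y x')
    rw [ypair, Ext.mapExactFunctor_add, Ext.comp_add]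
    exact map_add _ _ _

theorem dual_apply {F : X.Modules} {i j : ℕ} (h : j + i = n) (x : Ext F G i) (y : Coh.HH X F j) :
    dual τ h x y = τ (ypair h y x) := rfl

theorem dual_mk₀ {F : X.Modules} (φ : F ⟶ G) (y : Coh.HH X F n) :
    dual τ (add_zero n) (Ext.mk₀ φ) y = τ (EulerDeg.hMap k φ n y) := by
  rw [dual_apply, ypair, Ext.mapExactFunctor_mk₀]
  rfl

/-- Compatibility with morphisms. -/
theorem dual_mk₀_comp {F F' : X.Modules} {i j : ℕ} (h : j + i = n) (f : F' ⟶ F) (x : Ext F G i) :
    dual τ h ((Ext.mk₀ f).comp x (zero_add i)) =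
      (EulerDeg.hMap k f j).dualMap (dual τ h x) := by
  refine LinearMap.ext fun y => ?_
  rw [LinearMap.dualMap_apply, dual_apply, dual_apply, ypair, ypair, Ext.mapExactFunctor_comp,
    Ext.mapExactFunctor_mk₀, ← Ext.comp_assoc_of_second_deg_zero]
  rfl

/-- Compatibility with connecting maps. -/
theorem dual_extClass_comp {S : ShortComplex X.Modules} (hS : S.ShortExact) {i j : ℕ}
    (h : j + 1 + i = n) (h' : j + (i + 1) = n) (hi : 1 + i = i + 1) (x : Ext S.X₁ G i)
    (y : Coh.HH X S.X₃ j) :
    dual τ h' (hS.extClass.comp x hi) y = dual τ h x (EulerDeg.hDelta k hS j y) := by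
  rw [dual_apply, dual_apply]
  refine congrArg τ ?_
  rw [ypair, ypair, Ext.mapExactFunctor_comp, Ext.mapExactFunctor_extClass]
  exact (Ext.comp_assoc y _ _ (rfl : j + 1 = j + 1) hi (by omega)).symm

end Groth.Duality.Yoneda
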