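import Groth.Agent.Duality.PnExtDuality
import Groth.Agent.Duality.Yoneda

/-!
# The Yoneda pairing `H^{n-i}(F) × Ext^i(F, O(-n-1)) → k` is perfect
-/

set_option autoImplicit false

universe u

open CategoryTheory CategoryTheory.Limits AlgebraicGeometry
open CategoryTheory.Abelian

noncomputable section

namespace Groth.Duality.Pn

open Groth.PnCoh

variable {k : Type u} [Field k] {n : ℕ} [HasExt.{u} (CohB1.ProjSpace n k).Modules]

theorem dual_mk₀_eq_theta {F : (CohB1.ProjSpace n k).Modules} (hF : Coh.IsCoh F) (φ : F ⟶ omega k n) :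
    Yoneda.dual (trace n k) (j := n) (add_zero n) (Ext.mk₀ φ) = theta hF φ :=
  LinearMap.ext fun y => (Yoneda.dual_mk₀ (trace n k) φ y).trans (theta_apply hF φ y).symm

/-- Serre duality: the pairing is perfect. -/
theorem dual_bijective (i : ℕ) : ∀ (F : (CohB1.ProjSpace n k).Modules), Coh.IsCoh F →
    ∀ {j : ℕ} (h : j + i = n),
      Function.Bijective (Yoneda.dual (trace n k) (F := F) (i := i) (j := j) h) := by
  induction i with
  | zero =>
    intro F hF j h
    obtain rfl : n = j := by omega
    have e : ∀ x, Yoneda.dual (trace n k) h x = theta hF (Ext.linearEquiv₀ (R := k) x) := fun x => by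
      obtain ⟨φ, rfl⟩ := (Ext.mk₀_bijective F (omega k n)).2 x
      exact (dual_mk₀_eq_theta hF φ).trans
        (congrArg (theta hF) ((Ext.linearEquiv₀ (R := k)).apply_symm_apply φ).symm)
    rw [show (⇑(Yoneda.dual (trace n k) (F := F) (i := 0) h)) =
      theta hF ∘ Ext.linearEquiv₀ (R := k) from funext e]
    exact (theta hF).bijective.comp (Ext.linearEquiv₀ (R := k)).bijective
  | succ i ih =>
    intro F hF j h
    obtain ⟨S, hS, rfl, hE, hK⟩ := exists_negSum_seq F hF
    have h1 : j + 1 + i = n := by omega
    let g := compLeft (k := k) (N := omega k n) (b := i) hS.extClass (show 1 + i = i + 1 by omega)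
    let δ := EulerDeg.hDelta k hS j
    have hsq : ∀ x, Yoneda.dual (trace n k) h (g x) = δ.dualMap (Yoneda.dual (trace n k) h1 x) :=
      fun x => LinearMap.ext fun y => Yoneda.dual_extClass_comp (trace n k) hS h1 h (by omega) x y
    have hg : Function.Surjective g := compLeft_surjective hS hE i
    have hδ : Function.Injective δ := hDelta_injective hS hE (by omega)
    obtain ⟨hb1, hb2⟩ := ih S.X₁ hK h1
    refine ⟨(injective_iff_map_eq_zero _).mpr fun z hz => ?_, fun ψ => ?_⟩
    · obtain ⟨x, rfl⟩ := hg z
      rw [hsq] at hz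
      rcases i with _ | l
      · obtain ⟨φ, rfl⟩ := (Ext.mk₀_bijective S.X₁ (omega k n)).2 x
        obtain rfl : j + 1 = n := by omega
        rw [dual_mk₀_eq_theta hK] at hz
        refine (compLeft_mk₀_eq_zero_iff hS φ).mpr ?_
        have hr : theta hK φ ∈ LinearMap.range (EulerDeg.hMap k S.f (j + 1)).dualMap := by
          rw [LinearMap.range_dualMap_eq_dualAnnihilator_ker, Submodule.mem_dualAnnihilator]
          intro y hy
          obtain ⟨w, rfl⟩ := (EulerDeg.exact_left k hS j y).mp (LinearMap.mem_ker.mp hy)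
          exact LinearMap.congr_fun hz w
        obtain ⟨χ, hχ⟩ := hr
        refine ⟨(theta hE.isCoh).symm χ, (theta hK).injective ?_⟩
        rw [theta_comp hK hE.isCoh, LinearEquiv.apply_symm_apply, hχ]
      · have hs : Function.Surjective δ := hDelta_surjective hS hE (by omega)
        have hz' : Yoneda.dual (trace n k) h1 x = 0 := by
          refine LinearMap.ext fun y => ?_
          obtain ⟨w, rfl⟩ := hs y
          exact LinearMap.congr_fun hz w
        rw [hb1 (hz'.trans (map_zero _).symm), map_zero]
    · obtain ⟨χ, hχ⟩ := LinearMap.dualMap_surjective_of_injective hδ ψ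
      obtain ⟨x, rfl⟩ := hb2 χ
      exact ⟨g x, (hsq x).trans hχ⟩

end Groth.Duality.Pn
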