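import Groth.Agent.Duality.FirstDerived
import Groth.Agent.Duality.PnYoneda
import Groth.Agent.Duality.PushHLin
import Groth.Agent.Duality.PnExtShVanish
import Groth.Agent.Misc7.ClosedImm.SpectralSeq
import Groth.Agent.SheafExt.Coherent
import Groth.Agent.PicAux.Powers

/-!
# The dualizing sheaf of a closed subscheme of projective space
-/

set_option autoImplicit false
set_option backward.isDefEq.respectTransparency false
set_option maxHeartbeats 1000000
set_option synthInstance.maxHeartbeats 400000

universe u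

open CategoryTheory CategoryTheory.Limits AlgebraicGeometry
open CategoryTheory.Abelian
open Groth.Misc7.ClosedImm

noncomputable section

namespace Groth.Duality.Pn

variable {k : Type u} [Field k] {N : ℕ} {X : Scheme.{u}}

/-- `i_* ⊣ i^!`. -/
def pushShriekAdj {P : Scheme.{u}} (ι : X ⟶ P) [IsClosedImmersion ι]
    [ModSite.HasSheafHom (O := P.sheaf) ((Scheme.Modules.pushforward ι).obj (Coh.structureModule X))] :
    Scheme.Modules.pushforward ι ⊣ shriek ι (Coh.structureModule X) :=
  (shriekAdj ι (Coh.structureModule X)).ofNatIsoLeft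
    (Functor.isoWhiskerRight PicAux.twistUnitIso (Scheme.Modules.pushforward ι) ≪≫
      Functor.leftUnitor _)

variable [X.Over (Spec (CommRingCat.of k))] (ι : X ⟶ CohB1.ProjSpace N k) [IsClosedImmersion ι]

omit [X.Over (Spec (CommRingCat.of k))] in
/-- `ω` is coherent. -/
theorem isCoh_of_extSh_iso
    [ModSite.HasSheafHom (O := (CohB1.ProjSpace N k).sheaf)
      ((Scheme.Modules.pushforward ι).obj (Coh.structureModule X))]
    [HasInjectiveResolutions (ModSite.Mod (CohB1.ProjSpace N k).sheaf)]
    (ω : X.Modules) {r : ℕ}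
    (hω : Nonempty ((Scheme.Modules.pushforward ι).obj ω ≅
      (ModSite.extSh (O := (CohB1.ProjSpace N k).sheaf)
        ((Scheme.Modules.pushforward ι).obj (Coh.structureModule X)) r).obj (omega k N))) :
    Coh.IsCoh ω := by
  have := PnCoh.isLocallyNoetherian_projSpace N k
  let p := Scheme.Modules.pushforward ι
  have hpO : Coh.IsCoh (p.obj (Coh.structureModule X)) :=
    CohTwo.isCoh_push ι (KTheory.LocFree.isCoh (LocFree.isFinLocFree_unit X))
  obtain ⟨eω⟩ := hω
  have h := SheafExt.isCoh_extSh (p.obj (Coh.structureModule X)) (omega k N) hpO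
    (KTheory.LocFree.isCoh (isFinLocFree_twist _)) r
  have h' : Coh.IsCoh (p.obj ω) := QCohMod.isCoh_of_iso eω.symm h
  have h'' : Coh.IsCoh ((Scheme.Modules.pullback ι).obj (p.obj ω)) :=
    have := h'.1
    ⟨QCohMod.isQCoh_pullback_obj ι _, QCohMod.isFT_pullback ι _ h'.2⟩
  exact QCohMod.isCoh_of_iso ((asIso (Scheme.Modules.pullbackPushforwardAdjunction ι).counit).app ω) h''

omit [X.Over (Spec (CommRingCat.of k))] in
/-- The Ext sheaf is a direct image. -/
theorem exists_extSh_iso
    [ModSite.HasSheafHom (O := (CohB1.ProjSpace N k).sheaf)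
      ((Scheme.Modules.pushforward ι).obj (Coh.structureModule X))]
    [HasInjectiveResolutions (ModSite.Mod (CohB1.ProjSpace N k).sheaf)] (r : ℕ) :
    ∃ ω : X.Modules, Nonempty ((Scheme.Modules.pushforward ι).obj ω ≅
      (ModSite.extSh (O := (CohB1.ProjSpace N k).sheaf)
        ((Scheme.Modules.pushforward ι).obj (Coh.structureModule X)) r).obj (omega k N)) := by
  have : HasInjectiveResolutions (CohB1.ProjSpace N k).Modules :=
    ‹HasInjectiveResolutions (ModSite.Mod (CohB1.ProjSpace N k).sheaf)›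
  obtain ⟨j⟩ := SiteCohomology.nonempty_rightDerived_comp_exact (shriek ι (Coh.structureModule X))
    (Scheme.Modules.pushforward ι) (homPush ι (Coh.structureModule X))
    (shriekPushIso ι (Coh.structureModule X)).symm (omega k N) r
  exact ⟨_, ⟨j.symm⟩⟩

/-- `Ext^r(ι_* O, ω_P)` is dualizing on `X` when `r` is the codimension. -/
theorem exists_dualizing (hι : ι ≫ CohB1.ProjSpace.toSpec N k = X ↘ Spec (CommRingCat.of k))
    {d r : ℕ} (hdr : d + r = N) (hdim : topologicalKrullDim ↥X ≤ (d : WithBot ℕ∞))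
    [ModSite.HasSheafHom (O := (CohB1.ProjSpace N k).sheaf)
      ((Scheme.Modules.pushforward ι).obj (Coh.structureModule X))]
    [HasInjectiveResolutions (ModSite.Mod (CohB1.ProjSpace N k).sheaf)]
    (ω : X.Modules)
    (hω : Nonempty ((Scheme.Modules.pushforward ι).obj ω ≅
      (ModSite.extSh (O := (CohB1.ProjSpace N k).sheaf)
        ((Scheme.Modules.pushforward ι).obj (Coh.structureModule X)) r).obj (omega k N))) :
    ∃ t : Coh.HH X ω d →ₗ[k] k, ∀ F : X.Modules, Coh.IsCoh F → ∀ ψ : Coh.HH X F d →ₗ[k] k,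
      ∃! φ : F ⟶ ω, ∀ x : Coh.HH X F d,
        ψ x = t (Sheaf.H.map ((SheafOfModules.toSheaf X.ringCatSheaf).map φ) d x) := by
  have := PnCoh.isLocallyNoetherian_projSpace N k
  have : HasInjectiveResolutions (CohB1.ProjSpace N k).Modules :=
    ‹HasInjectiveResolutions (ModSite.Mod (CohB1.ProjSpace N k).sheaf)›
  have : HasExt.{u} (CohB1.ProjSpace N k).Modules := inferInstance
  let p := Scheme.Modules.pushforward ι
  have hO : Coh.IsCoh (Coh.structureModule X) := KTheory.LocFree.isCoh (LocFree.isFinLocFree_unit X)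
  have hpO := CohTwo.isCoh_push ι hO
  have hvan : ∀ q, q < r → IsZero (((shriek ι (Coh.structureModule X)).rightDerived q).obj
      (omega k N)) := fun q hq => by
    have hz : IsZero ((ModSite.extSh (O := (CohB1.ProjSpace N k).sheaf)
        (p.obj (Coh.structureModule X)) q).obj (omega k N)) := by
      refine (isZero_extSh_omega_iff hpO (show (N - q) + q = N by omega)).2
        (negVanish_push_of_dim_lt ι (hdim.trans_lt ?_))
      exact_mod_cast (show d < N - q by omega)
    obtain ⟨e⟩ := nonempty_rightDerived_shriek ι (Coh.structureModule X) (omega k N) q (⊥_ X.Modules)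
      ⟨(p.map_isZero (initialIsInitial.isZero)).iso hz⟩
    exact initialIsInitial.isZero.of_iso e
  obtain ⟨u, hu⟩ := FirstDerived.exists_universal' p (shriek ι (Coh.structureModule X))
    (pushShriekAdj ι)
    (injective_shriek ι _ (LocFree.isFinLocFree_unit X)) (omega k N) r hvan
  obtain ⟨e⟩ := nonempty_rightDerived_shriek ι (Coh.structureModule X) (omega k N) r ω hω
  let u' : Ext (p.obj ω) (omega k N) r := (Ext.mk₀ (p.map e.inv)).comp u (zero_add r)
  have hu' : ∀ F : X.Modules, Function.Bijective fun φ : F ⟶ ω =>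
      (Ext.mk₀ (p.map φ)).comp u' (zero_add r) := fun F => by
    have h : (fun φ : F ⟶ ω => (Ext.mk₀ (p.map φ)).comp u' (zero_add r)) =
        (fun φ' => (Ext.mk₀ (p.map φ')).comp u (zero_add r)) ∘ fun φ => φ ≫ e.inv := funext fun φ => by
      simp only [u', Function.comp_apply, Ext.mk₀_comp_mk₀_assoc, Functor.map_comp]
    rw [h]
    exact (hu F).comp (Iso.homToEquiv e.symm).bijective
  have hωc : Coh.IsCoh ω := isCoh_of_extSh_iso ι ω hω
  have := hωc.1
  let Φ := fun (F : X.Modules) [F.IsQuasicoherent] =>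
    PushHLin.pushLin (A := k) ι hι F d
  refine ⟨(Yoneda.dual (trace N k) hdr u').comp (Φ ω).symm.toLinearMap, fun F hF ψ => ?_⟩
  have := hF.1
  have hb : Function.Bijective fun φ : F ⟶ ω =>
      (Φ F).symm.toLinearMap.dualMap
        (Yoneda.dual (trace N k) hdr ((Ext.mk₀ (p.map φ)).comp u' (zero_add r))) :=
    (Φ F).symm.dualMap.bijective.comp
      ((dual_bijective r _ (CohTwo.isCoh_push ι hF) hdr).comp (hu' F))
  obtain ⟨φ, hφ, huniq⟩ := hb.existsUnique ψ
  have key : ∀ (φ : F ⟶ ω) (x : Coh.HH X F d),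
      (Φ F).symm.toLinearMap.dualMap
          (Yoneda.dual (trace N k) hdr ((Ext.mk₀ (p.map φ)).comp u' (zero_add r))) x =
        Yoneda.dual (trace N k) hdr u' ((Φ ω).symm (EulerDeg.hMap k φ d x)) := fun φ x => by
    rw [LinearMap.dualMap_apply, Yoneda.dual_mk₀_comp, LinearMap.dualMap_apply]
    exact congrArg _ (PushHLin.pushLin_natural ι hι φ d x).symm
  refine ⟨φ, fun x => ?_, fun φ' hφ' => huniq φ' (LinearMap.ext fun x => ?_)⟩
  · exact (LinearMap.congr_fun hφ x).symm.trans (key φ x)
  · exact (key φ' x).trans (hφ' x).symm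

end Groth.Duality.Pn
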