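import Groth.Agent.Duality.TraceBij
import Groth.Agent.Duality.GenericRank
import Groth.Agent.Duality.PnStalk
import Groth.Agent.Duality.PnDualizing
import Groth.Agent.LocDual.CanonGorenstein
import Groth.Agent.CanMod.End
import Groth.Agent.KTheory.LocFree
import Groth.Agent.LocFree.Rank
import Groth.Agent.DualMod.Finite
import Groth.Agent.S7645
import Groth.Agent.S1656
import Groth.Agent.S0341
import Groth.Agent.S0342
import Groth.Agent.Gorenstein.Basic

/-!
# The dualizing sheaf of a proper Gorenstein curve is invertible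

Embed the curve in projective space: the dualizing sheaf is `Ext^c(O_X, ω_P)`, whose stalk at a
closed point is the canonical module of the local ring, hence free of rank one.
-/

set_option autoImplicit false
set_option backward.isDefEq.respectTransparency false
set_option linter.style.haveILetI false
set_option maxHeartbeats 1000000
set_option synthInstance.maxHeartbeats 400000

universe u

open CategoryTheory CategoryTheory.Limits AlgebraicGeometry IsLocalRing
attribute [local instance] HasDerivedCategory.standard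

noncomputable section

namespace Groth.Duality.CurveDual

/-- Over a Gorenstein quotient `B` of a regular local ring `A`, `Ext^(dim A - dim B)(B, A) ≅ B`. -/
theorem nonempty_ext_equiv_self {A B : Type u} [CommRing A] [IsRegularLocalRing A] [CommRing B]
    [IsNoetherianRing B] [IsLocalRing B] [Algebra A B]
    (hπ : Function.Surjective (algebraMap A B)) (hG : LocCoh.IsGorensteinLocalRing B)
    {n j r : ℕ} (hn : ringKrullDim B = n) (hr : ringKrullDim A = r) (hij : n + j = r) :
    Nonempty (B ≃ₗ[A] Abelian.Ext (ModuleCat.of A B) (ModuleCat.of A A) j) := by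
  have hS := (GrothGoren.isGorenstein_iff A).1 (Groth.Agent.S0342.result A)
  obtain ⟨E, _, _, f, hf⟩ := GrothMatlis.exists_hull B (ResidueField B)
  obtain ⟨K, hK, ⟨eK⟩⟩ := Groth.LocDual.exists_canonical hS hπ hn hf
  haveI := hK
  letI : Module A K := Module.compHom K (algebraMap A B)
  haveI : IsScalarTower A B K := IsScalarTower.of_algebraMap_smul fun _ _ => rfl
  obtain ⟨e⟩ := Groth.LocDual.nonempty_canonical_ext_equiv hS hπ hf hr hij eK
  haveI := hG
  obtain ⟨g⟩ := (Groth.CanMod.gorenstein_iff (Groth.Agent.S0341.result B) hn hf eK).1 hG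
  exact ⟨(g.symm.restrictScalars A).trans e⟩

variable {P X : Scheme.{u}} [IsLocallyNoetherian P] (ι : X ⟶ P) [IsClosedImmersion ι]

/-- At a Gorenstein point, the complementary Ext sheaf is free of rank one. -/
theorem nonempty_stalk_equiv (hres : SheafExtStalk.HasLocFreeCovers P)
    [HasInjectiveResolutions (ModSite.Mod P.sheaf)] {c n r : ℕ} {G : P.Modules}
    (hG : PicF.IsInvertible G)
    [ModSite.HasSheafHom (O := P.sheaf) ((Scheme.Modules.pushforward ι).obj (Coh.structureModule X))]
    (ω : X.Modules)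
    (hω : Nonempty ((Scheme.Modules.pushforward ι).obj ω ≅
      (ModSite.extSh (O := P.sheaf) ((Scheme.Modules.pushforward ι).obj (Coh.structureModule X)) c).obj G))
    (z : X) [IsRegularLocalRing (P.presheaf.stalk (ι z))]
    (hGor : LocCoh.IsGorensteinLocalRing (X.presheaf.stalk z))
    (hB : ringKrullDim (X.presheaf.stalk z) = n)
    (hA : ringKrullDim (P.presheaf.stalk (ι z)) = r) (hnr : n + c = r) :
    Nonempty (X.presheaf.stalk z ≃ₗ[X.presheaf.stalk z] ω.presheaf.stalk z) := by
  haveI : IsLocallyNoetherian X := LocallyOfFiniteType.isLocallyNoetherian ι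
  let A := P.presheaf.stalk (ι z)
  let B := X.presheaf.stalk z
  let f : A →+* B := (ι.stalkMap z).hom
  have hf : Function.Surjective f := ι.stalkMap_surjective z
  letI : Algebra A B := f.toAlgebra
  let F := (Scheme.Modules.pushforward ι).obj (Coh.structureModule X)
  have hF : Coh.IsCoh F :=
    CohTwo.isCoh_push ι (KTheory.LocFree.isCoh (LocFree.isFinLocFree_unit X))
  obtain ⟨eω⟩ := hω
  obtain ⟨eE⟩ := StalkExt.nonempty_stalk_extSh hres G c F hF (ι z)
  obtain ⟨eω', heω'⟩ := GenericRank.exists_pushStalk ι ω z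
  obtain ⟨eO, heO⟩ := GenericRank.exists_pushStalk ι (Coh.structureModule X) z
  obtain ⟨g⟩ := Inter.exists_stalk_equiv hG (ι z)
  let u : (Coh.structureModule X).presheaf.stalk z ≃ₗ[B] B :=
    (LinearEquiv.ofBijective _ (CohTwo.bijective_toSpanSingleton_one z)).symm
  let eF : F.presheaf.stalk (ι z) ≃ₗ[A] B := (eO.trans u.toAddEquiv).toLinearEquiv fun a t => by
    change u (eO (a • t)) = f a * u (eO t)
    rw [heO, map_smul]
    rfl
  obtain ⟨e⟩ := nonempty_ext_equiv_self (A := A) (B := B) hf hGor hB hA hnr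
  let d : B ≃ₗ[A] ((Scheme.Modules.pushforward ι).obj ω).presheaf.stalk (ι z) :=
    e.trans (CohTwo.ExtShSec.extCongr eF.symm.toModuleIso g.toModuleIso c) ≪≫ₗ eE.symm ≪≫ₗ
      (StalkExt.stalkEquiv eω (ι z)).symm
  refine ⟨(d.toAddEquiv.trans eω').toLinearEquiv fun b t => ?_⟩
  obtain ⟨a, rfl⟩ := hf b
  change eω' (d (f a * t)) = f a • eω' (d t)
  rw [show f a * t = a • t from rfl, map_smul, heω']

omit [IsLocallyNoetherian P] in
/-- A coherent module with free rank one stalks at the closed points is invertible. -/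
theorem isInvertible_of_stalks [AlgebraicGeometry.IsNoetherian X] {M : X.Modules} (hM : Coh.IsCoh M)
    (h : ∀ x : X, IsClosed ({x} : Set X) →
      Nonempty (X.presheaf.stalk x ≃ₗ[X.presheaf.stalk x] M.presheaf.stalk x)) :
    PicF.IsInvertible M := by
  rw [LocFree.isInvertible_iff_ofRank_one, LocFree.isFinLocFreeOfRank_iff]
  intro y
  obtain ⟨x, hxy, hx⟩ := (isClosed_closure (s := ({y} : Set X))).exists_closed_singleton
    ⟨y, subset_closure rfl⟩
  obtain ⟨e⟩ := h x hx
  haveI : Module.Free (X.presheaf.stalk x) (M.presheaf.stalk x) := Module.Free.of_equiv e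
  obtain ⟨U, n, s, hxU, hs⟩ := KTheory.LocFree.exists_basis_of_free_stalk hM x
  haveI := hM.1
  obtain rfl : n = 1 := (LocFree.finrank_stalk_of_basis hs hxU).symm.trans
    (e.finrank_eq.symm.trans (Module.finrank_self _))
  exact ⟨U, s, (specializes_iff_mem_closure.2 hxy).mem_open U.isOpen hxU, hs⟩

/-- The dualizing sheaf of a proper Gorenstein scheme of pure dimension one is invertible. -/
theorem isInvertible_of_isRDualOver {k : Type u} [Field k] {X : Scheme.{u}}
    [X.Over (Spec (CommRingCat.of k))] [IsProper (X ↘ Spec (CommRingCat.of k))]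
    (hGor : ∀ x : X, LocCoh.IsGorensteinLocalRing (X.presheaf.stalk x))
    (hequi : ∀ Z ∈ irreducibleComponents (X : Type u), topologicalKrullDim Z = 1)
    {ω : X.Modules} {tr : Coh.HH X ω 1 →ₗ[k] k} (htr : Canon.IsRDualOver k X 1 ω tr) :
    PicF.IsInvertible ω := by
  haveI : AlgebraicGeometry.IsNoetherian X :=
    Groth.Lichtenbaum.isNoetherian_of_field (X ↘ Spec (CommRingCat.of k))
  haveI := Groth.Lichtenbaum.isSeparated_of_field (X ↘ Spec (CommRingCat.of k))
  have hdim : topologicalKrullDim X ≤ 1 :=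
    Groth.DualMod.topologicalKrullDim_le_of_components (n := 1) fun Z hZ => (hequi Z hZ).le
  have hpair : Groth.DualMod.IsDualPair k ω tr := ⟨htr.1, fun F hF ψ => by
    obtain ⟨φ, hφ, hu⟩ := (Function.bijective_iff_existsUnique _).1 (htr.2 F hF) ψ
    exact ⟨φ, fun x => (LinearMap.congr_fun hφ x).symm,
      fun φ' hφ' => hu φ' (LinearMap.ext fun x => (hφ' x).symm)⟩⟩
  have hωc := Groth.DualMod.isCoh_dualPair hdim hpair
  refine isInvertible_of_stalks hωc fun x hx => ?_
  obtain ⟨N, ι, hι, hιk⟩ := Groth.Agent.S7645.result k X hdim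
  haveI := hι
  haveI := PnCoh.isLocallyNoetherian_projSpace N k
  haveI := Pn.irreducibleSpace_projSpace N k
  haveI := SitesTopoi.ModH.hasSheafHom (O := (CohB1.ProjSpace N k).sheaf)
    ((Scheme.Modules.pushforward ι).obj (Coh.structureModule X))
  haveI : HasInjectiveResolutions (ModSite.Mod (CohB1.ProjSpace N k).sheaf) := inferInstance
  have hN : 1 ≤ N := by
    have h1 : (1 : WithBot ℕ∞) ≤ topologicalKrullDim X :=
      (hequi _ (irreducibleComponent_mem_irreducibleComponents x)).ge.trans
        (Topology.IsInducing.subtypeVal.topologicalKrullDim_le)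
    have h2 := h1.trans ι.isEmbedding.isInducing.topologicalKrullDim_le
    rw [Variety2.PSpace.dim_projSpace] at h2
    exact_mod_cast h2
  obtain ⟨c, rfl⟩ : ∃ c, N = 1 + c := ⟨N - 1, by omega⟩
  obtain ⟨ω₀, hω₀⟩ := Pn.exists_extSh_iso (k := k) ι c
  obtain ⟨t₀, ht₀⟩ := Pn.exists_dualizing ι hιk rfl hdim ω₀ hω₀
  obtain ⟨e⟩ := nonempty_iso_of_isDualizing (t := tr)
    (fun F hF ψ => hpair.existsUnique F hF.1 ψ) ht₀ hωc (Pn.isCoh_of_extSh_iso ι ω₀ hω₀)
  haveI := Pn.isRegularLocalRing_stalk (1 + c) k (ι x)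
  obtain ⟨g⟩ := nonempty_stalk_equiv ι (Pn.hasLocFreeCovers k (1 + c))
    (PnCoh.isInvertible_twist (1 + c) k _) ω₀ hω₀ x (hGor x)
    (Groth.Agent.S1656.dim_stalk hdim hequi x hx)
    (Pn.ringKrullDim_stalk (1 + c) k (x := ι x)
      (by simpa using ι.isClosedEmbedding.isClosedMap _ hx)) rfl
  exact ⟨g ≪≫ₗ (StalkExt.stalkEquiv e x).symm⟩

/-- The dualizing module of a proper Gorenstein scheme of pure dimension one is invertible. -/
theorem isInvertible_dualizingMod {k : Type u} [Field k] {X : Scheme.{u}}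
    [X.Over (Spec (CommRingCat.of k))] [IsProper (X ↘ Spec (CommRingCat.of k))]
    (hGor : ∀ x : X, LocCoh.IsGorensteinLocalRing (X.presheaf.stalk x))
    (hequi : ∀ Z ∈ irreducibleComponents (X : Type u), topologicalKrullDim Z = 1)
    [DCoh.HasRpush (X ↘ Spec (CommRingCat.of k))] (h : DCoh.RpushPreservesQCoh (X ↘ Spec (CommRingCat.of k)))
    [DCoh.HasShriek (X ↘ Spec (CommRingCat.of k)) h]
    (OY : DCoh.DQCoh (Spec (CommRingCat.of k)))
    (hOY : Nonempty (OY.obj ≅ DCoh.inD (Spec (CommRingCat.of k)) (Coh.structureModule (Spec (CommRingCat.of k))))) :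
    PicF.IsInvertible (DCoh.dualizingMod (X ↘ Spec (CommRingCat.of k)) h OY 1) := by
  obtain ⟨tr, htr⟩ := Groth.Duality.ShriekBridge.exists_isRDualOver_dualizingMod (d := 1)
    (fun P => ((X ↘ (Spec (CommRingCat.of k))).fiberι P).isEmbedding.isInducing.topologicalKrullDim_le.trans
      (Groth.DualMod.topologicalKrullDim_le_of_components (n := 1) fun Z hZ => (hequi Z hZ).le)) h OY hOY
  exact isInvertible_of_isRDualOver hGor hequi htr

end Groth.Duality.CurveDual
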