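import Groth.Agent.CohTwo.ExtShDepth
import Groth.Agent.Duality.PnPushDepth
import Groth.Agent.Calg4.RegularAscent
import Groth.Agent.KTheory.LocFree
import Groth.Agent.Variety2.DimScheme
import Groth.Agent.Flatmor4.MiracleScheme

/-!
# Ext sheaves vanish below the codimension
-/

set_option autoImplicit false
set_option backward.isDefEq.respectTransparency false

universe u

open CategoryTheory CategoryTheory.Limits AlgebraicGeometry TopologicalSpace

namespace Groth.Duality.DepthVanish

/-- Depth of a locally free module on a regular scheme. -/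
theorem le_depth_stalk {X : Scheme.{u}} {E : X.Modules} (hE : FlatMod.IsFinLocFree E) {n : ℕ} (x : X)
    [IsRegularLocalRing (X.presheaf.stalk x)]
    (h : (n : WithBot ℕ∞) ≤ ringKrullDim (X.presheaf.stalk x)) :
    (n : ℕ∞) ≤ LocCoh.depth (X.presheaf.stalk x) (E.presheaf.stalk x) := by
  have := KTheory.LocFree.free_stalk hE x
  have := LocFree.finite_stalk hE x
  refine le_trans ?_ (depth_le_depth_free (E.presheaf.stalk x))
  have hcm := Calg4.isCohenMacaulayLocalRing_of_isRegularLocalRing (X.presheaf.stalk x)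
  have e := hcm.supportDim_eq_depth
  rw [Module.supportDim_self_eq_ringKrullDim] at e
  rw [e] at h
  exact WithBot.coe_le_coe.1 h

variable {k : Type u} [Field k] {P : Scheme.{u}} (f : P ⟶ Spec (CommRingCat.of k))
  [LocallyOfFiniteType f]

include f in
/-- On an equidimensional scheme of dimension `n`, points of height at most `n - p` have local
rings of dimension at least `p`. -/
theorem le_ringKrullDim_stalk {n p : ℕ}
    (hP : ∀ Z : Set ↥P, Z ∈ irreducibleComponents ↥P → topologicalKrullDim ↥Z = (n : WithBot ℕ∞))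
    (x : P) {h : ℕ} (hx : Order.height x = h) (hp : h + p ≤ n) :
    (p : WithBot ℕ∞) ≤ ringKrullDim (P.presheaf.stalk x) := by
  have he : ∀ η : P, IsMax η → Order.height η = n := fun η hη => by
    have hZ : closure ({η} : Set ↥P) ∈ irreducibleComponents ↥P := by
      refine ⟨isIrreducible_singleton.closure, fun T hT hsub => ?_⟩
      obtain ⟨ζ, hζ⟩ := QuasiSober.sober hT.closure isClosed_closure
      have h1 : ζ ⤳ η := hζ.specializes (subset_closure (hsub (subset_closure rfl)))
      have h2 : η ⤳ ζ := Scheme.le_iff_specializes.1 (hη (Scheme.le_iff_specializes.2 h1))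
      exact fun t ht => (hζ.specializes (subset_closure ht)).mem_closed isClosed_closure
        (h2.mem_closed isClosed_closure (subset_closure rfl))
    have h := hP _ hZ
    rw [Variety2.Dim.dim_closure_singleton] at h
    exact WithBot.coe_injective h
  have e := Flatmor4.height_add_dim_stalk_of_equidim f he x
  rw [hx] at e
  revert e
  generalize ringKrullDim (P.presheaf.stalk x) = d
  intro e
  rcases d with _ | d
  · have e' : (⊥ : WithBot ℕ∞) = ((n : ℕ) : WithBot ℕ∞) := (WithBot.add_bot _).symm.trans e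
    exact absurd e'.symm (WithBot.natCast_ne_bot n)
  · have e' : (h : ℕ∞) + d = (n : ℕ∞) := WithBot.coe_injective e
    refine WithBot.coe_le_coe.2 ?_
    induction d using ENat.recTopCoe with
    | top => exact le_top
    | coe d =>
      have h3 : h + d = n := by exact_mod_cast e'
      show ((p : ℕ) : ℕ∞) ≤ (d : ℕ∞)
      exact_mod_cast (show p ≤ d by omega)

theorem exists_height_le {X : Scheme.{u}} (x : X) {d : ℕ}
    (hd : topologicalKrullDim ↥X ≤ (d : WithBot ℕ∞)) : ∃ h : ℕ, Order.height x = h ∧ h ≤ d := by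
  rw [Variety2.Dim.dim_eq_iSup_height] at hd
  have h := WithBot.coe_le_coe.1 ((le_iSup (fun z : X => ((Order.height z : ℕ∞) : WithBot ℕ∞)) x).trans hd)
  obtain ⟨m, hm⟩ := ENat.ne_top_iff_exists.1 (ne_top_of_le_ne_top (ENat.natCast_ne_top d) h)
  refine ⟨m, hm.symm, ?_⟩
  rw [← hm] at h
  exact Nat.cast_le.1 h

include f in
/-- `ℰxt^i(ι_* O, E) = 0` below the codimension. -/
theorem isZero_extSh_push {X : Scheme.{u}} (ι : X ⟶ P) [IsClosedImmersion ι] [IsLocallyNoetherian P]
    (hreg : ∀ p : P, IsRegularLocalRing (P.presheaf.stalk p)) {n p d : ℕ}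
    (hP : ∀ Z : Set ↥P, Z ∈ irreducibleComponents ↥P → topologicalKrullDim ↥Z = (n : WithBot ℕ∞))
    (hd : topologicalKrullDim ↥X ≤ (d : WithBot ℕ∞)) (hp : d + p ≤ n)
    {E : P.Modules} (hE : FlatMod.IsFinLocFree E)
    [ModSite.HasSheafHom (O := P.sheaf) ((Scheme.Modules.pushforward ι).obj (Coh.structureModule X))]
    [HasInjectiveResolutions (ModSite.Mod P.sheaf)] (i : ℕ) (hi : i < p) :
    IsZero ((ModSite.extSh (O := P.sheaf) ((Scheme.Modules.pushforward ι).obj (Coh.structureModule X)) i).obj E) := by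
  haveI : IsLocallyNoetherian X := LocallyOfFiniteType.isLocallyNoetherian ι
  refine CohTwo.ExtShDepth.isZero_extSh_of_depth _ E
    (CohTwo.isCoh_push ι (KTheory.LocFree.isCoh (LocFree.isFinLocFree_unit X)))
    (KTheory.LocFree.isCoh hE) p (fun x hx => ?_) i hi
  obtain ⟨z, rfl⟩ := CohTwo.support_push_subset ι _ hx
  obtain ⟨h, hh, hhd⟩ := exists_height_le z hd
  have := hreg (ι z)
  refine le_depth_stalk hE _ (le_ringKrullDim_stalk f hP (ι z) (h := h) ?_ (by omega))
  rw [Variety2.Dim.height_eq_of_isPreimmersion (ι ≫ f) f ι rfl, hh]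

end Groth.Duality.DepthVanish
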