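import Mathlib.CategoryTheory.Abelian.RightDerived
import Mathlib.Algebra.Homology.HomologySequence
import Mathlib.Algebra.Homology.HomologicalComplexAbelian
import Mathlib.Algebra.Homology.ShortComplex.ExactFunctor

/-!
Right derived functors of three left exact functors forming a short exact sequence on injective
objects, with exact middle term.
-/

set_option autoImplicit false
set_option backward.isDefEq.respectTransparency false

universe v u v' u'

open CategoryTheory CategoryTheory.Limits HomologicalComplex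

namespace Groth.Duality.DerivedShift

variable {C : Type u} [Category.{v} C] [Abelian C] [HasInjectiveResolutions C]
  {D : Type u'} [Category.{v'} D] [Abelian D]
  {Φ₁ Φ₂ Φ₃ : C ⥤ D} [Φ₁.Additive] [Φ₂.Additive] [Φ₃.Additive]

omit [HasInjectiveResolutions C] in
/-- Degree zero of a resolution computes the functor, naturally in the functor. -/
theorem app_comp_toRightDerivedZero' (α : Φ₂ ⟶ Φ₁) {G : C} (I : InjectiveResolution G) :
    α.app G ≫ I.toRightDerivedZero' Φ₁ =
      I.toRightDerivedZero' Φ₂ ≫
        cyclesMap ((NatTrans.mapHomologicalComplex α _).app I.cocomplex) 0 := by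
  rw [← cancel_mono (iCycles _ _), Category.assoc, Category.assoc,
    InjectiveResolution.toRightDerivedZero'_comp_iCycles, cyclesMap_i,
    InjectiveResolution.toRightDerivedZero'_comp_iCycles_assoc]
  exact (α.naturality (I.ι.f 0)).symm

variable (g : Φ₃ ⟶ Φ₂) (f : Φ₂ ⟶ Φ₁) (hw : ∀ G, g.app G ≫ f.app G = 0)

/-- The sequence of complexes on a resolution. -/
abbrev cxSeq {G : C} (I : InjectiveResolution G) : ShortComplex (CochainComplex D ℕ) :=
  ShortComplex.mk ((NatTrans.mapHomologicalComplex g _).app I.cocomplex)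
    ((NatTrans.mapHomologicalComplex f _).app I.cocomplex)
    (HomologicalComplex.hom_ext _ _ fun _ => hw _)

variable (hse : ∀ (J : C), Injective J → (ShortComplex.mk (g.app J) (f.app J) (hw J)).ShortExact)
  [Φ₂.PreservesHomology]

include hse in
omit [HasInjectiveResolutions C] [Φ₂.PreservesHomology] in
theorem shortExact_cxSeq {G : C} (I : InjectiveResolution G) : (cxSeq g f hw I).ShortExact :=
  shortExact_of_degreewise_shortExact _ fun j => hse _ (I.injective j)

omit [HasInjectiveResolutions C] in
theorem isZero_homology_succ {G : C} (I : InjectiveResolution G) (q : ℕ) :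
    IsZero (((Φ₂.mapHomologicalComplex _).obj I.cocomplex).homology (q + 1)) :=
  (exactAt_iff_isZero_homology _ _).1 ((I.cocomplex_exactAt_succ q).map Φ₂)

include hw hse in
/-- Dimension shift. -/
theorem nonempty_rightDerived_shift (i : ℕ) (G : C) :
    Nonempty ((Φ₃.rightDerived (i + 2)).obj G ≅ (Φ₁.rightDerived (i + 1)).obj G) := by
  let I := injectiveResolution G
  have hS := shortExact_cxSeq g f hw hse I
  exact ⟨I.isoRightDerivedObj Φ₃ (i + 2) ≪≫
    (hS.δIso (i + 1) (i + 2) rfl (isZero_homology_succ I i) (isZero_homology_succ I (i + 1))).symm ≪≫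
    (I.isoRightDerivedObj Φ₁ (i + 1)).symm⟩

variable [PreservesFiniteLimits Φ₁] [PreservesFiniteLimits Φ₂]

include hw hse in
/-- Degree one. -/
theorem nonempty_rightDerived_one (G : C) :
    Nonempty ((Φ₃.rightDerived 1).obj G ≅ cokernel (f.app G)) := by
  let I := injectiveResolution G
  have hS := shortExact_cxSeq g f hw hse I
  have hepi : Epi (hS.δ 0 1 rfl) :=
    (hS.homology_exact₁ 0 1 rfl).epi_f ((isZero_homology_succ I 0).eq_of_tgt _ _)
  have hc := (hS.homology_exact₃ 0 1 rfl).gIsCokernel
  let e₁ : Φ₁.obj G ≅ (cxSeq g f hw I).X₃.homology 0 :=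
    asIso (I.toRightDerivedZero' Φ₁) ≪≫ CochainComplex.isoHomologyπ₀ _
  let e₂ : Φ₂.obj G ≅ (cxSeq g f hw I).X₂.homology 0 :=
    asIso (I.toRightDerivedZero' Φ₂) ≪≫ CochainComplex.isoHomologyπ₀ _
  refine ⟨I.isoRightDerivedObj Φ₃ 1 ≪≫ hc.coconePointUniqueUpToIso (cokernelIsCokernel
    (homologyMap (cxSeq g f hw I).g 0)) ≪≫ (cokernel.mapIso _ _ e₂ e₁ ?_).symm⟩
  simp only [e₁, e₂, Iso.trans_hom, asIso_hom, Category.assoc]
  rw [← Category.assoc, app_comp_toRightDerivedZero', Category.assoc]
  congr 1
  exact (homologyπ_naturality _ 0).symm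

end Groth.Duality.DerivedShift
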