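import Groth.Agent.Duality.Yoneda
import Groth.Agent.EulerDeg.HLinear
import Groth.Prelude.Def_KLin
import Mathlib.Algebra.Homology.DerivedCategory.Ext.ExactSequences
import Mathlib.LinearAlgebra.Dual.Lemmas

/-!
# A dualizing pair with enough acyclic covers gives duality in all degrees of a range
-/

set_option autoImplicit false

universe u

open CategoryTheory CategoryTheory.Limits AlgebraicGeometry
open CategoryTheory.Abelian

noncomputable section

namespace Groth.Duality.DualPair

variable {k : Type u} [Field k] {X : Scheme.{u}} [X.Over (Spec (CommRingCat.of k))]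
  [HasExt.{u} X.Modules] {ω : X.Modules} {d : ℕ} (t : Coh.HH X ω d →ₗ[k] k)

/-- `(ω, t)` represents the dual of the top cohomology of coherent modules. -/
def IsDualizing : Prop :=
  ∀ F : X.Modules, Coh.IsCoh F → ∀ ψ : Coh.HH X F d →ₗ[k] k,
    ∃! φ : F ⟶ ω, ∀ x : Coh.HH X F d,
      ψ x = t (Sheaf.H.map ((SheafOfModules.toSheaf X.ringCatSheaf).map φ) d x)

/-- The duality map, linearly. -/
def dualL {F : X.Modules} {i j : ℕ} (h : j + i = d) :
    Ext F ω i →ₗ[k] Module.Dual k (Coh.HH X F j) where
  toFun := Yoneda.dual t h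
  map_add' := map_add _
  map_smul' a x := by
    refine LinearMap.ext fun y => ?_
    rw [RingHom.id_apply, LinearMap.smul_apply, Yoneda.dual_apply, Yoneda.dual_apply]
    refine (congrArg t ?_).trans (map_smul t a _)
    have h1 : a • x = x.comp (Ext.mk₀ (Formal.smulMod k ω a)) (add_zero i) := by
      rw [Ext.smul_eq_comp_mk₀]
      refine congrArg (fun z => x.comp (Ext.mk₀ z) (add_zero i)) ?_
      rw [KLin.smul_def]
      exact Category.comp_id _
    rw [h1, Yoneda.ypair, Ext.mapExactFunctor_comp, Ext.mapExactFunctor_mk₀,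
      ← Ext.comp_assoc_of_third_deg_zero]
    rfl

theorem dual_mk₀_eq {F : X.Modules} (φ : F ⟶ ω) (h : d + 0 = d) (y : Coh.HH X F d) :
    dualL t h (Ext.mk₀ φ) y =
      t (Sheaf.H.map ((SheafOfModules.toSheaf X.ringCatSheaf).map φ) d y) :=
  Yoneda.dual_mk₀ t φ y

theorem bijective_zero (ht : IsDualizing t) {F : X.Modules} (hF : Coh.IsCoh F) (h : d + 0 = d) :
    Function.Bijective (dualL t (F := F) h) := by
  refine ⟨fun x x' e => ?_, fun ψ => ?_⟩
  · obtain ⟨φ, rfl⟩ := (Ext.mk₀_bijective F ω).2 x
    obtain ⟨φ', rfl⟩ := (Ext.mk₀_bijective F ω).2 x'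
    obtain ⟨χ, -, hu⟩ := ht F hF (dualL t h (Ext.mk₀ φ'))
    rw [hu φ fun y => (LinearMap.congr_fun e y).symm.trans (dual_mk₀_eq t φ h y),
      hu φ' fun y => dual_mk₀_eq t φ' h y]
  · obtain ⟨φ, hφ, -⟩ := ht F hF ψ
    exact ⟨Ext.mk₀ φ, LinearMap.ext fun y => (dual_mk₀_eq t φ h y).trans (hφ y).symm⟩

/-- A cover on which duality is trivial between degrees `d - s` and `d`. -/
structure IsAcyclicSeq (s : ℕ) (S : ShortComplex X.Modules) : Prop where
  shortExact : S.ShortExact
  cohK : Coh.IsCoh S.X₁
  cohE : Coh.IsCoh S.X₂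
  ext_zero : ∀ (i : ℕ) (x : Ext S.X₂ ω (i + 1)), x = 0
  hh_zero : ∀ q : ℕ, q < d → d ≤ q + s → ∀ y : Coh.HH X S.X₂ q, y = 0

variable (ω d) in
/-- Every coherent module has such a cover. -/
def HasAcyclicCovers (s : ℕ) : Prop :=
  ∀ F : X.Modules, Coh.IsCoh F →
    ∃ S : ShortComplex X.Modules, S.X₃ = F ∧ IsAcyclicSeq (ω := ω) (d := d) s S

theorem bijective (ht : IsDualizing t) {s : ℕ} (hcov : HasAcyclicCovers ω d s) (i : ℕ) :
    i ≤ s → ∀ (F : X.Modules), Coh.IsCoh F → ∀ {j : ℕ} (h : j + i = d),
      Function.Bijective (dualL t (F := F) h) := by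
  induction i with
  | zero =>
    intro _ F hF j h
    obtain rfl : j = d := by omega
    exact bijective_zero t ht hF h
  | succ i ih =>
    intro hi F hF j h
    obtain ⟨S, rfl, hS⟩ := hcov F hF
    have h1 : j + 1 + i = d := by omega
    let δ := EulerDeg.hDelta k hS.shortExact j
    let g : Ext S.X₁ ω i → Ext S.X₃ ω (i + 1) := fun x =>
      hS.shortExact.extClass.comp x (show 1 + i = i + 1 by omega)
    have hg : Function.Surjective g := fun y =>
      Ext.contravariant_sequence_exact₃ hS.shortExact ω y (hS.ext_zero i _) (by omega)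
    have hsq : ∀ x, dualL t h (g x) = δ.dualMap (dualL t h1 x) := fun x =>
      LinearMap.ext fun y => Yoneda.dual_extClass_comp t hS.shortExact h1 h (by omega) x y
    have hδ : Function.Injective δ := by
      refine (injective_iff_map_eq_zero _).mpr fun x hx => ?_
      obtain ⟨y, rfl⟩ := (EulerDeg.exact_right k hS.shortExact j x).mp hx
      rw [hS.hh_zero j (by omega) (by omega) y]
      exact map_zero _
    obtain ⟨hb1, hb2⟩ := ih (by omega) S.X₁ hS.cohK h1
    refine ⟨(injective_iff_map_eq_zero _).mpr fun z hz => ?_, fun ψ => ?_⟩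
    · obtain ⟨x, rfl⟩ := hg z
      rw [hsq] at hz
      rcases i with _ | l
      · obtain ⟨φ, rfl⟩ := (Ext.mk₀_bijective S.X₁ ω).2 x
        obtain rfl : j + 1 = d := by omega
        have hr : dualL t h1 (Ext.mk₀ φ) ∈
            LinearMap.range (EulerDeg.hMap k S.f (j + 1)).dualMap := by
          rw [LinearMap.range_dualMap_eq_dualAnnihilator_ker, Submodule.mem_dualAnnihilator]
          intro y hy
          obtain ⟨w, rfl⟩ := (EulerDeg.exact_left k hS.shortExact j y).mp (LinearMap.mem_ker.mp hy)
          exact LinearMap.congr_fun hz w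
        obtain ⟨χ, hχ⟩ := hr
        obtain ⟨a, rfl⟩ := (bijective_zero t ht hS.cohE h1).2 χ
        have ha : dualL t h1 ((Ext.mk₀ S.f).comp a (zero_add 0)) = dualL t h1 (Ext.mk₀ φ) :=
          (Yoneda.dual_mk₀_comp t h1 S.f a).trans hχ
        change g (Ext.mk₀ φ) = 0
        rw [← hb1 ha]
        exact hS.shortExact.extClass_comp_assoc a
      · have hs : Function.Surjective δ := fun y =>
          (EulerDeg.exact_left k hS.shortExact j y).mp (hS.hh_zero (j + 1) (by omega) (by omega) _)
        have hz' : dualL t h1 x = 0 := by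
          refine LinearMap.ext fun y => ?_
          obtain ⟨w, rfl⟩ := hs y
          exact LinearMap.congr_fun hz w
        rw [hb1 (hz'.trans (map_zero _).symm)]
        exact hS.shortExact.extClass.comp_zero (Z := ω) _ _ _
    · obtain ⟨χ, hχ⟩ := LinearMap.dualMap_surjective_of_injective hδ ψ
      obtain ⟨x, rfl⟩ := hb2 χ
      exact ⟨g x, (hsq x).trans hχ⟩

/-- The linear isomorphisms. -/
theorem nonempty_linearEquiv (ht : IsDualizing t) {s : ℕ} (hcov : HasAcyclicCovers ω d s) {i : ℕ}
    (hi : i ≤ s) (hs : s ≤ d) {F : X.Modules} (hF : Coh.IsCoh F) :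
    Nonempty (Ext F ω i ≃ₗ[k] Module.Dual k (Coh.HH X F (d - i))) :=
  ⟨LinearEquiv.ofBijective (dualL t (show d - i + i = d by omega))
    (bijective t ht hcov i hi F hF _)⟩

/-- Above the dimension `Ext` vanishes. -/
theorem subsingleton_ext_of_lt (ht : IsDualizing t) (hcov : HasAcyclicCovers ω d d) (i : ℕ) :
    d < i → ∀ (F : X.Modules), Coh.IsCoh F → Subsingleton (Ext F ω i) := by
  induction i with
  | zero => exact fun h => absurd h (Nat.not_lt_zero _)
  | succ i ih =>
    intro hi F hF
    obtain ⟨S, rfl, hS⟩ := hcov F hF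
    refine subsingleton_of_forall_eq 0 fun y => ?_
    obtain ⟨x, rfl⟩ := Ext.contravariant_sequence_exact₃ hS.shortExact ω y
      (hS.ext_zero i _) (show 1 + i = i + 1 by omega)
    rcases Nat.lt_or_ge d i with h | h
    · rw [@Subsingleton.elim _ (ih h S.X₁ hS.cohK) x 0]
      exact hS.shortExact.extClass.comp_zero (Z := ω) _ _ _
    · obtain rfl : d = i := by omega
      rcases d with _ | e
      · obtain ⟨χ, hχ⟩ := LinearMap.dualMap_surjective_of_injective
          (EulerDeg.injective_zero k hS.shortExact) (dualL t (zero_add 0) x)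
        obtain ⟨a, rfl⟩ := (bijective_zero t ht hS.cohE (zero_add 0)).2 χ
        rw [← (bijective t ht hcov 0 le_rfl S.X₁ hS.cohK (zero_add 0)).1
          (((Yoneda.dual_mk₀_comp t (zero_add 0) S.f a).trans hχ) :
            dualL t (zero_add 0) ((Ext.mk₀ S.f).comp a (zero_add 0)) = dualL t (zero_add 0) x)]
        exact hS.shortExact.extClass_comp_assoc a
      · have : Subsingleton (Coh.HH X S.X₁ 0) := subsingleton_of_forall_eq 0 fun w =>
          EulerDeg.injective_zero k hS.shortExact
            ((hS.hh_zero 0 (by omega) (by omega) _).trans (map_zero _).symm)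
        have : Subsingleton (Ext S.X₁ ω (e + 1)) :=
          (bijective t ht hcov (e + 1) le_rfl S.X₁ hS.cohK (zero_add _)).1.subsingleton
        rw [Subsingleton.elim x 0]
        exact hS.shortExact.extClass.comp_zero (Z := ω) _ _ _

end Groth.Duality.DualPair
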