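import Mathlib.LinearAlgebra.Isomorphisms

/-!
# Two surjections with the same kernel
-/

namespace Groth.Duality

theorem nonempty_linearEquiv_of_ker_eq {R M N N' : Type*} [Ring R] [AddCommGroup M] [Module R M]
    [AddCommGroup N] [Module R N] [AddCommGroup N'] [Module R N'] (f : M →ₗ[R] N) (g : M →ₗ[R] N')
    (hf : Function.Surjective f) (hg : Function.Surjective g)
    (h : ∀ x, f x = 0 ↔ g x = 0) : Nonempty (N ≃ₗ[R] N') :=
  ⟨(f.quotKerEquivOfSurjective hf).symm ≪≫ₗ
    (Submodule.quotEquivOfEq (LinearMap.ker f) (LinearMap.ker g) (Submodule.ext fun x => h x)) ≪≫ₗ g.quotKerEquivOfSurjective hg⟩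

end Groth.Duality
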