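import Groth.Agent.Duality.SheafHomSections
import Groth.Agent.Duality.HomTwist
import Groth.Agent.Duality.LinearAux
import Groth.Agent.CohTwo.LocFreeExt
import Groth.Agent.CohFin.Acyclic
import Groth.Agent.SheafExt.Coherent
import Groth.Agent.PnCoh.VanishingClosed
import Groth.Agent.LocCohZBase.ExtDerived
import Groth.Agent.Ega2Proj.TwistPow

import Mathlib.Algebra.Homology.DerivedCategory.Ext.Linear
import Mathlib.CategoryTheory.Abelian.Injective.Ext

/-!
# `Ext^i(F, G(d)) = H⁰(X, ℰxt^i(F, G(d)))` for `d ≫ 0`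

If the Ext sheaves in degrees `≤ i` have no higher cohomology, the complex `ℋom(F, I)` of an
injective resolution `I` computes `Ext^i` as the global sections of its `i`-th cohomology sheaf,
linearly over the base. Serre vanishing supplies the hypothesis after twisting.
-/

set_option autoImplicit false
set_option backward.isDefEq.respectTransparency false
set_option maxHeartbeats 1000000
set_option synthInstance.maxHeartbeats 400000
set_option linter.style.haveILetI false

universe u

open CategoryTheory CategoryTheory.Limits AlgebraicGeometry Opposite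
open CategoryTheory.Abelian

noncomputable section

namespace Groth.Duality.ExtTwist

variable {X : Scheme.{u}}

/-- A module without higher cohomology. -/
def Acyclic (M : X.Modules) : Prop := ∀ q : ℕ, Subsingleton (Coh.HH X M (q + 1))

theorem subsingleton_HH_of_isZero {M : X.Modules} (h : IsZero M) (q : ℕ) :
    Subsingleton (Coh.HH X M q) := by
  refine subsingleton_of_forall_eq 0 fun x => ?_
  have e : EulerDeg.abMap (𝟙 M) = 0 := by rw [h.eq_of_src (𝟙 M) 0, EulerDeg.abMap_zero]
  rw [← Sheaf.H.map_id_apply (F := Coh.toAb M) x, ← EulerDeg.abMap_id, e, Sheaf.H.map_apply,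
    Abelian.Ext.mk₀_zero, Abelian.Ext.comp_zero]

variable (A : Type u) [CommRing A] [X.Over (Spec (CommRingCat.of A))]

include A in
theorem Acyclic.of_iso {M N : X.Modules} (h : Acyclic M) (e : M ≅ N) : Acyclic N := fun q => by
  haveI := h q
  exact (EulerDeg.hEquiv A e (q + 1)).symm.injective.subsingleton

/-- Global sections are left exact. -/
theorem injective_hMap_zero {M N : X.Modules} (φ : M ⟶ N) [Mono φ] :
    Function.Injective (EulerDeg.hMap A φ 0) := by
  have hS := CohFin.cokerSeq_shortExact' φ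
  have h := EulerDeg.injective_zero (X := X) A
    (S := ShortComplex.mk φ (cokernel.π φ) (cokernel.condition φ)) hS
  exact h

theorem exact_hMap_zero {K M N : X.Modules} (k : K ⟶ M) (t : M ⟶ N) (w : k ≫ t = 0) [Mono k]
    (he : (ShortComplex.mk k t w).Exact) :
    Function.Exact (EulerDeg.hMap A k 0) (EulerDeg.hMap A t 0) := by
  haveI : Mono (cokernel.desc k t w) := he.mono_cokernelDesc
  have h1 := EulerDeg.exact_mid A (CohFin.cokerSeq_shortExact' k) 0
  intro x
  refine Iff.trans ?_ (h1 x)
  have e : EulerDeg.hMap A t 0 x = EulerDeg.hMap A (cokernel.desc k t w) 0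
      (EulerDeg.hMap A (cokernel.π k) 0 x) := by
    rw [← LinearMap.comp_apply, ← EulerDeg.hMap_comp, cokernel.π_desc]
  rw [e, map_eq_zero_iff _ (injective_hMap_zero A _)]

/-- Four terms: `0 → K → M → N → Q → 0` with `M` and `K` acyclic. -/
theorem four_term {K M N Q : X.Modules} (k : K ⟶ M) (t : M ⟶ N) (p : N ⟶ Q) (w : k ≫ t = 0)
    (w' : t ≫ p = 0) [Mono k] [Epi p] (he : (ShortComplex.mk k t w).Exact)
    (he' : (ShortComplex.mk t p w').Exact) (hM : Acyclic M) (hK : Acyclic K) :
    (Acyclic Q → Acyclic N) ∧ Function.Surjective (EulerDeg.hMap A p 0) ∧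
      Function.Exact (EulerDeg.hMap A t 0) (EulerDeg.hMap A p 0) := by
  let b := cokernel.desc k t w
  haveI hb : Mono b := he.mono_cokernelDesc
  have hs₁ := CohFin.cokerSeq_shortExact' k
  have hbp : b ≫ p = 0 := by
    rw [← cancel_epi (cokernel.π k), cokernel.π_desc_assoc, comp_zero, w']
  have hs₂ : (ShortComplex.mk b p hbp).ShortExact :=
    { exact := by
        let φ : ShortComplex.mk t p w' ⟶ ShortComplex.mk b p hbp :=
          { τ₁ := cokernel.π k
            τ₂ := 𝟙 _
            τ₃ := 𝟙 _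
            comm₁₂ := by simp [b]
            comm₂₃ := by simp }
        haveI : Epi φ.τ₁ := inferInstanceAs (Epi (cokernel.π k))
        haveI : IsIso φ.τ₂ := inferInstanceAs (IsIso (𝟙 N))
        haveI : Mono φ.τ₃ := inferInstanceAs (Mono (𝟙 Q))
        exact (ShortComplex.exact_iff_of_epi_of_isIso_of_mono φ).1 he'
      mono_f := hb
      epi_g := ‹Epi p› }
  have hB : Acyclic (cokernel k) := fun q => by
    haveI := hM q
    haveI := hK (q + 1)
    refine subsingleton_of_forall_eq 0 fun x => ?_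
    obtain ⟨y, rfl⟩ := (EulerDeg.exact_right A hs₁ (q + 1) x).1
      (Subsingleton.elim (EulerDeg.hDelta A hs₁ (q + 1) x) 0)
    rw [Subsingleton.elim y 0, map_zero]
  refine ⟨fun hQ q => ?_, fun x => ?_, fun x => ?_⟩
  · haveI := hB q
    haveI := hQ q
    refine subsingleton_of_forall_eq 0 fun x => ?_
    obtain ⟨y, rfl⟩ := (EulerDeg.exact_mid A hs₂ (q + 1) x).1
      (Subsingleton.elim (EulerDeg.hMap A p (q + 1) x) 0)
    rw [Subsingleton.elim y 0, map_zero]
  · haveI := hB 0
    exact (EulerDeg.exact_right A hs₂ 0 x).1 (Subsingleton.elim (EulerDeg.hDelta A hs₂ 0 x) 0)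
  · haveI := hK 0
    refine (EulerDeg.exact_mid A hs₂ 0 x).trans ?_
    constructor
    · rintro ⟨y, rfl⟩
      obtain ⟨z, rfl⟩ := (EulerDeg.exact_right A hs₁ 0 y).1
        (Subsingleton.elim (EulerDeg.hDelta A hs₁ 0 y) 0)
      exact ⟨z, by rw [← LinearMap.comp_apply, ← EulerDeg.hMap_comp, cokernel.π_desc]⟩
    · rintro ⟨z, rfl⟩
      exact ⟨EulerDeg.hMap A (cokernel.π k) 0 z,
        by rw [← LinearMap.comp_apply, ← EulerDeg.hMap_comp, cokernel.π_desc]⟩

section Complex

variable (K : CochainComplex X.Modules ℕ)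

theorem cycles_exact (j : ℕ) :
    (ShortComplex.mk (K.iCycles j) (K.toCycles j (j + 1))
      (by rw [← cancel_mono (K.iCycles (j + 1))]; simp)).Exact := by
  have h : (ShortComplex.mk (K.iCycles j) (K.d j (j + 1)) (K.iCycles_d j (j + 1))).Exact :=
    ShortComplex.exact_of_f_is_kernel _ (K.cyclesIsKernel j (j + 1) (CochainComplex.next ℕ j))
  let φ : ShortComplex.mk (K.iCycles j) (K.toCycles j (j + 1))
        (by rw [← cancel_mono (K.iCycles (j + 1))]; simp) ⟶
      ShortComplex.mk (K.iCycles j) (K.d j (j + 1)) (K.iCycles_d j (j + 1)) :=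
    { τ₁ := 𝟙 _
      τ₂ := 𝟙 _
      τ₃ := K.iCycles (j + 1)
      comm₁₂ := by simp
      comm₂₃ := by simp }
  haveI : Epi φ.τ₁ := inferInstanceAs (Epi (𝟙 _))
  haveI : IsIso φ.τ₂ := inferInstanceAs (IsIso (𝟙 _))
  haveI : Mono φ.τ₃ := inferInstanceAs (Mono (K.iCycles (j + 1)))
  exact (ShortComplex.exact_iff_of_epi_of_isIso_of_mono φ).2 h

theorem homology_exact (j : ℕ) :
    (ShortComplex.mk (K.toCycles j (j + 1)) (K.homologyπ (j + 1))
      (K.toCycles_comp_homologyπ j (j + 1))).Exact :=
  ShortComplex.exact_of_g_is_cokernel _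
    (K.homologyIsCokernel j (j + 1) (CochainComplex.prev_nat_succ j))

include A in
/-- The cycles are acyclic as long as the cohomology is. -/
theorem acyclic_cycles (hK : ∀ l, Acyclic (K.X l)) :
    ∀ j : ℕ, (∀ l, l ≤ j → Acyclic (K.homology l)) → Acyclic (K.cycles j)
  | 0, h => Acyclic.of_iso A (h 0 le_rfl) K.isoHomologyπ₀.symm
  | j + 1, h => (four_term A (K.iCycles j) (K.toCycles j (j + 1)) (K.homologyπ (j + 1)) _ _
      (cycles_exact K j) (homology_exact K j) (hK j)
      (acyclic_cycles hK j fun l hl => h l (hl.trans j.le_succ))).1 (h (j + 1) le_rfl)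

/-- The kernel of the differential on global sections maps onto the sections of the cohomology,
with kernel the coboundaries. -/
theorem surjective_homologyπ (hK : ∀ l, Acyclic (K.X l)) (i : ℕ)
    (h : ∀ l, l < i → Acyclic (K.homology l)) :
    Function.Surjective (EulerDeg.hMap A (K.homologyπ i) 0) ∧
      ∀ z, EulerDeg.hMap A (K.homologyπ i) 0 z = 0 ↔
        ∃ g, EulerDeg.hMap A (K.toCycles ((ComplexShape.up ℕ).prev i) i) 0 g = z := by
  rcases i with _ | j
  · have hb : Function.Bijective (EulerDeg.hMap A (K.homologyπ 0) 0) :=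
      (EulerDeg.hEquiv A K.isoHomologyπ₀ 0).bijective
    refine ⟨hb.2, fun z => ⟨fun hz => ⟨0, ?_⟩, ?_⟩⟩
    · rw [map_zero]
      exact (hb.1 (hz.trans (map_zero _).symm)).symm
    · rintro ⟨g, rfl⟩
      rw [← LinearMap.comp_apply, ← EulerDeg.hMap_comp, HomologicalComplex.toCycles_comp_homologyπ,
        EulerDeg.hMap_apply, EulerDeg.abMap_zero]
      rw [Sheaf.H.map_apply, Abelian.Ext.mk₀_zero, Abelian.Ext.comp_zero]
  · have h4 := four_term A (K.iCycles j) (K.toCycles j (j + 1)) (K.homologyπ (j + 1)) _ _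
      (cycles_exact K j) (homology_exact K j) (hK j)
      (acyclic_cycles A K hK j fun l hl => h l (Nat.lt_succ_of_le hl))
    refine ⟨h4.2.1, fun z => ?_⟩
    rw [CochainComplex.prev_nat_succ]
    exact h4.2.2 z

end Complex

variable {A}

/-- Scalars commute with the class of a cocycle. -/
theorem extMk_smul [HasExt.{u} X.Modules] {P Y : X.Modules} (R : InjectiveResolution Y) (i : ℕ)
    (a : A) (f : P ⟶ R.cocomplex.X i) (hf : f ≫ R.cocomplex.d i (i + 1) = 0)
    (ha : (a • f) ≫ R.cocomplex.d i (i + 1) = 0) :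
    R.extMk (a • f) (i + 1) rfl ha = a • R.extMk f (i + 1) rfl hf := by
  have h := R.mk₀_comp_extMk f (i + 1) rfl hf (a • 𝟙 P)
  rw [Ext.mk₀_smul, Ext.smul_comp, Ext.mk₀_id_comp] at h
  rw [h]
  exact LocCohZBase.ExtDerived.extMk_congr R _ rfl (by simp) _ _

variable (A)

/-- If the Ext sheaves of degree `< i` are acyclic, `Ext^i` is the sections of the Ext sheaf. -/
theorem nonempty_ext_linearEquiv [HasExt.{u} X.Modules] (F : X.Modules) [DCoh.HasSheafHom F]
    [(DCoh.sheafHom F).Additive] [HasInjectiveResolutions X.Modules] (N : X.Modules) (i : ℕ)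
    (h : ∀ l, l < i → Acyclic (((DCoh.sheafHom F).rightDerived l).obj N)) :
    Nonempty (Ext F N i ≃ₗ[A] Coh.HH X (((DCoh.sheafHom F).rightDerived i).obj N) 0) := by
  let R : InjectiveResolution N := injectiveResolution N
  let K : CochainComplex X.Modules ℕ :=
    ((DCoh.sheafHom F).mapHomologicalComplex _).obj R.cocomplex
  have hK : ∀ l, Acyclic (K.X l) := fun l q =>
    SheafHom.subsingleton_HH_of_injective F (R.cocomplex.X l) q
  have hH : ∀ l, ((DCoh.sheafHom F).rightDerived l).obj N ≅ K.homology l := fun l =>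
    R.isoRightDerivedObj (DCoh.sheafHom F) l
  obtain ⟨hsurj, hker⟩ := surjective_homologyπ A K hK i fun l hl =>
    Acyclic.of_iso A (h l hl) (hH l)
  -- the cycles, as global sections and as morphisms
  let φ : ∀ l, (F ⟶ R.cocomplex.X l) ≃ₗ[A] Coh.HH X (K.X l) 0 := fun l =>
    SheafHom.homH0 F A (R.cocomplex.X l)
  have hφd : ∀ l l' (x : F ⟶ R.cocomplex.X l),
      φ l' (x ≫ R.cocomplex.d l l') = EulerDeg.hMap A (K.d l l') 0 (φ l x) := fun l l' x =>
    SheafHom.homH0_comp F A x (R.cocomplex.d l l')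
  let ι : Coh.HH X (K.cycles i) 0 →ₗ[A] (F ⟶ R.cocomplex.X i) :=
    (φ i).symm.toLinearMap.comp (EulerDeg.hMap A (K.iCycles i) 0)
  have hιd : ∀ z, ι z ≫ R.cocomplex.d i (i + 1) = 0 := fun z => by
    refine (φ (i + 1)).injective ?_
    rw [map_zero, hφd]
    simp only [ι, LinearMap.comp_apply, LinearEquiv.coe_coe, LinearEquiv.apply_symm_apply]
    rw [← LinearMap.comp_apply, ← EulerDeg.hMap_comp, K.iCycles_d, EulerDeg.hMap_apply,
      EulerDeg.abMap_zero, Sheaf.H.map_apply, Abelian.Ext.mk₀_zero, Abelian.Ext.comp_zero]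
  have hιinj : Function.Injective ι :=
    (φ i).symm.injective.comp (injective_hMap_zero A (K.iCycles i))
  have hιrange : ∀ f : F ⟶ R.cocomplex.X i, f ≫ R.cocomplex.d i (i + 1) = 0 → ∃ z, ι z = f := by
    intro f hf
    have h0 : EulerDeg.hMap A (K.d i (i + 1)) 0 (φ i f) = 0 := by rw [← hφd, hf, map_zero]
    obtain ⟨z, hz⟩ := (exact_hMap_zero A (K.iCycles i) (K.d i (i + 1)) (K.iCycles_d i (i + 1))
      (ShortComplex.exact_of_f_is_kernel _
        (K.cyclesIsKernel i (i + 1) (CochainComplex.next ℕ i))) _).1 h0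
    exact ⟨z, by simp only [ι, LinearMap.comp_apply, hz, LinearEquiv.coe_coe,
      LinearEquiv.symm_apply_apply]⟩
  let c : Coh.HH X (K.cycles i) 0 →ₗ[A] Ext F N i :=
    { toFun := fun z => R.extMk (ι z) (i + 1) rfl (hιd z)
      map_add' := fun z z' => by
        rw [R.add_extMk _ _ _ rfl (hιd z) (hιd z')]
        exact LocCohZBase.ExtDerived.extMk_congr R _ rfl (map_add ι z z') _ _
      map_smul' := fun a z => by
        rw [RingHom.id_apply, ← extMk_smul R i a (ι z) (hιd z)
          (by rw [← map_smul]; exact hιd _)]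
        exact LocCohZBase.ExtDerived.extMk_congr R _ rfl (map_smul ι a z) _ _ }
  have hc : Function.Surjective c := fun x => by
    obtain ⟨f, hf, rfl⟩ := R.extMk_surjective x (i + 1) rfl
    obtain ⟨z, rfl⟩ := hιrange f hf
    exact ⟨z, rfl⟩
  suffices hk : ∀ z, c z = 0 ↔ EulerDeg.hMap A (K.homologyπ i) 0 z = 0 by
    obtain ⟨e⟩ := nonempty_linearEquiv_of_ker_eq c (EulerDeg.hMap A (K.homologyπ i) 0) hc hsurj hk
    exact ⟨e ≪≫ₗ (EulerDeg.hEquiv A (hH i) 0).symm⟩
  intro z
  refine Iff.trans ?_ (hker z).symm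
  change R.extMk (ι z) (i + 1) rfl (hιd z) = 0 ↔ _
  -- coboundaries on the two sides
  have key : ∀ l (g : F ⟶ R.cocomplex.X l), g ≫ R.cocomplex.d l i = ι z ↔
      EulerDeg.hMap A (K.toCycles l i) 0 (φ l g) = z := fun l g => by
    rw [← (injective_hMap_zero A (K.iCycles i)).eq_iff, ← LinearMap.comp_apply,
      ← EulerDeg.hMap_comp, K.toCycles_i, ← hφd, ← (φ i).injective.eq_iff]
    simp only [ι, LinearMap.comp_apply, LinearEquiv.coe_coe, LinearEquiv.apply_symm_apply]
  rcases i with _ | j
  · rw [Groth.SiteCohomology.extMk_zero_eq_zero_iff]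
    constructor
    · intro hz
      exact ⟨0, by rw [map_zero]; exact (hιinj (hz.trans (map_zero ι).symm)).symm⟩
    · rintro ⟨g, hg⟩
      have := (key _ ((φ _).symm g)).2 (by rw [LinearEquiv.apply_symm_apply]; exact hg)
      rw [← this, R.cocomplex.shape _ _ (by simp), comp_zero]
  · rw [R.extMk_eq_zero_iff _ _ rfl _ j rfl, CochainComplex.prev_nat_succ]
    constructor
    · rintro ⟨g, hg⟩
      exact ⟨φ j g, (key j g).1 hg⟩
    · rintro ⟨g, hg⟩
      exact ⟨(φ j).symm g, (key j _).2 (by rw [LinearEquiv.apply_symm_apply]; exact hg)⟩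

/-- Derived functors commute with twisting by an invertible module. -/
theorem nonempty_rightDerived_twist {L M : X.Modules} (hL : ClSub.IsInverseOf L M)
    (F : X.Modules) [DCoh.HasSheafHom F] [(DCoh.sheafHom F).Additive]
    [HasInjectiveResolutions X.Modules] (G : X.Modules) (q : ℕ) :
    Nonempty (((DCoh.sheafHom F).rightDerived q).obj (CohB1.tensorMod G L) ≅
      CohB1.tensorMod (((DCoh.sheafHom F).rightDerived q).obj G) L) := by
  let T : X.Modules ⥤ X.Modules := DCoh.tensorRightMod L
  haveI : T.IsEquivalence := PicAux.isEquivalence_tensorRightMod hL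
  haveI : T.Additive := inferInstanceAs (DCoh.tensorRightMod L).Additive
  haveI : PreservesFiniteLimits T := inferInstance
  haveI : PreservesFiniteColimits T := inferInstance
  let R : InjectiveResolution G := injectiveResolution G
  haveI : QuasiIso R.ι := R.quasiIso
  let R' : InjectiveResolution (T.obj G) :=
    { cocomplex := (T.mapHomologicalComplex _).obj R.cocomplex
      injective := fun n =>
        haveI := R.injective n
        Injective.injective_of_adjoint T.asEquivalence.symm.toAdjunction (R.cocomplex.X n)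
      ι := (HomologicalComplex.singleMapHomologicalComplex T _ 0).inv.app G ≫
        (T.mapHomologicalComplex _).map R.ι }
  let S : X.Modules ⥤ X.Modules := DCoh.sheafHom F
  let C := (S.mapHomologicalComplex (ComplexShape.up ℕ)).obj R.cocomplex
  exact ⟨R'.isoRightDerivedObj S q ≪≫
    (HomologicalComplex.homologyFunctor X.Modules _ q).mapIso
      ((LocCohZBase.DerivedComp.cxIso T S R.cocomplex).symm ≪≫
        (NatIso.mapHomologicalComplex (SheafHom.sheafHomTwistIso F hL) _).app R.cocomplex ≪≫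
        LocCohZBase.DerivedComp.cxIso S T R.cocomplex) ≪≫
    (C.sc q).mapHomologyIso T ≪≫ T.mapIso (R.isoRightDerivedObj S q).symm⟩

/-- The two Ext sheaves agree. -/
def extShIso (F : X.Modules) [ModSite.HasSheafHom (O := X.sheaf) F] [DCoh.HasSheafHom F]
    [(DCoh.sheafHom F).Additive]
    [(ModSite.sheafHom (O := X.sheaf) F : X.Modules ⥤ X.Modules).Additive]
    [HasInjectiveResolutions X.Modules] [HasInjectiveResolutions (ModSite.Mod X.sheaf)] (l : ℕ)
    (N : X.Modules) :
    (ModSite.extSh (O := X.sheaf) F l).obj N ≅ ((DCoh.sheafHom F).rightDerived l).obj N :=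
  let h := CohTwo.LocFreeExt.msIso (X := X) F
  ({ hom := NatTrans.rightDerived h.hom l
     inv := NatTrans.rightDerived h.inv l
     hom_inv_id := by rw [← NatTrans.rightDerived_comp, Iso.hom_inv_id, NatTrans.rightDerived_id]
     inv_hom_id := by rw [← NatTrans.rightDerived_comp, Iso.inv_hom_id, NatTrans.rightDerived_id] } :
    _ ≅ _).app N

section Twist

variable {n : ℕ} (ι : X ⟶ CohB1.ProjSpace n A) [IsClosedImmersion ι]

omit [X.Over (Spec (CommRingCat.of A))] [IsClosedImmersion ι] in
theorem isInverseOf_tw (d : ℤ) :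
    ClSub.IsInverseOf ((Scheme.Modules.pullback ι).obj (Twist.twistProjSpace n A d))
      ((Scheme.Modules.pullback ι).obj (Twist.twistProjSpace n A (-d))) := by
  obtain ⟨e⟩ := Pn.isInverseOf_twist n A d
  obtain ⟨c, -⟩ := PicAux.exists_pullback_tensorMod ι (Twist.twistProjSpace n A d)
    (Twist.twistProjSpace n A (-d))
  obtain ⟨u⟩ := PicAux.pullback_structure_iso ι
  exact ⟨c.symm ≪≫ (Scheme.Modules.pullback ι).mapIso e ≪≫ u⟩

/-- `Ext^i(F, G(d)) = H⁰(X, ℰxt^i(F, G(d)))` for large `d`. -/
theorem exists_bound [IsNoetherianRing A] [HasExt.{u} X.Modules] (F G : X.Modules)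
    (hF : Coh.IsCoh F) (hG : Coh.IsCoh G) [ModSite.HasSheafHom (O := X.sheaf) F]
    [HasInjectiveResolutions (ModSite.Mod X.sheaf)] (i : ℕ) :
    ∃ d₀ : ℕ, ∀ d : ℕ, d₀ ≤ d →
      Nonempty (Ext F (CohB1.tensorMod G
          ((Scheme.Modules.pullback ι).obj (Twist.twistProjSpace n A (d : ℤ)))) i ≃ₗ[A]
        Coh.HH X ((ModSite.extSh (O := X.sheaf) F i).obj (CohB1.tensorMod G
          ((Scheme.Modules.pullback ι).obj (Twist.twistProjSpace n A (d : ℤ))))) 0) := by
  haveI := PnCoh.isLocallyNoetherian_projSpace n A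
  haveI : IsLocallyNoetherian X := LocallyOfFiniteType.isLocallyNoetherian ι
  haveI := CohTwo.LocFreeExt.hasSheafHom F
  haveI : (DCoh.sheafHom F).Additive := (DCoh.sheafHomAdj F).right_adjoint_additive
  haveI : HasInjectiveResolutions X.Modules := ‹HasInjectiveResolutions (ModSite.Mod X.sheaf)›
  haveI : (ModSite.sheafHom (O := X.sheaf) F : X.Modules ⥤ X.Modules).Additive :=
    ModSite.sheafHom_additive (O := X.sheaf) F
  let h := CohTwo.LocFreeExt.msIso (X := X) F
  let E : ∀ (l : ℕ) (N : X.Modules), (ModSite.extSh (O := X.sheaf) F l).obj N ≅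
      ((DCoh.sheafHom F).rightDerived l).obj N := fun l N =>
    ({ hom := NatTrans.rightDerived h.hom l
       inv := NatTrans.rightDerived h.inv l
       hom_inv_id := by rw [← NatTrans.rightDerived_comp, Iso.hom_inv_id, NatTrans.rightDerived_id]
       inv_hom_id := by rw [← NatTrans.rightDerived_comp, Iso.inv_hom_id, NatTrans.rightDerived_id] } :
      _ ≅ _).app N
  have hcoh : ∀ l, Coh.IsCoh (((DCoh.sheafHom F).rightDerived l).obj G) := fun l =>
    QCohMod.isCoh_of_iso (E l G) (SheafExt.isCoh_extSh F G hF hG l)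
  choose b hb using fun l => PnCoh.exists_subsingleton_twist_closed n A ι _ (hcoh l)
  refine ⟨(Finset.range i).sup fun l => (b l).toNat, fun d hd => ?_⟩
  obtain ⟨e⟩ := nonempty_ext_linearEquiv A F (CohB1.tensorMod G
    ((Scheme.Modules.pullback ι).obj (Twist.twistProjSpace n A (d : ℤ)))) i fun l hl => by
      obtain ⟨t⟩ := nonempty_rightDerived_twist (isInverseOf_tw A ι (d : ℤ)) F G l
      refine Acyclic.of_iso A (fun q => hb l d ?_ (q + 1) q.succ_pos) t.symm
      have : (b l).toNat ≤ d :=
        (Finset.le_sup (f := fun l => (b l).toNat) (Finset.mem_range.2 hl)).trans hd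
      omega
  exact ⟨e ≪≫ₗ EulerDeg.hEquiv A (E i _).symm 0⟩

end Twist

end Groth.Duality.ExtTwist
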