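import Mathlib.CategoryTheory.Abelian.RightDerived
import Mathlib.CategoryTheory.Abelian.Injective.Ext
import Mathlib.Algebra.Homology.HomologicalComplexAbelian
import Mathlib.Algebra.Homology.ShortComplex.ExactFunctor
import Mathlib.CategoryTheory.Adjunction.Additive

/-!
# The first nonzero derived functor of a right adjoint represents `Ext`
-/

set_option autoImplicit false

universe w v u v' u'

open CategoryTheory CategoryTheory.Limits CategoryTheory.Abelian HomologicalComplex

namespace Groth.Duality.FirstDerived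

variable {C : Type u} [Category.{v} C] [Abelian C]

section Complex

variable (K : CochainComplex C ℕ) (hK : ∀ q, Injective (K.X q))

include hK in
/-- A complex of injectives has regular differentials as long as it is exact. -/
theorem exists_regular (p : ℕ) (hex : ∀ q, q ≤ p → IsZero (K.homology q)) :
    ∃ e : K.X (p + 1) ⟶ K.X p, K.d p (p + 1) ≫ e ≫ K.d p (p + 1) = K.d p (p + 1) := by
  induction p with
  | zero =>
    have h : K.ExactAt 0 := (exactAt_iff_isZero_homology K 0).2 (hex 0 le_rfl)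
    have hmono : Mono (K.d 0 1) := by
      have h' := (exactAt_iff' K 0 0 1 (by simp) (by simp)).1 h
      exact h'.mono_g (K.shape _ _ (by simp))
    have := hK 0
    exact ⟨Injective.factorThru (𝟙 _) (K.d 0 1), by
      rw [← Category.assoc, Injective.comp_factorThru, Category.id_comp]⟩
  | succ p ih =>
    obtain ⟨e, he⟩ := ih fun q hq => hex q (hq.trans p.le_succ)
    have h' := (exactAt_iff' K p (p + 1) (p + 2) (by simp) (by simp)).1
      ((exactAt_iff_isZero_homology K (p + 1)).2 (hex (p + 1) le_rfl))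
    have hP : K.d p (p + 1) ≫ (𝟙 _ - e ≫ K.d p (p + 1)) = 0 := by
      rw [Preadditive.comp_sub, Category.comp_id, he, sub_self]
    have := hK (p + 1)
    obtain ⟨f, hc⟩ : ∃ f : K.X (p + 1 + 1) ⟶ K.X (p + 1), K.d (p + 1) (p + 1 + 1) ≫ f =
        𝟙 _ - e ≫ K.d p (p + 1) :=
      ⟨h'.descToInjective _ hP, h'.comp_descToInjective _ hP⟩
    refine ⟨f, ?_⟩
    rw [← Category.assoc, hc, Preadditive.sub_comp, Category.id_comp, Category.assoc, K.d_comp_d,
      comp_zero, sub_zero]

include hK in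
/-- The first homology is a direct summand of the cochains, modulo coboundaries. -/
theorem exists_section (p : ℕ) (hex : ∀ q, q ≤ p → IsZero (K.homology q)) :
    ∃ s : K.homology (p + 1) ⟶ K.X (p + 1), s ≫ K.d (p + 1) (p + 2) = 0 ∧
      (∀ (F : C) (z : F ⟶ K.X (p + 1)), z ≫ K.d (p + 1) (p + 2) = 0 →
        ∃ (φ : F ⟶ K.homology (p + 1)) (g : F ⟶ K.X p), g ≫ K.d p (p + 1) = z - φ ≫ s) ∧
      (∀ (F : C) (φ : F ⟶ K.homology (p + 1)) (g : F ⟶ K.X p),
        g ≫ K.d p (p + 1) = φ ≫ s → φ = 0) := by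
  obtain ⟨e, he⟩ := exists_regular K hK p hex
  let P : K.X (p + 1) ⟶ K.X (p + 1) := 𝟙 _ - e ≫ K.d p (p + 1)
  have hk : K.toCycles p (p + 1) ≫ K.iCycles (p + 1) ≫ P = 0 := by
    rw [toCycles_i_assoc]
    simp only [P, Preadditive.comp_sub, Category.comp_id, he, sub_self]
  let s : K.homology (p + 1) ⟶ K.X (p + 1) :=
    (K.homologyIsCokernel p (p + 1) (by simp)).desc (CokernelCofork.ofπ _ hk)
  have hs : K.homologyπ (p + 1) ≫ s = K.iCycles (p + 1) ≫ P :=
    (K.homologyIsCokernel p (p + 1) (by simp)).fac (CokernelCofork.ofπ _ hk) WalkingParallelPair.one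
  have hsd : s ≫ K.d (p + 1) (p + 2) = 0 := by
    rw [← cancel_epi (K.homologyπ (p + 1)), reassoc_of% hs, comp_zero]
    simp [P]
  have hid : K.liftCycles s (p + 2) (by simp) hsd ≫ K.homologyπ (p + 1) = 𝟙 _ := by
    rw [← cancel_epi (K.homologyπ (p + 1)), Category.comp_id, ← Category.assoc]
    have h1 : K.homologyπ (p + 1) ≫ K.liftCycles s (p + 2) (by simp) hsd =
        𝟙 _ - (K.iCycles (p + 1) ≫ e) ≫ K.toCycles p (p + 1) := by
      rw [← cancel_mono (K.iCycles (p + 1)), Category.assoc, liftCycles_i, hs]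
      simp [P, Preadditive.sub_comp]
    rw [h1, Preadditive.sub_comp, Category.id_comp, Category.assoc, toCycles_comp_homologyπ,
      comp_zero, sub_zero]
  refine ⟨s, hsd, fun F z hz => ⟨K.liftCycles z (p + 2) (by simp) hz ≫ K.homologyπ (p + 1), z ≫ e, ?_⟩,
    fun F φ g hg => ?_⟩
  · rw [Category.assoc, Category.assoc, hs, liftCycles_i_assoc]
    simp [P, Preadditive.comp_sub]
  · have h2 : φ ≫ K.liftCycles s (p + 2) (by simp) hsd = g ≫ K.toCycles p (p + 1) := by
      rw [← cancel_mono (K.iCycles (p + 1)), Category.assoc, Category.assoc, liftCycles_i, toCycles_i,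
        hg]
    rw [← Category.comp_id φ, ← hid, ← Category.assoc, h2, Category.assoc, toCycles_comp_homologyπ,
      comp_zero]

end Complex

variable {D : Type u'} [Category.{v'} D] [Abelian D] [HasExt.{w} D] [HasInjectiveResolutions D]
  (L : C ⥤ D) (R : D ⥤ C) (adj : L ⊣ R) [L.Additive] [R.Additive]

include adj in
/-- If `R^q G = 0` for `q < p + 1` then `R^{p+1} G` represents `F ↦ Ext^{p+1}(L F, G)`. -/
theorem exists_universal (hR : ∀ I : D, Injective I → Injective (R.obj I)) (G : D) (p : ℕ)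
    (hvan : ∀ q, q ≤ p → IsZero ((R.rightDerived q).obj G)) :
    ∃ u : Ext (L.obj ((R.rightDerived (p + 1)).obj G)) G (p + 1), ∀ F : C,
      Function.Bijective fun φ : F ⟶ (R.rightDerived (p + 1)).obj G =>
        (Ext.mk₀ (L.map φ)).comp u (zero_add (p + 1)) := by
  let I := injectiveResolution G
  let K := (R.mapHomologicalComplex (ComplexShape.up ℕ)).obj I.cocomplex
  have hK : ∀ q, Injective (K.X q) := fun q => hR _ (I.injective q)
  have hex : ∀ q, q ≤ p → IsZero (K.homology q) := fun q hq =>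
    (hvan q hq).of_iso (I.isoRightDerivedObj R q).symm
  obtain ⟨s, hsd, hsurj, hinj⟩ := exists_section K hK p hex
  let a : (R.rightDerived (p + 1)).obj G ≅ K.homology (p + 1) := I.isoRightDerivedObj R (p + 1)
  let T := fun (F : C) (z : F ⟶ K.X (p + 1)) => (adj.homEquiv F _).symm z
  have hT : ∀ (F : C) (z : F ⟶ K.X (p + 1)), z ≫ K.d (p + 1) (p + 2) = 0 →
      T F z ≫ I.cocomplex.d (p + 1) (p + 2) = 0 := fun F z hz => by
    refine (adj.homEquiv_naturality_right_symm z _).symm.trans ?_
    exact (congrArg _ hz).trans ((adj.homAddEquiv F _).symm.map_zero)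
  have hcl : (a.hom ≫ s) ≫ K.d (p + 1) (p + 2) = 0 := by rw [Category.assoc, hsd, comp_zero]
  let u := I.extMk (T _ (a.hom ≫ s)) (p + 2) rfl (hT _ _ hcl)
  refine ⟨u, fun F => ?_⟩
  have hcomp : ∀ φ : F ⟶ (R.rightDerived (p + 1)).obj G,
      (Ext.mk₀ (L.map φ)).comp u (zero_add (p + 1)) =
        I.extMk (T F ((φ ≫ a.hom) ≫ s)) (p + 2) rfl
          (hT _ _ (by rw [Category.assoc, hsd, comp_zero])) := fun φ => by
    rw [InjectiveResolution.mk₀_comp_extMk]
    congr 1
    rw [Category.assoc]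
    exact (adj.homEquiv_naturality_left_symm φ (a.hom ≫ s)).symm
  constructor
  · intro φ ψ h
    let g₀ : Ext (L.obj F) G (p + 1) := (Ext.mk₀ (L.map (φ - ψ))).comp u (zero_add (p + 1))
    have hg₀ : g₀ = 0 := by
      have h' : (Ext.mk₀ (L.map φ)).comp u (zero_add (p + 1)) =
          (Ext.mk₀ (L.map ψ)).comp u (zero_add (p + 1)) := h
      change (Ext.mk₀ (L.map (φ - ψ))).comp u (zero_add (p + 1)) = 0
      rw [show Ext.mk₀ (L.map (φ - ψ)) = Ext.mk₀ (L.map φ) + -Ext.mk₀ (L.map ψ) by
        rw [L.map_sub, ← sub_eq_add_neg]; exact map_sub Ext.addEquiv₀.symm _ _,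
        Ext.add_comp, Ext.neg_comp, h', add_neg_cancel]
    have h0 := (hcomp (φ - ψ)).symm.trans hg₀
    obtain ⟨g, hg⟩ := (I.extMk_eq_zero_iff _ _ _ _ p rfl).1 h0
    have e := hinj F ((φ - ψ) ≫ a.hom) (adj.homEquiv F _ g) <| by
      refine ((adj.homEquiv_naturality_right g (I.cocomplex.d p (p + 1))).symm).trans ?_
      rw [hg]
      exact (adj.homEquiv F _).apply_symm_apply _
    exact sub_eq_zero.1 ((cancel_mono a.hom).1 (e.trans zero_comp.symm))
  · intro x
    obtain ⟨f, hf, rfl⟩ := I.extMk_surjective x (p + 2) rfl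
    let z : F ⟶ K.X (p + 1) := adj.homEquiv F _ f
    have hz : z ≫ K.d (p + 1) (p + 2) = 0 :=
      ((adj.homEquiv_naturality_right f (I.cocomplex.d (p + 1) (p + 2))).symm).trans
        ((congrArg _ hf).trans ((adj.homAddEquiv F _).map_zero))
    obtain ⟨φ, g, hg⟩ := hsurj F _ hz
    refine ⟨φ ≫ a.inv, ?_⟩
    change (Ext.mk₀ (L.map (φ ≫ a.inv))).comp u (zero_add (p + 1)) = _
    rw [hcomp, eq_comm]
    refine sub_eq_zero.1 ?_
    have hsub : T F (z - φ ≫ s) =
        f - T F (((φ ≫ a.inv) ≫ a.hom) ≫ s) := by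
      rw [Category.assoc φ, Iso.inv_hom_id, Category.comp_id]
      exact ((adj.homAddEquiv F _).symm.map_sub _ _).trans
        (congrArg (· - T F (φ ≫ s)) ((adj.homEquiv F _).symm_apply_apply f))
    rw [InjectiveResolution.sub_extMk]
    refine (I.extMk_eq_zero_iff _ _ _ _ p rfl).2 ⟨(adj.homEquiv F _).symm g, ?_⟩
    rw [← hsub, ← hg]
    exact (adj.homEquiv_naturality_right_symm g _).symm

include adj in
/-- The general form: `R^q G = 0` for `q < p` makes `R^p G` represent `F ↦ Ext^p(L F, G)`. -/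
theorem exists_universal' (hR : ∀ I : D, Injective I → Injective (R.obj I)) (G : D) (p : ℕ)
    (hvan : ∀ q, q < p → IsZero ((R.rightDerived q).obj G)) :
    ∃ u : Ext (L.obj ((R.rightDerived p).obj G)) G p, ∀ F : C,
      Function.Bijective fun φ : F ⟶ (R.rightDerived p).obj G =>
        (Ext.mk₀ (L.map φ)).comp u (zero_add p) := by
  rcases p with _ | p
  · have : PreservesFiniteLimits R :=
      ⟨fun J _ _ => adj.rightAdjoint_preservesLimits.preservesLimitsOfShape⟩
    let a := R.rightDerivedZeroIsoSelf.app G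
    refine ⟨Ext.mk₀ (L.map a.hom ≫ adj.counit.app G), fun F => ?_⟩
    have h : (fun φ : F ⟶ (R.rightDerived 0).obj G =>
        (Ext.mk₀ (L.map φ)).comp (Ext.mk₀ (L.map a.hom ≫ adj.counit.app G)) (zero_add 0)) =
        Ext.mk₀ ∘ (adj.homEquiv F G).symm ∘ (fun φ => φ ≫ a.hom) := by
      funext φ
      simp only [Function.comp_apply, Ext.mk₀_comp_mk₀, Adjunction.homEquiv_counit, L.map_comp,
        Category.assoc]
    rw [h]
    exact (Ext.mk₀_bijective _ _).comp ((adj.homEquiv F G).symm.bijective.comp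
      (Iso.homToEquiv a).bijective)
  · exact exists_universal L R adj hR G p fun q hq => hvan q (Nat.lt_succ_of_le hq)

end Groth.Duality.FirstDerived
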