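import Groth.Agent.Duality.GenericZero
import Groth.Agent.RefRank.EmbeddedPoints
import Groth.Agent.VarietyBC.AffineNhd
import Groth.Agent.QCohMod.OpenSupport

/-!
# A dualizing sheaf on a reduced equidimensional scheme is torsion free
-/

set_option autoImplicit false
set_option backward.isDefEq.respectTransparency false

universe u

open CategoryTheory CategoryTheory.Limits AlgebraicGeometry TopologicalSpace Opposite

noncomputable section

namespace Groth.Duality.TorsionFree

open Groth.QCohMod (germ germ_res germ_smul exists_germ res)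
open Groth.SchemeMorphisms (stalkSub)

variable {X : Scheme.{u}}

theorem eq_of_specializes_generic {η : X} (hη : closure ({η} : Set ↥X) ∈ irreducibleComponents ↥X)
    (z : X) (hz : z ⤳ η) : z = η := by
  have hsub : closure ({η} : Set ↥X) ⊆ closure ({z} : Set ↥X) :=
    closure_minimal (Set.singleton_subset_iff.2 hz.mem_closure) isClosed_closure
  exact (hz.antisymm (specializes_iff_mem_closure.2
    (hη.2 isIrreducible_singleton.closure hsub (subset_closure rfl)))).eq

theorem isField_stalk_generic [IsReduced X] {η : X}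
    (hη : closure ({η} : Set ↥X) ∈ irreducibleComponents ↥X) : IsField (X.presheaf.stalk η) :=
  VarietyBC.AffineNhd.isField_stalk (eq_of_specializes_generic hη)

variable (M : X.Modules)

/-- The generic points of the components. -/
def genericSet (X : Scheme.{u}) : Set X :=
  {η | closure ({η} : Set ↥X) ∈ irreducibleComponents ↥X}

theorem finite_genericSet [NoetherianSpace X] : (genericSet X).Finite := by
  refine Set.Finite.of_finite_image
    (NoetherianSpace.finite_irreducibleComponents.subset (Set.image_subset_iff.2 fun η hη => hη)) ?_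
  intro a _ b _ h
  exact (Inseparable.eq (inseparable_iff_closure_eq.2 h))

variable {k : Type u} [Field k] [X.Over (Spec (CommRingCat.of k))] {d : ℕ}
  (t : Coh.HH X M d →ₗ[k] k)

theorem germ_eq_zero_of_generic [IsReduced X] [AlgebraicGeometry.IsNoetherian X]
    (ht : DualPair.IsDualizing t) (hM : Coh.IsCoh M)
    (heq : ∀ Z : Set ↥X, Z ∈ irreducibleComponents ↥X → topologicalKrullDim ↥Z = (d : WithBot ℕ∞))
    {U : X.Opens} (s : Γ(M, U))
    (hs : ∀ η ∈ genericSet X, ∀ h : η ∈ U, germ M η h s = 0) (x : X) (hx : x ∈ U) :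
    germ M x hx s = 0 := by
  have := hM.1
  have : NoetherianSpace ↥X := inferInstance
  let G := stalkSub M (genericSet X) fun _ => ⊥
  have hG : Coh.IsCoh G.toMod :=
    RefRank.Embedded.isCoh_stalkSub_locFinite hM
      (fun A _ => finite_genericSet.subset Set.inter_subset_left) fun η hη a ha z => ⟨1, by
        have hf := (IsLocalRing.isField_iff_maximalIdeal_eq.1 (isField_stalk_generic hη))
        rw [hf, Submodule.mem_bot] at ha
        rw [ha, pow_one, zero_smul]
        exact zero_mem _⟩
  have hι : G.ι = 0 := GenericZero.eq_zero_of_zero_near_generic t ht hM heq hG G.ι fun η hη => by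
    have hns : η ∉ CohB1.support G.toMod := by
      intro h
      apply h
      have hinj := (QCohMod.mono_iff_stalk G.ι).1 inferInstance η
      refine ⟨fun a b => hinj ?_⟩
      obtain ⟨V, hV, g, rfl⟩ := exists_germ G.toMod η a
      obtain ⟨V', hV', g', rfl⟩ := exists_germ G.toMod η b
      refine (QCohMod.stalk_map_germ G.ι η hV g).trans
        (Eq.trans ?_ (QCohMod.stalk_map_germ G.ι η hV' g').symm)
      exact ((Submodule.mem_bot _).1 (g.2 η hη hV)).trans ((Submodule.mem_bot _).1 (g'.2 η hη hV')).symm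
    refine ⟨⟨(CohB1.support G.toMod)ᶜ, (CohTwo.isClosed_support _ hG).isOpen_compl⟩, hns, ?_⟩
    refine IsZero.eq_of_src ?_ _ _
    refine (QCohMod.isZero_restrict_iff_stalk _ _).2 fun z hz => ?_
    exact @AddCommGrpCat.isZero_of_subsingleton _ (not_not.1 hz)
  obtain ⟨g, hg⟩ := G.exists_ι_app_eq s
    (show s ∈ G.mem U from fun η hη h => (Submodule.mem_bot _).2 (hs η hη h))
  have h0 : s = 0 := hg.symm.trans (by rw [hι]; rfl)
  rw [h0, map_zero]

theorem torsion_eq_bot [IsReduced X] [AlgebraicGeometry.IsNoetherian X]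
    (ht : DualPair.IsDualizing t) (hM : Coh.IsCoh M)
    (heq : ∀ Z : Set ↥X, Z ∈ irreducibleComponents ↥X → topologicalKrullDim ↥Z = (d : WithBot ℕ∞))
    (x : X) : Submodule.torsion (X.presheaf.stalk x) (M.presheaf.stalk x) = ⊥ := by
  classical
  have := hM.1
  refine (Submodule.eq_bot_iff _).2 fun m hm => ?_
  obtain ⟨⟨α, hα⟩, ham⟩ := (Submodule.mem_torsion_iff m).1 hm
  change α • m = 0 at ham
  obtain ⟨W, hxW, s, rfl⟩ := exists_germ M x m
  obtain ⟨V, hxV, a, rfl⟩ := TopCat.Presheaf.exists_germ_eq X.presheaf α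
  obtain ⟨U, hU, hxU, hUV⟩ := exists_isAffineOpen_mem_and_subset (x := x) (U := W ⊓ V) ⟨hxW, hxV⟩
  have hUW : U ≤ W := fun z hz => (hUV hz).1
  have hUV' : U ≤ V := fun z hz => (hUV hz).2
  rw [← germ_res M hUW x hxU s]
  rw [← germ_res M hUW x hxU s,
    ← TopCat.Presheaf.germ_res_apply X.presheaf (homOfLE hUV') x hxU a, ← germ_smul] at ham
  rw [← TopCat.Presheaf.germ_res_apply X.presheaf (homOfLE hUV') x hxU a] at hα
  set s' := res M hUW s
  set a' : Γ(X, U) := X.presheaf.map (homOfLE hUV').op a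
  obtain ⟨b, hb, hb0⟩ := QCohMod.exists_smul_eq_zero_of_germ_eq_zero M hU x hxU _ ham
  rw [smul_smul] at hb0
  have hbu : IsUnit (X.presheaf.germ U x hxU b) := (Scheme.mem_basicOpen X b x hxU).mp hb
  have hα' : X.presheaf.germ U x hxU (b * a') ∈ nonZeroDivisors (X.presheaf.stalk x) := by
    rw [map_mul]
    exact mul_mem hbu.mem_nonZeroDivisors hα
  set α' := b * a'
  let S : Finset X := ((finite_genericSet (X := X)).subset
    (Set.inter_subset_left : genericSet X ∩ {η | η ∈ U ∧ ¬ η ⤳ x} ⊆ genericSet X)).toFinset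
  have hsep : ∀ η : X, η ∈ S → ∃ c : Γ(X, U), IsUnit (X.presheaf.germ U x hxU c) ∧
      ∀ h : η ∈ U, ¬ IsUnit (X.presheaf.germ U η h c) := fun η hη => by
    obtain ⟨-, hηU, hsp⟩ := (Set.Finite.mem_toFinset _).1 hη
    have hle : ¬ (hU.primeIdealOf ⟨η, hηU⟩).asIdeal ≤ (hU.primeIdealOf ⟨x, hxU⟩).asIdeal :=
      fun h => hsp ((FlatMorOne.primeIdealOf_le_iff_specializes hU _ _).1 h)
    obtain ⟨c, hc, hc'⟩ := SetLike.not_le_iff_exists.1 hle
    refine ⟨c, (Scheme.mem_basicOpen X c x hxU).mp
      ((QCohMod.mem_basicOpen_iff_notMem_primeIdealOf hU c x hxU).2 hc'), fun h hu => ?_⟩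
    exact (QCohMod.mem_basicOpen_iff_notMem_primeIdealOf hU c η h).1
      ((Scheme.mem_basicOpen X c η h).mpr hu) hc
  choose c hcx hcη using hsep
  let γ : Γ(X, U) := ∏ η ∈ S.attach, c η.1 η.2
  have hγ : IsUnit (X.presheaf.germ U x hxU γ) := by
    rw [map_prod]
    exact IsUnit.prod_iff.2 fun η _ => hcx _ _
  have hkey : ∀ η ∈ genericSet X, ∀ h : η ∈ U, germ M η h (γ • s') = 0 := fun η hη h => by
    let _ : Field (X.presheaf.stalk η) := (isField_stalk_generic hη).toField
    rw [germ_smul]
    by_cases hsp : η ⤳ x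
    · have hne : X.presheaf.germ U η h α' ≠ 0 := fun h0 => by
        let _ : Algebra Γ(X, U) (X.presheaf.stalk η) := X.presheaf.algebra_section_stalk ⟨η, h⟩
        let _ : Algebra Γ(X, U) (X.presheaf.stalk x) := X.presheaf.algebra_section_stalk ⟨x, hxU⟩
        have : IsLocalization.AtPrime (X.presheaf.stalk η) (hU.primeIdealOf ⟨η, h⟩).asIdeal :=
          hU.isLocalization_stalk ⟨η, h⟩
        have : IsLocalization.AtPrime (X.presheaf.stalk x) (hU.primeIdealOf ⟨x, hxU⟩).asIdeal :=
          hU.isLocalization_stalk ⟨x, hxU⟩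
        obtain ⟨⟨e, he⟩, hea⟩ := (IsLocalization.map_eq_zero_iff
          (hU.primeIdealOf ⟨η, h⟩).asIdeal.primeCompl (X.presheaf.stalk η) α').1 h0
        have h1 : X.presheaf.germ U x hxU e = 0 := by
          refine (mem_nonZeroDivisors_iff.1 hα').2 _ ?_
          rw [← map_mul, hea, map_zero]
        obtain ⟨⟨g, hg⟩, hge⟩ := (IsLocalization.map_eq_zero_iff
          (hU.primeIdealOf ⟨x, hxU⟩).asIdeal.primeCompl (X.presheaf.stalk x) e).1 h1
        have hgp : g * e ∈ (hU.primeIdealOf ⟨η, h⟩).asIdeal := hge ▸ zero_mem _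
        rcases (hU.primeIdealOf ⟨η, h⟩).2.mem_or_mem hgp with h2 | h2
        · exact hg ((FlatMorOne.primeIdealOf_le_iff_specializes hU ⟨η, h⟩ ⟨x, hxU⟩).2 hsp h2)
        · exact he h2
      have hz : germ M η h s' = 0 := by
        have e : X.presheaf.germ U η h α' • germ M η h s' = 0 := by
          rw [← germ_smul, hb0, map_zero]
        exact (smul_eq_zero.1 e).resolve_left hne
      rw [hz, smul_zero]
    · have hmem : η ∈ S := (Set.Finite.mem_toFinset _).2 ⟨hη, h, hsp⟩
      have hz : X.presheaf.germ U η h (c η hmem) = 0 := by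
        by_contra hne
        exact hcη η hmem h (isUnit_iff_ne_zero.2 hne)
      rw [map_prod, Finset.prod_eq_zero (Finset.mem_attach S ⟨η, hmem⟩) hz, zero_smul]
  have h := germ_eq_zero_of_generic M t ht hM heq (γ • s') hkey x hxU
  rw [germ_smul] at h
  exact hγ.smul_eq_zero.1 h

end Groth.Duality.TorsionFree
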