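import Groth.Agent.Duality.DualPair
import Groth.Agent.Duality.SupportVanish
import Groth.Agent.QCohMod.Coherent
import Groth.Agent.Variety2.DimScheme

/-!
# Morphisms to a dualizing sheaf are determined at the generic points
-/

set_option autoImplicit false
set_option backward.isDefEq.respectTransparency false

universe u

open CategoryTheory CategoryTheory.Limits AlgebraicGeometry TopologicalSpace

noncomputable section

namespace Groth.Duality.GenericZero

variable {k : Type u} [Field k] {X : Scheme.{u}} [X.Over (Spec (CommRingCat.of k))] {ω : X.Modules}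
  {d : ℕ} (t : Coh.HH X ω d →ₗ[k] k)

theorem eq_zero_of_subsingleton (ht : DualPair.IsDualizing t) {G : X.Modules} (hG : Coh.IsCoh G)
    [Subsingleton (Coh.HH X G d)] (φ : G ⟶ ω) : φ = 0 := by
  obtain ⟨χ, -, hu⟩ := ht G hG 0
  have key : ∀ ψ : G ⟶ ω, ψ = χ := fun ψ => hu ψ fun x => by
    rw [Subsingleton.elim x 0]
    simp
  exact (key φ).trans (key 0).symm

/-- A morphism that is zero near every generic point of an equidimensional scheme is zero. -/
theorem eq_zero_of_zero_near_generic [AlgebraicGeometry.IsNoetherian X] (ht : DualPair.IsDualizing t)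
    (hω : Coh.IsCoh ω)
    (heq : ∀ Z : Set ↥X, Z ∈ irreducibleComponents ↥X → topologicalKrullDim ↥Z = (d : WithBot ℕ∞))
    {F : X.Modules} (hF : Coh.IsCoh F) (φ : F ⟶ ω)
    (hφ : ∀ x : X, closure ({x} : Set ↥X) ∈ irreducibleComponents ↥X →
      ∃ U : X.Opens, x ∈ U ∧ (Scheme.Modules.restrictFunctor U.ι).map φ = 0) :
    φ = 0 := by
  have := hF.1
  have := hω.1
  let G := cokernel (kernel.ι φ)
  have hK : Coh.IsCoh (kernel φ) := QCohMod.isCoh_kernel φ hF
  have := hK.1
  have hG : Coh.IsCoh G := QCohMod.isCoh_cokernel (kernel.ι φ) hF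
  let W : X.Opens := ⨆ U : {U : X.Opens // (Scheme.Modules.restrictFunctor U.ι).map φ = 0}, U.1
  have hst : ∀ x ∈ W, (QCohMod.stalk x).map φ = 0 := fun x hx => by
    obtain ⟨U, hxU⟩ := Opens.mem_iSup.1 hx
    have h := congrArg (fun f => (Scheme.Modules.toPresheaf (U.1 : Scheme.{u}) ⋙
      TopCat.Presheaf.stalkFunctor AddCommGrpCat.{u} (⟨x, hxU⟩ : U.1.toScheme)).map f) U.2
    have n := (Scheme.Modules.restrictStalkNatIso U.1.ι ⟨x, hxU⟩).hom.naturality φ
    simp only [Functor.map_zero] at h
    rw [← cancel_epi ((Scheme.Modules.restrictStalkNatIso U.1.ι ⟨x, hxU⟩).hom.app F), comp_zero]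
    refine n.symm.trans ?_
    change (Scheme.Modules.toPresheaf (U.1 : Scheme.{u}) ⋙
      TopCat.Presheaf.stalkFunctor AddCommGrpCat.{u} (⟨x, hxU⟩ : U.1.toScheme)).map
        ((Scheme.Modules.restrictFunctor U.1.ι).map φ) ≫ _ = 0
    rw [h, zero_comp]
  have hGst : ∀ x ∈ W, IsZero ((QCohMod.stalk x).obj G) := fun x hx => by
    let i : G ⟶ ω := Abelian.coimageImageComparison φ ≫ Abelian.image.ι φ
    have hi : cokernel.π (kernel.ι φ) ≫ i = φ := Abelian.coimage_image_factorisation φ
    have : Mono i := mono_comp _ _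
    have : Mono ((QCohMod.stalk x).map i) :=
      (AddCommGrpCat.mono_iff_injective _).2 ((QCohMod.mono_iff_stalk i).1 inferInstance x)
    have : Epi ((QCohMod.stalk x).map (cokernel.π (kernel.ι φ))) :=
      (AddCommGrpCat.epi_iff_surjective _).2
        ((QCohMod.epi_iff_stalk (cokernel.π (kernel.ι φ))).1 inferInstance x)
    refine IsZero.of_epi_eq_zero ((QCohMod.stalk x).map (cokernel.π (kernel.ι φ))) ?_
    rw [← cancel_mono ((QCohMod.stalk x).map i), ← Functor.map_comp, hi, hst x hx, zero_comp]
  have hgen : ∀ η : X, closure ({η} : Set ↥X) ∈ irreducibleComponents ↥X → η ∈ W := fun η hη => by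
    obtain ⟨U, hηU, hU⟩ := hφ η hη
    exact Opens.mem_iSup.2 ⟨⟨U, hU⟩, hηU⟩
  have hheight : ∀ x : X, x ∉ W → ∀ n : ℕ, Order.height x = n → n < d := fun x hx n hn => by
    obtain ⟨Z, hZ, hsub⟩ := exists_mem_irreducibleComponents_subset_of_isIrreducible _
      (isIrreducible_singleton (x := x))
    have hcl := isClosed_of_mem_irreducibleComponents Z hZ
    obtain ⟨η, hη⟩ := QuasiSober.sober hZ.1 hcl
    have hd := heq Z hZ
    rw [← hη, Variety2.Dim.dim_closure_singleton] at hd
    have hsp : η ⤳ x := hη.specializes (hsub rfl)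
    have hne : x ≠ η := fun e => hx (e ▸ hgen η (hη.symm ▸ hZ))
    have hlt : x < η := lt_of_le_not_ge (Scheme.le_iff_specializes.2 hsp) fun h =>
      hne ((Scheme.le_iff_specializes.1 h).antisymm hsp).eq
    have h := Order.height_strictMono hlt (by rw [hn]; exact ENat.natCast_lt_top n)
    rw [WithBot.coe_injective hd, hn] at h
    exact_mod_cast h
  suffices hz : Subsingleton (Coh.HH X G d) by
    let i : G ⟶ ω := Abelian.coimageImageComparison φ ≫ Abelian.image.ι φ
    have hi : cokernel.π (kernel.ι φ) ≫ i = φ := Abelian.coimage_image_factorisation φ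
    rw [← hi, eq_zero_of_subsingleton t ht hG i, comp_zero]
  have hsupp : CohB1.support G ⊆ (W : Set X)ᶜ := fun x hx hxW =>
    hx (AddCommGrpCat.subsingleton_of_isZero (hGst x hxW))
  rcases d with _ | e
  · have hzero : IsZero G := (QCohMod.isZero_iff_stalk G).2 fun x => hGst x (by
      by_contra hx
      have : Order.height x = 0 ∨ 0 < Order.height x := (eq_zero_or_pos _)
      rcases this with h | h
      · exact absurd (hheight x hx 0 h) (lt_irrefl 0)
      · obtain ⟨Z, hZ, hsub⟩ := exists_mem_irreducibleComponents_subset_of_isIrreducible _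
          (isIrreducible_singleton (x := x))
        obtain ⟨η, hη⟩ := QuasiSober.sober hZ.1 (isClosed_of_mem_irreducibleComponents Z hZ)
        have hd := heq Z hZ
        rw [← hη, Variety2.Dim.dim_closure_singleton] at hd
        have hle : Order.height x ≤ Order.height η :=
          Order.height_mono (Scheme.le_iff_specializes.2 (hη.specializes (hsub rfl)))
        rw [WithBot.coe_injective hd] at hle
        exact absurd (h.trans_le hle) (by simp))
    exact Sheaf.subsingleton_H_of_isZero ((SheafOfModules.toSheaf X.ringCatSheaf).map_isZero hzero) 0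
  · refine SupportVanish.subsingleton_HH_of_support G W.isOpen.isClosed_compl ?_ hsupp e.lt_succ_self
    rw [Variety2.Dim.dim_closed W.isOpen.isClosed_compl]
    refine iSup₂_le fun x hx => ?_
    rcases eq_or_ne (Order.height x) ⊤ with h | h
    · exfalso
      obtain ⟨Z, hZ, hsub⟩ := exists_mem_irreducibleComponents_subset_of_isIrreducible _
        (isIrreducible_singleton (x := x))
      obtain ⟨η, hη⟩ := QuasiSober.sober hZ.1 (isClosed_of_mem_irreducibleComponents Z hZ)
      have hd := heq Z hZ
      rw [← hη, Variety2.Dim.dim_closure_singleton] at hd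
      have hle : Order.height x ≤ Order.height η :=
        Order.height_mono (Scheme.le_iff_specializes.2 (hη.specializes (hsub rfl)))
      rw [WithBot.coe_injective hd, h, top_le_iff] at hle
      exact ENat.natCast_ne_top _ hle
    · obtain ⟨n, hn⟩ := ENat.ne_top_iff_exists.1 h
      have := hheight x hx n hn.symm
      rw [← hn]
      exact_mod_cast Nat.lt_succ_iff.1 this

end Groth.Duality.GenericZero
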