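import Groth.Agent.Duality.PnMulPoly
import Groth.Agent.PnCoh.Finite

/-!
# The pairing `Hom(O(a), ω) × Hⁿ(O(a)) → R` on projective space is perfect
-/

set_option autoImplicit false

universe u

open CategoryTheory AlgebraicGeometry Opposite TopologicalSpace
open Groth.PnCoh

noncomputable section

namespace Groth.Duality.Pn

variable {n : ℕ} {R : Type u} [CommRing R]

/-- The map on cohomology induced by a morphism of modules. -/
abbrev hmap {X : Scheme.{u}} {M N : X.Modules} (φ : M ⟶ N) (p : ℕ) (h : Coh.HH X M p) :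
    Coh.HH X N p :=
  Sheaf.H.map ((SheafOfModules.toSheaf X.ringCatSheaf).map φ) p h

theorem classMap_natural {a b : ℤ} {k : ℕ} {f : MvPolynomial (Fin (n + 1)) R}
    (hf : f ∈ CohB1.polyGrading n R k) (hd : b = a + k) (p : ℕ) (z : cocyclesL n R a p) :
    ∃ w : cocyclesL n R b p,
      hmap (X := CohB1.ProjSpace n R) (M := Twist.twistProjSpace n R a)
        (N := Twist.twistProjSpace n R b) (mulEl (CohB1.polyGrading n R) hf hd) p (classMap a p z) =
        classMap b p w ∧
      ∀ x, w.1 x = (toL n R f * AddMonoidAlgebra.ofCoeff (z.1 x)).coeff := by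
  obtain ⟨v, rfl⟩ := (psiCocycle_bijective (n := n) (R := R) (d := a) p).2 z
  let μ : Coh.toAb (Twist.twistProjSpace n R a) ⟶ Coh.toAb (Twist.twistProjSpace n R b) :=
    (SheafOfModules.toSheaf (CohB1.ProjSpace n R).ringCatSheaf).map
      (mulEl (CohB1.polyGrading n R) hf hd)
  have := (Finite.of_fintype (Idx.{u} n))
  refine ⟨psiCocycle p (mapCocycle μ.hom p v), ?_, fun x => ?_⟩
  · rw [classMap_psiCocycle, classMap_psiCocycle]
    exact (cohClass_map (isAcyclicCover_stdOpen n R) μ p v).symm
  · exact psi_mulEl hf hd x (v.1 x : Sect (R := R) a x)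

theorem classMap_sub_eq_zero_iff {d : ℤ} {p : ℕ} (z z' : cocyclesL n R d p) :
    classMap d p (z - z') = 0 ↔ classMap d p z = classMap d p z' := by
  have e : classMap d p z = classMap d p (z - z') + classMap d p z' := by
    rw [← map_add]
    exact congrArg (classMap d p) (Subtype.ext (sub_add_cancel z.1 z'.1).symm)
  rw [e, add_eq_right]

variable (n R) in
/-- A cocycle in top degree which bounds has no exponents negative in all entries. -/
theorem std_eq_zero_of_classMap_eq_zero {d : ℤ} (hd : d < 0) (z : cocyclesL n R d n)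
    (hz : classMap d n z = 0) (c : Idx.{u} n → ℤ) (hc : ∀ i, c i < 0) :
    z.1 (stdTuple n) c = 0 := by
  rcases Nat.eq_zero_or_pos n with hn | hn
  · subst hn
    rw [show z = 0 from classMap_injective_zero d (hz.trans (map_zero _).symm)]
    rfl
  · obtain ⟨p, rfl⟩ : ∃ p, n = p + 1 := ⟨n - 1, by omega⟩
    obtain ⟨t, ht, hdt⟩ := (classMap_eq_zero_iff p z).mp hz
    rw [← hdt, Combinat.dL_apply, Finsupp.finsetSum_apply]
    refine Finset.sum_eq_zero fun b _ => ?_
    rw [Finsupp.smul_apply]
    refine smul_eq_zero_of_right _ (by_contra fun hne => ?_)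
    have := Fintype.card_le_of_surjective _ (Combinat.surjective_of_bad ht hc hne)
    simp at this

variable (n R) in
/-- The coefficient of a cocycle at an exponent, on the standard tuple. -/
def stdCoeff (d : ℤ) (c : Idx.{u} n → ℤ) : cocyclesL n R d n →ₗ[R] R where
  toFun z := z.1 (stdTuple n) c
  map_add' _ _ := rfl
  map_smul' _ _ := rfl

variable (n R) in
theorem exists_coeffAt {d : ℤ} (hd : d < 0) (c : Idx.{u} n → ℤ) (hc : ∀ i, c i < 0) :
    ∃ l : Coh.HH (CohB1.ProjSpace n R) (Twist.twistProjSpace n R d) n →ₗ[R] R,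
      ∀ z : cocyclesL n R d n, l (classMap d n z) = z.1 (stdTuple n) c := by
  have hs := classMap_surjective (n := n) (R := R) d n
  have key : ∀ z z' : cocyclesL n R d n, classMap d n z = classMap d n z' →
      stdCoeff n R d c z = stdCoeff n R d c z' := fun z z' h => by
    rw [← sub_eq_zero, ← map_sub]
    refine std_eq_zero_of_classMap_eq_zero n R hd (z - z') ?_ c hc
    exact (classMap_sub_eq_zero_iff z z').mpr h
  refine ⟨{ toFun := fun h => stdCoeff n R d c (Function.surjInv hs h)
            map_add' := fun a b => ?_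
            map_smul' := fun r a => ?_ }, fun z => key _ _ (Function.surjInv_eq hs _)⟩
  · rw [← map_add (stdCoeff n R d c)]
    exact key _ _ (by simp only [map_add, Function.surjInv_eq hs])
  · rw [RingHom.id_apply, ← map_smul (stdCoeff n R d c)]
    exact key _ _ (by simp only [map_smul, Function.surjInv_eq hs])

variable (n R) in
theorem exists_trace :
    ∃ t : Coh.HH (CohB1.ProjSpace n R) (Twist.twistProjSpace n R (-((n : ℤ) + 1))) n →ₗ[R] R,
      ∀ z : cocyclesL n R (-((n : ℤ) + 1)) n,
        t (classMap _ n z) = z.1 (stdTuple n) (fun _ => -1) :=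
  exists_coeffAt n R (by omega) _ fun _ => by norm_num

variable (n R) in
/-- The trace `Hⁿ(O(-n-1)) → R`: the coefficient of `1 / (x₀ ⋯ xₙ)`. -/
def trace : Coh.HH (CohB1.ProjSpace n R) (Twist.twistProjSpace n R (-((n : ℤ) + 1))) n →ₗ[R] R :=
  (exists_trace n R).choose

theorem trace_classMap (z : cocyclesL n R (-((n : ℤ) + 1)) n) :
    trace n R (classMap _ n z) = z.1 (stdTuple n) (fun _ => -1) :=
  (exists_trace n R).choose_spec z

/-- The pairing in coordinates. -/
theorem trace_hmap_mulEl {a : ℤ} {k : ℕ} {f : MvPolynomial (Fin (n + 1)) R}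
    (hf : f ∈ CohB1.polyGrading n R k) (hd : -((n : ℤ) + 1) = a + k) (z : cocyclesL n R a n) :
    trace n R (hmap (X := CohB1.ProjSpace n R) (M := Twist.twistProjSpace n R a)
      (N := Twist.twistProjSpace n R (-((n : ℤ) + 1))) (mulEl (CohB1.polyGrading n R) hf hd) n
        (classMap a n z)) =
      ∑ b ∈ f.support, f.coeff b * z.1 (stdTuple n) (negExp b) := by
  obtain ⟨w, hw, hwv⟩ := classMap_natural hf hd n z
  rw [hw, trace_classMap, hwv]
  conv_lhs => rw [f.as_sum, map_sum, Finset.sum_mul, AddMonoidAlgebra.coeff_sum,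
    Finsupp.finsetSum_apply]
  refine Finset.sum_congr rfl fun b _ => ?_
  rw [toL_monomial, AddMonoidAlgebra.coeff_single_mul_eq_mul_coeff (negExp b) (fun m _ => ?_)]
  constructor
  · intro h
    funext i
    have h' := congrFun h i
    simp only [Pi.add_apply, expHom_apply, negExp] at h' ⊢
    omega
  · rintro rfl
    funext i
    simp only [Pi.add_apply, expHom_apply, negExp]
    omega

theorem exists_hTop_eq {a : ℤ} {k : ℕ} (hd : a = -((n : ℤ) + 1 + k))
    (h : Coh.HH (CohB1.ProjSpace n R) (Twist.twistProjSpace n R a) n) :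
    ∃ (m : MvPolynomial (Fin (n + 1)) R) (z : cocyclesL n R a n),
      m ∈ MvPolynomial.homogeneousSubmodule (Fin (n + 1)) R k ∧ classMap a n z = h ∧
      ∀ b, z.1 (stdTuple n) (negExp b) = m.coeff b := by
  subst hd
  obtain ⟨m, rfl⟩ := (classMap_topMap_bijective (n := n) (R := R) k).2 h
  refine ⟨m.1, topMap k m, m.2, rfl, fun b => ?_⟩
  change (Combinat.topCocycle (stdTuple n) (negMap n R m.1)) (stdTuple n) (negExp b) = _
  rw [Combinat.topCocycle, Combinat.detTuple_self, one_smul, negMap_apply,
    Finsupp.mapDomain_apply negExp_injective]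
  rfl

theorem eq_of_forall_stdCoeff_eq {a : ℤ} {k : ℕ} (hd : a = -((n : ℤ) + 1 + k))
    (z z' : cocyclesL n R a n)
    (h : ∀ b, z.1 (stdTuple n) (negExp b) = z'.1 (stdTuple n) (negExp b)) :
    classMap a n z = classMap a n z' := by
  subst hd
  obtain ⟨m, hm⟩ := (classMap_topMap_bijective (n := n) (R := R) k).2 (classMap _ n (z - z'))
  have h0 : m = 0 := Subtype.ext (MvPolynomial.ext _ _ fun b => by
    have e := std_eq_zero_of_classMap_eq_zero n R (by omega) (topMap k m - (z - z'))
      ((classMap_sub_eq_zero_iff _ _).mpr hm) (negExp b)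
      (fun i => by simp only [negExp]; omega)
    change ((Combinat.topCocycle (stdTuple n) (negMap n R m.1)) (stdTuple n) -
      (z.1 (stdTuple n) - z'.1 (stdTuple n))) (negExp b) = 0 at e
    rw [Combinat.topCocycle, Combinat.detTuple_self, one_smul, Finsupp.sub_apply, Finsupp.sub_apply,
      h b, sub_self, sub_zero, negMap_apply, Finsupp.mapDomain_apply negExp_injective] at e
    exact e)
  subst h0
  refine (classMap_sub_eq_zero_iff z z').mp (hm.symm.trans ?_)
  simp

/-- The pairing is perfect for `O(-n-1-k)`. -/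
theorem existsUnique_of_le {a : ℤ} (k : ℕ) (hd : -((n : ℤ) + 1) = a + k)
    (ψ : Coh.HH (CohB1.ProjSpace n R) (Twist.twistProjSpace n R a) n →ₗ[R] R) :
    ∃! φ : Twist.twistProjSpace n R a ⟶ Twist.twistProjSpace n R (-((n : ℤ) + 1)),
      ∀ x, ψ x = trace n R (hmap φ n x) := by
  classical
  have hd' : a = -((n : ℤ) + 1 + k) := by omega
  let B := Finset.finsuppAntidiag (Finset.univ : Finset (Fin (n + 1))) k
  have hB : ∀ b : Fin (n + 1) →₀ ℕ, b ∈ B ↔ Finsupp.degree b = k := fun b => by
    simp [B, Finsupp.degree_eq_sum]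
  have hsub : ∀ {f : MvPolynomial (Fin (n + 1)) R}, f ∈ CohB1.polyGrading n R k → f.support ⊆ B :=
    fun {f} hf b hb => by
      rw [hB, Finsupp.degree_eq_weight_one]
      exact (MvPolynomial.mem_homogeneousSubmodule _ _).mp hf (MvPolynomial.mem_support_iff.mp hb)
  -- a class for each monomial
  have key : ∀ b ∈ B, ∃ z : cocyclesL n R a n,
      ∀ c, z.1 (stdTuple n) (negExp c) = if b = c then 1 else 0 := by
    intro b hb
    subst hd'
    refine ⟨topMap k ⟨MvPolynomial.monomial b 1, (MvPolynomial.mem_homogeneousSubmodule _ _).mpr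
      (MvPolynomial.isHomogeneous_monomial _ ((hB b).mp hb))⟩, fun c => ?_⟩
    change (Combinat.topCocycle (stdTuple n) (negMap n R _)) (stdTuple n) (negExp c) = _
    rw [Combinat.topCocycle, Combinat.detTuple_self, one_smul, negMap_apply,
      Finsupp.mapDomain_apply negExp_injective]
    exact MvPolynomial.coeff_monomial c b 1
  choose Z hZ using key
  have formula : ∀ {f : MvPolynomial (Fin (n + 1)) R} (hf : f ∈ CohB1.polyGrading n R k)
      (z : cocyclesL n R a n),
      trace n R (hmap (X := CohB1.ProjSpace n R) (M := Twist.twistProjSpace n R a)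
        (N := Twist.twistProjSpace n R (-((n : ℤ) + 1))) (mulEl (CohB1.polyGrading n R) hf hd) n
          (classMap a n z)) = ∑ b ∈ B, f.coeff b * z.1 (stdTuple n) (negExp b) := fun {f} hf z => by
    rw [trace_hmap_mulEl hf hd z]
    refine Finset.sum_subset (hsub hf) fun b _ hb => ?_
    rw [MvPolynomial.notMem_support_iff.mp hb, zero_mul]
  let c : (Fin (n + 1) →₀ ℕ) → R := fun b =>
    if hb : b ∈ B then ψ (classMap a n (Z b hb)) else 0
  let f : MvPolynomial (Fin (n + 1)) R := ∑ b ∈ B, MvPolynomial.monomial b (c b)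
  have hf : f ∈ CohB1.polyGrading n R k := Submodule.sum_mem _ fun b hb =>
    (MvPolynomial.mem_homogeneousSubmodule _ _).mpr
      (MvPolynomial.isHomogeneous_monomial _ ((hB b).mp hb))
  have hfc : ∀ b ∈ B, f.coeff b = c b := fun b hb => by
    simp [f, MvPolynomial.coeff_sum, MvPolynomial.coeff_monomial, hb]
  refine ⟨mulEl (CohB1.polyGrading n R) hf hd, fun x => ?_, fun φ hφ => ?_⟩
  · obtain ⟨z, rfl⟩ := classMap_surjective a n x
    refine Eq.trans ?_ (formula hf z).symm
    have e : classMap a n z =
        ∑ b ∈ B.attach, z.1 (stdTuple n) (negExp b.1) • classMap a n (Z b.1 b.2) := by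
      simp only [← map_smul, ← map_sum]
      refine eq_of_forall_stdCoeff_eq hd' _ _ fun b => ?_
      change _ = stdCoeff n R a (negExp b) _
      rw [map_sum]
      simp only [map_smul]
      change _ = ∑ x ∈ B.attach, z.1 (stdTuple n) (negExp x.1) •
        (Z x.1 x.2).1 (stdTuple n) (negExp b)
      simp only [hZ, smul_eq_mul, mul_ite, mul_one, mul_zero]
      rw [Finset.sum_attach B fun x => if x = b then z.1 (stdTuple n) (negExp x) else 0,
        Finset.sum_ite_eq']
      split_ifs with hb
      · rfl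
      · by_contra hne
        apply hb
        have := (Combinat.mem_cochains_iff.mp z.2.1 (stdTuple n) (negExp b) hne).1
        rw [sum_negExp] at this
        rw [hB, Finsupp.degree_eq_weight_one]
        change Finsupp.weight (1 : Fin (n + 1) → ℕ) b = k
        omega
    rw [e, map_sum, ← Finset.sum_attach B fun b => f.coeff b * z.1 (stdTuple n) (negExp b)]
    refine Finset.sum_congr rfl fun b _ => ?_
    rw [map_smul, hfc b.1 b.2, smul_eq_mul, mul_comm]
    simp only [c, dif_pos b.2]
  · obtain ⟨g, hg, rfl⟩ := exists_eq_mulEl k hd φ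
    have : g = f := MvPolynomial.ext _ _ fun b => by
      by_cases hb : b ∈ B
      · rw [hfc b hb]
        simp only [c, dif_pos hb]
        rw [hφ]
        refine Eq.trans ?_ (formula hg (Z b hb)).symm
        simp [hZ, hb]
      · rw [MvPolynomial.notMem_support_iff.mp fun h => hb (hsub hg h),
          MvPolynomial.notMem_support_iff.mp fun h => hb (hsub hf h)]
    subst this
    rfl

/-- The pairing is perfect for every twist (`1 ≤ n`). -/
theorem existsUnique_twist (hn : 1 ≤ n) (a : ℤ)
    (ψ : Coh.HH (CohB1.ProjSpace n R) (Twist.twistProjSpace n R a) n →ₗ[R] R) :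
    ∃! φ : Twist.twistProjSpace n R a ⟶ Twist.twistProjSpace n R (-((n : ℤ) + 1)),
      ∀ x, ψ x = trace n R (hmap φ n x) := by
  rcases le_or_gt a (-((n : ℤ) + 1)) with ha | ha
  · exact existsUnique_of_le (-((n : ℤ) + 1) - a).toNat (by omega) ψ
  · have := subsingleton_HH_twist (n := n) (R := R) a n (by omega) (by omega)
    refine ⟨0, fun x => ?_, fun φ _ => eq_zero_of_lt hn ha φ⟩
    rw [Subsingleton.elim x 0, map_zero, hmap, map_zero, map_zero]

/-- The trace is bijective. -/
theorem trace_bijective : Function.Bijective (trace n R) := by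
  constructor
  · refine (injective_iff_map_eq_zero _).mpr fun h hh => ?_
    obtain ⟨z, rfl⟩ := classMap_surjective _ n h
    refine (eq_of_forall_stdCoeff_eq (k := 0) (by simp) z 0 fun b => ?_).trans (map_zero _)
    rw [trace_classMap] at hh
    change _ = (0 : Combinat.Exp R (Idx.{u} n)) (negExp b)
    rw [Finsupp.zero_apply]
    by_contra hne
    have := (Combinat.mem_cochains_iff.mp z.2.1 (stdTuple n) (negExp b) hne).1
    rw [sum_negExp] at this
    have hb : b = 0 := by
      rw [← Finsupp.degree_eq_zero_iff, Finsupp.degree_eq_weight_one]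
      change Finsupp.weight (1 : Fin (n + 1) → ℕ) b = 0
      omega
    subst hb
    apply hne
    refine Eq.trans (congrArg _ ?_) hh
    funext i
    simp [negExp]
  · intro r
    obtain ⟨φ, hφ, -⟩ := existsUnique_of_le (R := R) (n := n) (a := -((n : ℤ) + 1)) 0 (by simp)
      (0 : _ →ₗ[R] R)
    let m : MvPolynomial.homogeneousSubmodule (Fin (n + 1)) R 0 :=
      ⟨MvPolynomial.C r, (MvPolynomial.mem_homogeneousSubmodule _ _).mpr
        (MvPolynomial.isHomogeneous_C _ r)⟩
    have hd : -((n : ℤ) + 1 + (0 : ℕ)) = -((n : ℤ) + 1) := by simp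
    obtain ⟨z, hz⟩ : ∃ z : cocyclesL n R (-((n : ℤ) + 1)) n,
        ∀ c, z.1 (stdTuple n) c = negMap n R m.1 c := by
      rw [← hd]
      refine ⟨topMap 0 m, fun c => ?_⟩
      change (Combinat.topCocycle (stdTuple n) (negMap n R m.1)) (stdTuple n) c = _
      rw [Combinat.topCocycle, Combinat.detTuple_self, one_smul]
    refine ⟨classMap _ n z, ?_⟩
    rw [trace_classMap, hz, show (fun _ => (-1 : ℤ)) = negExp.{u} (0 : Fin (n + 1) →₀ ℕ) from
      funext fun i => by simp [negExp], negMap_apply, Finsupp.mapDomain_apply negExp_injective]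
    exact MvPolynomial.coeff_zero_C r

end Groth.Duality.Pn
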