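import Groth.Agent.Duality.PnExtStalk
import Groth.Agent.Duality.PnStalk
import Groth.Agent.LocDual.Duality
import Groth.Agent.Gorenstein.Regular
import Groth.Agent.LocCohBase.Nonvanishing
import Groth.Agent.CanMod.Basic
import Groth.Agent.QCohMod.SupportPullback
import Groth.Agent.SiteCohomology.SchemeModules

/-!
# Vanishing of `H^i(F(-m))` for large `m` and the local invariants of `F`
-/

set_option autoImplicit false

universe u

open CategoryTheory CategoryTheory.Limits AlgebraicGeometry

noncomputable section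

namespace Groth.Duality.Pn

open Groth.PnCoh

variable {k : Type u} [Field k] {n : ℕ}

/-- `H^i(F(-m)) = 0` for large `m`. -/
def NegVanish (F : (CohB1.ProjSpace n k).Modules) (i : ℕ) : Prop :=
  ∃ m₀ : ℤ, ∀ m : ℤ, m₀ ≤ m →
    Subsingleton (Coh.HH (CohB1.ProjSpace n k) (Twist.twistBy (CohB1.polyGrading n k) F (-m)) i)

/-- `Ext^j(F_x, O_x) = 0`. -/
def StalkExtRingZero (F : (CohB1.ProjSpace n k).Modules) (j : ℕ) (x : CohB1.ProjSpace n k) : Prop :=
  Subsingleton (Abelian.Ext.{u}
    (ModuleCat.of ((CohB1.ProjSpace n k).presheaf.stalk x) (F.presheaf.stalk x))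
    (ModuleCat.of ((CohB1.ProjSpace n k).presheaf.stalk x) ((CohB1.ProjSpace n k).presheaf.stalk x)) j)

theorem stalkExtZero_omega_iff (F : (CohB1.ProjSpace n k).Modules) (j : ℕ)
    (x : CohB1.ProjSpace n k) :
    StalkExtZero F (omega k n) j x ↔ StalkExtRingZero F j x := by
  obtain ⟨e⟩ := Inter.exists_stalk_equiv (PnCoh.isInvertible_twist n k (-((n : ℤ) + 1))) x
  exact ⟨subsingleton_ext_congr_right _ e.symm.toModuleIso j,
    subsingleton_ext_congr_right _ e.toModuleIso j⟩

section

variable [HasExt.{u} (CohB1.ProjSpace n k).Modules]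

theorem subsingleton_ext_omega_tw_iff {F : (CohB1.ProjSpace n k).Modules} (hF : Coh.IsCoh F)
    {i j : ℕ} (hij : i + j = n) (m : ℤ) :
    Subsingleton (Abelian.Ext F (tw (omega k n) m) j) ↔
      Subsingleton (Coh.HH (CohB1.ProjSpace n k) (tw F (-m)) i) := by
  obtain ⟨e⟩ := SheafHom.nonempty_ext_twist (isInverseOf_twist n k m) F (omega k n) j
  obtain ⟨d⟩ := (ext_duality j (tw F (-m)) (isCoh_tw hF (-m))).1 (by omega)
  obtain rfl : i = n - j := by omega
  exact ⟨fun h => (Module.subsingleton_dual_iff k).mp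
      (@Function.Injective.subsingleton _ _ _ d.symm.injective (e.injective.subsingleton)),
    fun h => @Function.Injective.subsingleton _ _ _ e.symm.injective d.injective.subsingleton⟩

theorem negVanish_iff_ext (F : (CohB1.ProjSpace n k).Modules) (hF : Coh.IsCoh F) {i j : ℕ}
    (hij : i + j = n) :
    NegVanish F i ↔
      ∃ m₀ : ℤ, ∀ m : ℤ, m₀ ≤ m → Subsingleton (Abelian.Ext F (tw (omega k n) m) j) :=
  exists_congr fun _ => forall₂_congr fun m _ => (subsingleton_ext_omega_tw_iff hF hij m).symm

end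

/-- `H^i(F(-m)) = 0` for large `m` forces `Ext^{n-i}(F_x, O_x) = 0` everywhere. -/
theorem stalkExtRingZero_of_negVanish {F : (CohB1.ProjSpace n k).Modules} (hF : Coh.IsCoh F)
    {i j : ℕ} (hij : i + j = n) (h : NegVanish F i) (x : CohB1.ProjSpace n k) :
    StalkExtRingZero F j x := by
  have : HasExt.{u} (CohB1.ProjSpace n k).Modules := hasExt_of_enoughInjectives _
  exact (stalkExtZero_omega_iff F j x).mp
    ((ext_vanish_criterion (isCoh_twist n k _) j F hF).1 ((negVanish_iff_ext F hF hij).mp h) x)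

/-- `Ext^{n-i}(F_x, O_x) = 0` at closed points forces `H^i(F(-m)) = 0` for large `m`. -/
theorem negVanish_of_stalkExtRingZero {F : (CohB1.ProjSpace n k).Modules} (hF : Coh.IsCoh F)
    {i j : ℕ} (hij : i + j = n)
    (h : ∀ x : CohB1.ProjSpace n k, IsClosed ({x} : Set (CohB1.ProjSpace n k)) →
      StalkExtRingZero F j x) : NegVanish F i := by
  have : HasExt.{u} (CohB1.ProjSpace n k).Modules := hasExt_of_enoughInjectives _
  exact (negVanish_iff_ext F hF hij).mpr
    ((ext_vanish_criterion (isCoh_twist n k _) j F hF).2 fun x hx =>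
      (stalkExtZero_omega_iff F j x).mpr (h x hx))

/-- Local duality at the vanishing level. -/
theorem subsingleton_H_iff_ext {A : Type u} [CommRing A] [IsRegularLocalRing A] {r : ℕ}
    (hdim : ringKrullDim A = r) (M : Type u) [AddCommGroup M] [Module A M] [Module.Finite A M]
    {i j : ℕ} (hij : i + j = r) :
    Subsingleton (LocCoh.H (IsLocalRing.maximalIdeal A) i M) ↔
      Subsingleton (Abelian.Ext.{u} (ModuleCat.of A M) (ModuleCat.of A A) j) := by
  have hA : ∃ N, GrothGoren.InjLT A A N := GrothGoren.exists_injLT_of_regular _ A le_rfl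
  obtain ⟨E, _, _, f, hf⟩ := GrothMatlis.exists_hull (R := A) (M := IsLocalRing.ResidueField A)
  obtain ⟨e⟩ := LocDual.nonempty_duality_of_hull hA hdim hf M hij
  constructor
  · intro h
    exact CanMod.subsingleton_of_dual hf _
      (@Function.Injective.subsingleton _ _ _ e.symm.injective h)
  · intro h
    exact (e.injective.subsingleton :)

/-- `H^i(F(-m)) = 0` for large `m` exactly when the local cohomology `H^i` of every closed stalk
vanishes. -/
theorem negVanish_iff_localCohomology {F : (CohB1.ProjSpace n k).Modules} (hF : Coh.IsCoh F)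
    (i : ℕ) :
    NegVanish F i ↔ ∀ x : CohB1.ProjSpace n k, IsClosed ({x} : Set (CohB1.ProjSpace n k)) →
      Subsingleton (LocCoh.H (IsLocalRing.maximalIdeal ((CohB1.ProjSpace n k).presheaf.stalk x)) i
        (F.presheaf.stalk x)) := by
  have := hF.1
  have hfin := fun x => QCohMod.finite_stalk F hF.2 x
  have hreg := isRegularLocalRing_stalk n k
  rcases le_or_gt i n with hi | hi
  · constructor
    · intro h x hx
      have := hfin x; have := hreg x
      exact (subsingleton_H_iff_ext (ringKrullDim_stalk n k hx) _ (Nat.add_sub_of_le hi)).mpr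
        (stalkExtRingZero_of_negVanish hF (Nat.add_sub_of_le hi) h x)
    · intro h
      refine negVanish_of_stalkExtRingZero hF (Nat.add_sub_of_le hi) fun x hx => ?_
      have := hfin x; have := hreg x
      exact (subsingleton_H_iff_ext (ringKrullDim_stalk n k hx) _ (Nat.add_sub_of_le hi)).mp (h x hx)
  · refine iff_of_true ⟨0, fun m _ => ?_⟩ fun x hx => ?_
    · have : Coh.IsQCoh (X := CohB1.ProjSpace n k) (tw F (-m)) := (isCoh_tw hF (-m)).1
      exact subsingleton_HH_of_lt n k (tw F (-m)) hi
    · have := hfin x; have := hreg x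
      refine LocCohBase.subsingleton_H_of_supportDim_lt _ _ ?_
      refine lt_of_le_of_lt (Module.supportDim_le_ringKrullDim _ _) ?_
      rw [ringKrullDim_stalk n k hx]
      exact_mod_cast hi

/-- Vanishing in degrees up to `p` is a depth condition. -/
theorem forall_negVanish_iff_depth {F : (CohB1.ProjSpace n k).Modules} (hF : Coh.IsCoh F) (p : ℕ) :
    (∀ i : ℕ, i < p → NegVanish F i) ↔
      ∀ x : CohB1.ProjSpace n k, IsClosed ({x} : Set (CohB1.ProjSpace n k)) →
        (p : ℕ∞) ≤ LocCoh.depth ((CohB1.ProjSpace n k).presheaf.stalk x) (F.presheaf.stalk x) := by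
  have := hF.1
  have := isLocallyNoetherian_projSpace n k
  have hfin := fun x => QCohMod.finite_stalk F hF.2 x
  simp only [negVanish_iff_localCohomology hF]
  refine ⟨fun h x hx => ?_, fun h i hi x hx => ?_⟩
  · have := hfin x
    exact (LocCohBase.le_idealDepth_iff_localCohomology _ p _).mpr fun i hi => h i hi x hx
  · have := hfin x
    exact (LocCohBase.le_idealDepth_iff_localCohomology _ p _).mp (h x hx) i hi

/-- Finitely many degrees share a bound. -/
theorem forall_negVanish_iff (F : (CohB1.ProjSpace n k).Modules) (p : ℕ) :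
    (∀ i : ℕ, i < p → NegVanish F i) ↔
      ∃ m₀ : ℤ, ∀ m : ℤ, m₀ ≤ m → ∀ i : ℕ, i < p →
        Subsingleton (Coh.HH (CohB1.ProjSpace n k)
          (Twist.twistBy (CohB1.polyGrading n k) F (-m)) i) := by
  refine ⟨fun h => ?_, fun ⟨m₀, h⟩ i hi => ⟨m₀, fun m hm => h m hm i hi⟩⟩
  induction p with
  | zero => exact ⟨0, fun _ _ i hi => absurd hi i.not_lt_zero⟩
  | succ p ih =>
    obtain ⟨a, ha⟩ := ih fun i hi => h i (hi.trans p.lt_succ_self)
    obtain ⟨b, hb⟩ := h p p.lt_succ_self
    refine ⟨max a b, fun m hm i hi => ?_⟩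
    rcases Nat.lt_succ_iff_lt_or_eq.mp hi with hi | rfl
    · exact ha m ((le_max_left _ _).trans hm) i hi
    · exact hb m ((le_max_right _ _).trans hm)

end Groth.Duality.Pn
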