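import Groth.Agent.Duality.PnPushDepth
import Groth.Agent.PnCoh.GenEmbedding
import Groth.Agent.Ega43FP2.RectifiedDepth
import Groth.Agent.SmoothWeil.Geom
import Groth.Agent.Variety2.DimScheme

/-!
# Locally free modules on regular projective schemes and negative twists
-/

set_option autoImplicit false

universe u

open CategoryTheory CategoryTheory.Limits AlgebraicGeometry

noncomputable section

namespace Groth.Duality

/-- An algebra generated in degree one with Noetherian total ring has finitely many degree one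
generators. -/
theorem exists_degree_one_generators {K A : Type u} [CommRing K] [CommRing A] [Algebra K A]
    [IsNoetherianRing A] (𝒜 : ℕ → Submodule K A) [GradedAlgebra 𝒜]
    (h0 : ∀ a ∈ 𝒜 0, a ∈ Set.range (algebraMap K A))
    (hgen : (HomogeneousIdeal.irrelevant 𝒜).toIdeal = Ideal.span (𝒜 1 : Set A)) :
    ∃ (r : ℕ) (g : Fin (r + 1) → A), (∀ i, g i ∈ 𝒜 1) ∧ Algebra.adjoin K (Set.range g) = ⊤ := by
  classical
  obtain ⟨S, hS, hspan⟩ := (Submodule.fg_span_iff_fg_span_finset_subset (𝒜 1 : Set A)).1
    (IsNoetherian.noetherian (Ideal.span (𝒜 1 : Set A)))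
  let e := S.equivFin.symm
  let g : Fin (S.card + 1) → A := Fin.cons 0 fun i => (e i : A)
  have hg : ∀ i, g i ∈ 𝒜 1 := Fin.cases (zero_mem _) fun i => hS (e i).2
  have hSg : (S : Set A) ⊆ Set.range g := fun a ha => ⟨(e.symm ⟨a, ha⟩).succ, by simp [g]⟩
  refine ⟨_, g, hg, eq_top_iff.2 fun a _ => ?_⟩
  rw [← DirectSum.sum_support_decompose 𝒜 a]
  refine sum_mem fun m _ => ?_
  suffices h : ∀ (m : ℕ) (y : A), y ∈ 𝒜 m → y ∈ Algebra.adjoin K (Set.range g) from
    h m _ (Subtype.prop _)
  intro m
  induction m with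
  | zero =>
    intro y hy
    obtain ⟨c, rfl⟩ := h0 y hy
    exact Subalgebra.algebraMap_mem _ c
  | succ m ih =>
    intro y hy
    have hy' : y ∈ Ideal.span (Set.range g) := by
      have h1 : y ∈ (HomogeneousIdeal.irrelevant 𝒜).toIdeal :=
        HomogeneousIdeal.mem_irrelevant_of_mem _ m.succ_pos hy
      rw [hgen] at h1
      have h2 : Ideal.span (𝒜 1 : Set A) ≤ Ideal.span (Set.range g) :=
        hspan.le.trans (Ideal.span_mono hSg)
      exact h2 h1
    obtain ⟨c, rfl⟩ := Ideal.mem_span_range_iff_exists_fun.1 hy'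
    rw [← DirectSum.decompose_of_mem_same 𝒜 hy, DirectSum.decompose_sum, DFinsupp.finsetSum_apply,
      AddSubmonoidClass.coe_finsetSum]
    refine sum_mem fun i _ => ?_
    rw [DirectSum.coe_decompose_mul_of_right_mem_of_le 𝒜 (hg i) (show 1 ≤ m + 1 by omega)]
    exact mul_mem (ih _ (Subtype.prop _)) (Algebra.subset_adjoin ⟨i, rfl⟩)

/-- Over a regular local ring of dimension `d`, depth `d` means free. -/
theorem free_iff_le_depth {R : Type u} [CommRing R] [IsRegularLocalRing R] {d : ℕ}
    (hd : ringKrullDim R = d) (M : Type u) [AddCommGroup M] [Module R M] [Module.Finite R M] :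
    Module.Free R M ↔ (d : ℕ∞) ≤ LocCoh.depth R M := by
  have h := Ega43FP2.le_depth_add_iff_pdLT_of_regular R M 0 d d (by rw [hd]; simp)
  simp only [Nat.cast_zero, add_zero, Nat.add_sub_cancel_left] at h
  rw [h, Ega4Algebra1.PdLT.one_iff]
  exact ⟨fun _ => inferInstance, fun _ => Module.free_of_flat_of_isLocalRing⟩

theorem height_eq_zero_of_isClosed {X : Scheme.{u}} {x : X} (hx : IsClosed ({x} : Set X)) :
    Order.height x = 0 :=
  Order.height_eq_zero.2 fun y hy =>
    le_of_eq ((Scheme.le_iff_specializes.1 hy).mem_closed hx rfl).symm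

/-- Free stalks at closed points suffice. -/
theorem isFinLocFree_of_closed {X : Scheme.{u}} [IsLocallyNoetherian X] {F : X.Modules}
    (hF : Coh.IsCoh F)
    (h : ∀ x : X, IsClosed ({x} : Set X) → Module.Free (X.presheaf.stalk x) (F.presheaf.stalk x)) :
    FlatMod.IsFinLocFree F := by
  refine KTheory.LocFree.isFinLocFree_of_free_stalks hF fun x => ?_
  let Z : Set X := {y | ¬ Module.Free (X.presheaf.stalk y) (F.presheaf.stalk y)}
  have hZ : IsClosed Z := isOpen_compl_iff.1 (isOpen_iff_forall_mem_open.2 fun y hy => by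
    have : Module.Free (X.presheaf.stalk y) (F.presheaf.stalk y) := not_not.1 hy
    obtain ⟨U, m, s, hyU, hs⟩ := KTheory.LocFree.exists_basis_of_free_stalk hF y
    exact ⟨U, fun w hw hwZ => hwZ (KTheory.LocFree.free_stalk_of_basis hw hs), U.2, hyU⟩)
  by_contra hx
  obtain ⟨y, hy, hy'⟩ := RefRank.exists_isClosed_singleton hZ ⟨x, hx⟩
  exact hy (h y hy')

/-- On a regular connected projective scheme of dimension `d`, locally free means that the cohomology
below degree `d` of very negative twists vanishes. -/
theorem isFinLocFree_iff_vanishing {K : Type u} [Field K] {N : ℕ} {X : Scheme.{u}}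
    (j : X ⟶ CohB1.ProjSpace N K) [IsClosedImmersion j] [ConnectedSpace X]
    (hreg : ∀ x : X, IsRegularLocalRing (X.presheaf.stalk x)) (d : ℕ)
    (hd : topologicalKrullDim ↥X = d) {F : X.Modules} (hF : Coh.IsCoh F) :
    FlatMod.IsFinLocFree F ↔ ∀ i : ℕ, i < d →
      Pn.NegVanish ((Scheme.Modules.pushforward j).obj F) i := by
  have := hF.1
  have := PnCoh.isLocallyNoetherian_projSpace N K
  have : IsLocallyNoetherian X := LocallyOfFiniteType.isLocallyNoetherian j
  have : IrreducibleSpace X := SmoothWeil.irreducibleSpace_of_connected X fun x =>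
    have := hreg x
    Ega4Algebra1.isDomain_of_isRegularLocalRing _
  have hdim : ∀ x : X, IsClosed ({x} : Set X) → ringKrullDim (X.presheaf.stalk x) = d := fun x hx => by
    have h := Variety2.Dim.ringKrullDim_stalk_add_height (j ≫ CohB1.ProjSpace.toSpec N K) x
    rw [height_eq_zero_of_isClosed hx, hd] at h
    simpa using h
  rw [Pn.forall_negVanish_push_iff_depth j hF d]
  constructor
  · intro hfree z hz
    have := hreg z
    have := QCohMod.finite_stalk F hF.2 z
    exact (free_iff_le_depth (hdim z hz) _).1 (KTheory.LocFree.free_stalk hfree z)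
  · intro h
    refine isFinLocFree_of_closed hF fun z hz => ?_
    have := hreg z
    have := QCohMod.finite_stalk F hF.2 z
    exact (free_iff_le_depth (hdim z hz) _).2 (h z hz)

end Groth.Duality
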