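import Groth.Agent.Duality.FundLocal.SmoothImm
import Groth.Agent.Duality.PnDualizing
import Groth.Agent.Duality.PnStalk
import Groth.Agent.PnEuler.Det
import Groth.Agent.FibreDim.Smooth
import Groth.Agent.FibreDim.RelDim
import Groth.Agent.Curves1.CurveMor.Uniformizer
import Groth.Agent.SiteCohomology.SchemeModules
import Groth.Agent.LocCohTransform.PuncturedFunctor
import Groth.Agent.Duality.ClosedDual
import Groth.Agent.Duality.DualPair
import Groth.Agent.Flatmor4.MiracleScheme
import Groth.Agent.Calg4.RegularAscent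
import Groth.Agent.VarietyBC.Components
import Groth.Agent.AlgGrp1.Geom
import Groth.Agent.ModelsGraphs.GlobalFunctions
import Groth.Agent.EulerDeg.FiniteSupport
import Groth.Agent.EulerDeg.Coherent

/-!
# Top forms of a smooth closed subscheme of projective space are dualizing
-/

set_option autoImplicit false
set_option linter.style.haveILetI false

universe u

open CategoryTheory CategoryTheory.Limits AlgebraicGeometry TopologicalSpace

noncomputable section

namespace Groth.Duality.SmoothDual

variable {k : Type u} [Field k]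

/-- A scheme smooth of relative dimension `r` over a field has dimension at most `r`. -/
theorem topologicalKrullDim_le {X : Scheme.{u}} (p : X ⟶ Spec (CommRingCat.of k)) (r : ℕ)
    [SmoothOfRelativeDimension r p] : topologicalKrullDim X ≤ (r : WithBot ℕ∞) := by
  haveI : Smooth p := SmoothOfRelativeDimension.smooth r p
  haveI : LocallyOfFiniteType p := inferInstance
  have h1 := (Groth.FibreDim.forall_component_dim_eq_iff p r).2 fun z => by
    rw [← Groth.Curves1.CurveMor.localDim_eq_fibreDimAt p z]
    exact Groth.FibreDim.fibreDimAt_eq_of_smoothOfRelativeDimension r p z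
  rw [Groth.Variety2.Dim.dim_eq_iSup_height]
  refine iSup_le fun z => ?_
  obtain ⟨η, hηz, hη⟩ := Groth.FibreDim.exists_genericPoint_specializes z
  have h2 := h1 _ hη
  rw [Groth.Variety2.Dim.dim_closure_singleton] at h2
  rw [← h2]
  exact WithBot.coe_le_coe.2 (Order.height_mono (Scheme.le_iff_specializes.2 hηz))

/-- Every generic point has height `r`. -/
theorem height_eq {X : Scheme.{u}} (p : X ⟶ Spec (CommRingCat.of k)) (r : ℕ)
    [SmoothOfRelativeDimension r p] (η : X) (hη : IsMax η) : Order.height η = r := by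
  haveI : Smooth p := SmoothOfRelativeDimension.smooth r p
  haveI : LocallyOfFiniteType p := inferInstance
  have h1 := (Groth.FibreDim.forall_component_dim_eq_iff p r).2 fun z => by
    rw [← Groth.Curves1.CurveMor.localDim_eq_fibreDimAt p z]
    exact Groth.FibreDim.fibreDimAt_eq_of_smoothOfRelativeDimension r p z
  have h := h1 _ ((Groth.Curves1.Node.mem_genericPoints_iff_isMax η).2 hη)
  rw [Groth.Variety2.Dim.dim_closure_singleton] at h
  exact WithBot.coe_injective h

/-- Constants are the only global functions of a connected smooth proper scheme over an algebraically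
closed field. -/
theorem finrank_h0_structure [IsAlgClosed k] {X : Scheme.{u}} [X.Over (Spec (CommRingCat.of k))]
    [Smooth (X ↘ Spec (CommRingCat.of k))] [IsProper (X ↘ Spec (CommRingCat.of k))] [ConnectedSpace X] :
    Module.finrank k (Coh.HH X (Coh.structureModule X) 0) = 1 := by
  haveI : ConnectedSpace (Curv2.bc k X k) := by
    haveI : IsIso (Spec.map (CommRingCat.ofHom (algebraMap k k))) := by
      rw [Algebra.algebraMap_self, CommRingCat.ofHom_id]
      infer_instance
    exact ((asIso (pullback.fst _ _ : Curv2.bc k X k ⟶ _)).hom.homeomorph.connectedSpace_iff).2 ‹_›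
  haveI := Groth.VarietyBC.geometricallyConnected_of_connectedSpace_bc (k := k) (X := X) k
  letI := Groth.EulerDeg.secModule k (Coh.structureModule X) ⊤
  have hb := Groth.ModelsGraphs.GlobalFun.appTop_bijective_of_geometricallyConnected (X ↘ Spec (CommRingCat.of k))
  have hb' : Function.Bijective (Coh.toGlobal (X ↘ Spec (CommRingCat.of k))) :=
    hb.comp (ConcreteCategory.bijective_of_isIso (Scheme.ΓSpecIso (CommRingCat.of k)).inv)
  let e : k ≃ₗ[k] Γ(Coh.structureModule X, (⊤ : X.Opens)) :=
    LinearEquiv.ofBijective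
      ({ toFun := fun a => (show Γ(Coh.structureModule X, (⊤ : X.Opens)) from
           Coh.toGlobal (X ↘ Spec (CommRingCat.of k)) a)
         map_add' := fun a b => map_add _ a b
         map_smul' := fun a b => by
           rw [RingHom.id_apply, EulerDeg.smul_sec, EulerDeg.toSec]
           show Coh.toGlobal (X ↘ Spec (CommRingCat.of k)) (a * b) = _
           rw [map_mul]
           exact congrArg (· * _) (PicAux.resX_self _ _).symm } : k →ₗ[k] Γ(Coh.structureModule X, (⊤ : X.Opens))) hb'
  rw [(EulerDeg.h0Equiv k (Coh.structureModule X)).finrank_eq, ← e.finrank_eq, Module.finrank_self]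

variable {n r : ℕ} {X : Scheme.{u}} [X.Over (Spec (CommRingCat.of k))] (ι : X ⟶ CohB1.ProjSpace n k)
  [IsClosedImmersion ι]

/-- The top forms of `P^n` are `O(-n-1)`. -/
theorem isExtPow_omega : ExtPow.IsExtPow n (Omega.sheaf (CohB1.ProjSpace.toSpec n k)) (Pn.omega k n) :=
  haveI : IsIso (Groth.PnEuler.detHom n k) := Groth.PnEuler.isIso_detHom
  haveI := Groth.PnEuler.isQCoh_omega (n := n) (R := k)
  Groth.LocFree.isExtPow_of_iso (asIso (Groth.PnEuler.detHom n k)) (Groth.LocFree.isExtPow_extPow n _)

/-- `Ω^r_X` is a dualizing sheaf of a smooth closed `X ⊆ P^n`. -/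
theorem exists_dualizing (hι : ι ≫ CohB1.ProjSpace.toSpec n k = X ↘ Spec (CommRingCat.of k))
    [SmoothOfRelativeDimension r (X ↘ Spec (CommRingCat.of k))]
    [QuasiSeparated (X ↘ Spec (CommRingCat.of k))]
    (Ω : X.Modules) (hΩ : ExtPow.IsExtPow r (Omega.sheaf (X ↘ Spec (CommRingCat.of k))) Ω) :
    ∃ t : Coh.HH X Ω r →ₗ[k] k, ∀ F : X.Modules, Coh.IsCoh F → ∀ ψ : Coh.HH X F r →ₗ[k] k,
      ∃! φ : F ⟶ Ω, ∀ x : Coh.HH X F r,
        ψ x = t (Sheaf.H.map ((SheafOfModules.toSheaf X.ringCatSheaf).map φ) r x) := by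
  rcases isEmpty_or_nonempty X with hX | hX
  · have hz : ∀ M : X.Modules, IsZero M := fun M =>
      (QCohMod.isZero_iff_stalk M).2 fun x => (IsEmpty.false x).elim
    refine ⟨0, fun F _ ψ => ⟨0, fun x => ?_, fun φ _ => (hz F).eq_of_src _ _⟩⟩
    haveI := Groth.LocCohTransform.Punct.subsingleton_HH_of_isZero (hz F) r
    rw [Subsingleton.elim x 0]
    simp
  haveI := Groth.PnCoh.isLocallyNoetherian_projSpace n k
  haveI := Pn.smooth_toSpec n k
  haveI : Smooth (X ↘ Spec (CommRingCat.of k)) := SmoothOfRelativeDimension.smooth r _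
  have hg := Groth.PnEuler.isFinLocFreeOfRank_omega (n := n) (R := k)
  have hf := Groth.OmegaSheaf.isFinLocFreeOfRank_sheaf (X ↘ Spec (CommRingCat.of k)) r
  have hle : r ≤ n := (FundLocal.isFinLocFreeOfRank_conormal (CohB1.ProjSpace.toSpec n k)
    (X ↘ Spec (CommRingCat.of k)) ι n r hg hf hι).2 (Classical.arbitrary X) hX
  have hcod := FundLocal.isRegularImmersionOfCodim (CohB1.ProjSpace.toSpec n k)
    (X ↘ Spec (CommRingCat.of k)) ι n r hg hf hι
  haveI : DCoh.HasSheafHom (Groth.LocFree.extPow (n - r) (Omega.conormal ι)) :=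
    CohTwo.LocFreeExt.hasSheafHom _
  haveI : ModSite.HasSheafHom (O := (CohB1.ProjSpace n k).sheaf)
      ((Scheme.Modules.pushforward ι).obj (Coh.structureModule X)) := Groth.SitesTopoi.ModH.hasSheafHom _
  haveI : HasInjectiveResolutions (ModSite.Mod (CohB1.ProjSpace n k).sheaf) :=
    inferInstanceAs (HasInjectiveResolutions (CohB1.ProjSpace n k).Modules)
  haveI : (Pn.omega k n).IsQuasicoherent :=
    KTheory.LocFree.isQCoh (LocFree.isFinLocFree_of_rank
      (LocFree.isInvertible_iff_ofRank_one.1 (PnCoh.isInvertible_twist n k _)))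
  obtain ⟨e⟩ := FundLocal.nonempty_extSh_iso ι hcod (Pn.omega k n)
  obtain ⟨e'⟩ := FundLocal.nonempty_hom_topForms_iso (CohB1.ProjSpace.toSpec n k)
    (X ↘ Spec (CommRingCat.of k)) ι n r hg hf hι (Pn.omega k n) isExtPow_omega Ω hΩ
  exact Pn.exists_dualizing ι hι (show r + (n - r) = n by omega)
    (topologicalKrullDim_le (X ↘ Spec (CommRingCat.of k)) r) Ω
    ⟨(e ≪≫ (Scheme.Modules.pushforward ι).mapIso e').symm⟩

/-- Duality data on a nonempty smooth closed `X ⊆ P^n`: a trace and acyclic covers. -/
theorem exists_dualData (hι : ι ≫ CohB1.ProjSpace.toSpec n k = X ↘ Spec (CommRingCat.of k))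
    [SmoothOfRelativeDimension r (X ↘ Spec (CommRingCat.of k))]
    [QuasiSeparated (X ↘ Spec (CommRingCat.of k))] [Nonempty X] [HasExt.{u} X.Modules]
    (Ω : X.Modules) (hΩ : ExtPow.IsExtPow r (Omega.sheaf (X ↘ Spec (CommRingCat.of k))) Ω) :
    ∃ t : Coh.HH X Ω r →ₗ[k] k, DualPair.IsDualizing t ∧ DualPair.HasAcyclicCovers Ω r r := by
  obtain ⟨t, ht⟩ := exists_dualizing ι hι Ω hΩ
  haveI : Smooth (X ↘ Spec (CommRingCat.of k)) := SmoothOfRelativeDimension.smooth r _
  haveI : LocallyOfFiniteType (ι ≫ CohB1.ProjSpace.toSpec n k) := by rw [hι]; infer_instance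
  have he : ∀ η : X, IsMax η → Order.height η = r := height_eq (X ↘ Spec (CommRingCat.of k)) r
  obtain ⟨e0⟩ := Groth.LocFree.nonempty_iso_extPow hΩ
  have hΩc : Coh.IsCoh Ω := by
    haveI := Closed.isNoetherian ι
    exact KTheory.LocFree.isCoh (KTheory.LocFree.isFinLocFree_of_iso e0 (LocFree.isFinLocFree_of_rank
      (LocFree.isFinLocFreeOfRank_extPow (Groth.OmegaSheaf.isFinLocFreeOfRank_sheaf
        (X ↘ Spec (CommRingCat.of k)) r) r)))
  have hn : topologicalKrullDim ↥X = r := by
    refine le_antisymm (topologicalKrullDim_le (X ↘ Spec (CommRingCat.of k)) r) ?_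
    obtain ⟨η, -, hη⟩ := Groth.FibreDim.exists_genericPoint_specializes (Classical.arbitrary X)
    rw [Groth.Variety2.Dim.dim_eq_iSup_height]
    refine le_iSup_of_le η ?_
    rw [he η (Groth.FibreDim.isMax_of_mem_genericPoints hη)]
    exact le_rfl
  refine ⟨t, ht, Closed.hasAcyclicCovers ι hΩc fun q hq _ =>
    (Closed.forall_vanish_iff_cm ι hn).2 (fun x hx => ⟨?_, ?_⟩) q hq⟩
  · haveI := Closed.isNoetherian ι
    haveI : IsRegularLocalRing (X.presheaf.stalk x) := by
      let _ : Field ((Spec (CommRingCat.of k)).presheaf.stalk ((X ↘ Spec (CommRingCat.of k)) x)) :=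
        (Variety2.isField_stalk (Subsingleton.elim (α := PrimeSpectrum k) _ _)).toField
      have : IsRegularLocalRing
          ((Spec (CommRingCat.of k)).presheaf.stalk ((X ↘ Spec (CommRingCat.of k)) x)) := inferInstance
      exact Agf.RegularPoints.isRegularLocalRing_stalk_of_smooth (X ↘ Spec (CommRingCat.of k)) x
    exact Groth.Calg4.isCohenMacaulayLocalRing_of_isRegularLocalRing _
  · have h := Groth.Flatmor4.height_add_dim_stalk_of_equidim (ι ≫ CohB1.ProjSpace.toSpec n k) he x
    rw [Order.height_eq_zero.2 fun y hy => le_of_eq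
      ((Scheme.le_iff_specializes.1 hy).mem_closed hx rfl).symm] at h
    simpa using h

end Groth.Duality.SmoothDual
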