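import Groth.Agent.Duality.ExtTwist
import Groth.Agent.Duality.DepthVanish
import Groth.Agent.Duality.SmoothDual

/-!
# Sheaf Ext out of a module on a closed subscheme of a smooth scheme
-/

set_option autoImplicit false
set_option backward.isDefEq.respectTransparency false
set_option linter.style.haveILetI false
set_option synthInstance.maxHeartbeats 400000
set_option maxHeartbeats 800000

universe u

open CategoryTheory CategoryTheory.Limits AlgebraicGeometry

noncomputable section

namespace Groth.Duality.PushDualOne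

variable (k : Type u) [Field k] {S : Scheme.{u}} [S.Over (Spec (CommRingCat.of k))] (n : ℕ)
  [SmoothOfRelativeDimension n (S ↘ Spec (CommRingCat.of k))]

include k n in
/-- Regularity of the local rings. -/
theorem isRegularLocalRing_stalk (x : S) : IsRegularLocalRing (S.presheaf.stalk x) := by
  haveI : Smooth (S ↘ Spec (CommRingCat.of k)) :=
    SmoothOfRelativeDimension.smooth n (S ↘ Spec (CommRingCat.of k))
  let _ : Field ((Spec (CommRingCat.of k)).presheaf.stalk ((S ↘ Spec (CommRingCat.of k)) x)) :=
    (Variety2.isField_stalk (Subsingleton.elim (α := PrimeSpectrum k) _ _)).toField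
  have : IsRegularLocalRing
      ((Spec (CommRingCat.of k)).presheaf.stalk ((S ↘ Spec (CommRingCat.of k)) x)) := inferInstance
  exact Agf.RegularPoints.isRegularLocalRing_stalk_of_smooth (S ↘ Spec (CommRingCat.of k)) x

include k in
/-- The Ext sheaves out of a module on a closed subscheme vanish below the codimension. -/
theorem isZero_rightDerived_push {C : Scheme.{u}} (j : C ⟶ S) [IsClosedImmersion j]
    (M : C.Modules) (hM : Coh.IsCoh M) {d p : ℕ}
    (hd : topologicalKrullDim ↥C ≤ (d : WithBot ℕ∞)) (hp : d + p ≤ n)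
    [HasInjectiveResolutions S.Modules]
    [DCoh.HasSheafHom ((Coh.push j).obj M)] [(DCoh.sheafHom ((Coh.push j).obj M)).Additive]
    {E : S.Modules} (hE : FlatMod.IsFinLocFree E) {l : ℕ} (hl : l < p) :
    IsZero (((DCoh.sheafHom ((Coh.push j).obj M)).rightDerived l).obj E) := by
  haveI : Smooth (S ↘ Spec (CommRingCat.of k)) :=
    SmoothOfRelativeDimension.smooth n (S ↘ Spec (CommRingCat.of k))
  haveI : IsLocallyNoetherian S :=
    LocallyOfFiniteType.isLocallyNoetherian (S ↘ Spec (CommRingCat.of k))
  haveI : IsLocallyNoetherian C := LocallyOfFiniteType.isLocallyNoetherian j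
  let F : S.Modules := (Coh.push j).obj M
  haveI := SitesTopoi.ModH.hasSheafHom (O := S.sheaf) F
  haveI : HasInjectiveResolutions (ModSite.Mod S.sheaf) := ‹HasInjectiveResolutions S.Modules›
  haveI : (ModSite.sheafHom (O := S.sheaf) F : S.Modules ⥤ S.Modules).Additive :=
    ModSite.sheafHom_additive (O := S.sheaf) F
  let h := CohTwo.LocFreeExt.msIso (X := S) F
  have e : (ModSite.extSh (O := S.sheaf) F l).obj E ≅ ((DCoh.sheafHom F).rightDerived l).obj E :=
    ({ hom := NatTrans.rightDerived h.hom l
       inv := NatTrans.rightDerived h.inv l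
       hom_inv_id := by rw [← NatTrans.rightDerived_comp, Iso.hom_inv_id, NatTrans.rightDerived_id]
       inv_hom_id := by rw [← NatTrans.rightDerived_comp, Iso.inv_hom_id, NatTrans.rightDerived_id] } :
      _ ≅ _).app E
  refine IsZero.of_iso ?_ e.symm
  refine CohTwo.ExtShDepth.isZero_extSh_of_depth F E (CohTwo.isCoh_push j hM)
    (KTheory.LocFree.isCoh hE) p (fun x hx => ?_) l hl
  obtain ⟨z, rfl⟩ := CohTwo.support_push_subset j M hx
  obtain ⟨h, hh, hhd⟩ := DepthVanish.exists_height_le z hd
  have hP : ∀ Z : Set ↥S, Z ∈ irreducibleComponents ↥S → topologicalKrullDim ↥Z = (n : WithBot ℕ∞) :=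
    (FibreDim.forall_component_dim_eq_iff (S ↘ Spec (CommRingCat.of k)) n).2 fun z => by
      rw [← Curves1.CurveMor.localDim_eq_fibreDimAt (S ↘ Spec (CommRingCat.of k)) z]
      exact FibreDim.fibreDimAt_eq_of_smoothOfRelativeDimension n (S ↘ Spec (CommRingCat.of k)) z
  haveI := isRegularLocalRing_stalk k n (j z)
  refine DepthVanish.le_depth_stalk hE _ (DepthVanish.le_ringKrullDim_stalk
    (S ↘ Spec (CommRingCat.of k)) hP (j z) (h := h) ?_ (by omega))
  rw [Variety2.Dim.height_eq_of_isPreimmersion (j ≫ (S ↘ Spec (CommRingCat.of k)))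
    (S ↘ Spec (CommRingCat.of k)) j rfl, hh]

end Groth.Duality.PushDualOne
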