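import Groth.Prelude.Def_QFDual
import Groth.Agent.Misc1.NoetherDiff
import Mathlib.Algebra.Module.LocalizedModule.IsLocalization
import Mathlib.RingTheory.Localization.Module
import Mathlib.RingTheory.Localization.NormTrace
import Mathlib.LinearAlgebra.Trace
import Mathlib.RingTheory.Flat.EquationalCriterion

/-!
# The Dedekind complementary module
-/

set_option autoImplicit false

universe u

open TensorProduct QFDual Disc

namespace Groth.Duality.QFDed

variable {A K B L : Type u} [CommRing A] [CommRing K] [CommRing B] [CommRing L]
  [Algebra A K] [Algebra A B] [Algebra B L] [Algebra K L] [Algebra A L]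
  [IsScalarTower A K L] [IsScalarTower A B L]

/-- The map `B ⟶ L`. -/
noncomputable abbrev j (A B L : Type u) [CommRing A] [CommRing B] [CommRing L] [Algebra A B]
    [Algebra B L] [Algebra A L] [IsScalarTower A B L] : B →ₗ[A] L :=
  (IsScalarTower.toAlgHom A B L).toLinearMap

variable (h : IsDedekindDefined A K B L)
include h

lemma isLocalizedModule : IsLocalizedModule (nonZeroDivisors A) (j A B L) :=
  isLocalizedModule_iff_isLocalization.mpr h.isLocalization

lemma algebraMap_injective : Function.Injective (algebraMap A K) :=
  haveI := h.isFractionRing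
  IsFractionRing.injective A K

/-- Two `K`-linear maps out of `L` agree as soon as they agree on `B`. -/
lemma hom_ext {M : Type u} [AddCommGroup M] [Module A M] [Module K M] [IsScalarTower A K M]
    (f g : L →ₗ[K] M) (e : ∀ b, f (algebraMap B L b) = g (algebraMap B L b)) : f = g := by
  haveI := isLocalizedModule h
  haveI := h.isFractionRing
  apply LinearMap.restrictScalars_injective A
  refine IsLocalizedModule.ext (nonZeroDivisors A) (j A B L) ?_ (LinearMap.ext e)
  intro x
  have hu : IsUnit (algebraMap A K x) := IsLocalization.map_units K x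
  refine (Module.End.isUnit_iff _).2 ?_
  have : ⇑(algebraMap A (Module.End A M) x) = fun m => (algebraMap A K x) • m := by
    funext m; rw [algebraMap_smul]; rfl
  rw [this]
  exact ⟨fun a b e => hu.smul_left_cancel.1 e,
    fun m => ⟨hu.unit⁻¹.val • m, by simp [smul_smul]⟩⟩

/-- Extension of an `A`-linear map on `B` to `L`. -/
noncomputable def extend {M : Type u} [AddCommGroup M] [Module A M] [Module K M]
    [IsScalarTower A K M] (φ : B →ₗ[A] M) : L →ₗ[K] M :=
  haveI := isLocalizedModule h
  haveI := h.isFractionRing
  (IsLocalizedModule.lift (nonZeroDivisors A) (j A B L) φ (fun x => by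
    have hu : IsUnit (algebraMap A K x) := IsLocalization.map_units K x
    refine (Module.End.isUnit_iff _).2 ?_
    have : ⇑(algebraMap A (Module.End A M) x) = fun m => (algebraMap A K x) • m := by
      funext m; rw [algebraMap_smul]; rfl
    rw [this]
    exact ⟨fun a b e => hu.smul_left_cancel.1 e,
      fun m => ⟨hu.unit⁻¹.val • m, by simp [smul_smul]⟩⟩)).extendScalarsOfIsLocalization
      (nonZeroDivisors A) K

lemma extend_apply {M : Type u} [AddCommGroup M] [Module A M] [Module K M] [IsScalarTower A K M]
    (φ : B →ₗ[A] M) (b : B) : extend h φ (algebraMap B L b) = φ b := by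
  simp only [extend, LinearMap.extendScalarsOfIsLocalization_apply']
  haveI := isLocalizedModule h
  exact IsLocalizedModule.lift_apply (nonZeroDivisors A) (j A B L) φ _ b

/-- The trace form of `L` over `K` is perfect. -/
lemma one_mem_differentSet : (1 : L) ∈ differentSet K L := by
  classical
  haveI := h.free; haveI := h.finiteKL; haveI := h.etale
  let b := Module.Free.chooseBasis K L
  exact (Groth.Misc1.ND.discr_isUnit_iff b).1 ((Groth.Misc1.ND.etale_iff_isUnit_discr b).1 h.etale)

lemma exists_trace_eq (ψ : L →ₗ[K] K) : ∃ x : L, ∀ y, ψ y = Algebra.trace K L (x * y) := by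
  obtain ⟨c, hc⟩ := one_mem_differentSet h ψ
  exact ⟨c, fun y => by simpa using hc y⟩

lemma eq_of_trace_eq {x y : L}
    (e : ∀ b : B, Algebra.trace K L (x * algebraMap B L b) = Algebra.trace K L (y * algebraMap B L b)) :
    x = y := by
  haveI := h.free; haveI := h.finiteKL
  have := Groth.Misc1.ND.mul_eq_zero_of_smul_trace (A := K) (one_mem_differentSet h) (c := x - y) ?_
  · simpa [sub_eq_zero] using this
  · apply Omega.ext
    refine hom_ext h _ _ fun b => ?_
    simp [Omega.trace, sub_mul, e b]

lemma exists_form (x : complementary A K B L) :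
    ∃ φ : Omega A B, ∀ b, algebraMap A K (φ.toLinearMap b) =
      Algebra.trace K L ((x : L) * algebraMap B L b) := by
  choose φ hφ using x.2
  refine ⟨⟨{ toFun := φ, map_add' := fun a b => ?_, map_smul' := fun r a => ?_ }⟩, hφ⟩
  · apply algebraMap_injective h
    rw [map_add, hφ, hφ, hφ, map_add, mul_add, map_add]
  · apply algebraMap_injective h
    rw [RingHom.id_apply, smul_eq_mul, map_mul (algebraMap A K), hφ, hφ, Algebra.smul_def,
      map_mul (algebraMap B L), ← IsScalarTower.algebraMap_apply, mul_left_comm,
      IsScalarTower.algebraMap_apply A K L, ← Algebra.smul_def, map_smul, smul_eq_mul]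

lemma exists_compl (φ : Omega A B) :
    ∃ x : complementary A K B L, ∀ b, algebraMap A K (φ.toLinearMap b) =
      Algebra.trace K L ((x : L) * algebraMap B L b) := by
  obtain ⟨x, hx⟩ := exists_trace_eq h (extend h ((Algebra.linearMap A K) ∘ₗ φ.toLinearMap))
  have hx' : ∀ b, algebraMap A K (φ.toLinearMap b) = Algebra.trace K L (x * algebraMap B L b) :=
    fun b => by rw [← hx, extend_apply]; rfl
  exact ⟨⟨x, fun b => ⟨φ.toLinearMap b, hx' b⟩⟩, hx'⟩

theorem exists_linearEquiv :
    ∃ e : complementary A K B L ≃ₗ[B] Omega A B, ∀ (x : complementary A K B L) (b : B),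
      algebraMap A K ((e x).toLinearMap b) = Algebra.trace K L ((x : L) * algebraMap B L b) := by
  choose f hf using exists_form h
  choose g hg using exists_compl h
  have hext : ∀ φ ψ : Omega A B,
      (∀ b, algebraMap A K (φ.toLinearMap b) = algebraMap A K (ψ.toLinearMap b)) → φ = ψ :=
    fun φ ψ e => Omega.ext (LinearMap.ext fun b => algebraMap_injective h (e b))
  refine ⟨{ toFun := f
            invFun := g
            map_add' := fun x y => hext _ _ fun b => by
              simp [hf, add_mul]
            map_smul' := fun c x => hext _ _ fun b => by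
              rw [RingHom.id_apply, Omega.smul_toLinearMap_apply, hf, hf, Submodule.coe_smul,
                Algebra.smul_def, map_mul (algebraMap B L)]
              ring_nf
            left_inv := fun x => Subtype.ext (eq_of_trace_eq h fun b => by rw [← hg, hf])
            right_inv := fun φ => hext _ _ fun b => by rw [hf, ← hg] }, hf⟩

theorem one_mem_complementary_of_flat [Module.Flat A B] : (1 : L) ∈ complementary A K B L := by
  classical
  haveI := h.isNoetherianRing; haveI := h.finite; haveI := h.free; haveI := h.finiteKL
  haveI : Module.FinitePresentation A B := Module.finitePresentation_of_finite A B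
  haveI : Module.Projective A B := Module.Flat.projective_of_finitePresentation
  obtain ⟨n, p, hp⟩ := Module.Finite.exists_fin' A B
  obtain ⟨i, hi⟩ := Module.projective_lifting_property p LinearMap.id hp
  intro s
  let e : Fin n → L := fun t => algebraMap B L (p (Pi.single t 1))
  let pK : (Fin n → K) →ₗ[K] L := Fintype.linearCombination K e
  let iK : L →ₗ[K] (Fin n → K) := extend h (LinearMap.pi fun t => Algebra.linearMap A K ∘ₗ LinearMap.proj t ∘ₗ i)
  have hiK : ∀ b t, iK (algebraMap B L b) t = algebraMap A K (i b t) := fun b t => by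
    simp [iK, extend_apply]
  have hid : pK ∘ₗ iK = LinearMap.id := by
    refine hom_ext h _ _ fun b => ?_
    have hb : b = ∑ t, i b t • p (Pi.single t 1) := by
      conv_lhs => rw [show b = p (i b) from (LinearMap.congr_fun hi b).symm, pi_eq_sum_univ' (i b)]
      simp
    conv_rhs => rw [LinearMap.id_apply, hb]
    simp [pK, Fintype.linearCombination_apply, hiK, e, Algebra.smul_def,
      ← IsScalarTower.algebraMap_apply]
  let m : L →ₗ[K] L := Algebra.lmul K L (algebraMap B L s)
  have key : Algebra.trace K L (algebraMap B L s) =
      ∑ t, iK (m (pK (Pi.single t 1))) t := by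
    have h1 : LinearMap.trace K L ((m ∘ₗ pK) ∘ₗ iK) =
        LinearMap.trace K (Fin n → K) (iK ∘ₗ (m ∘ₗ pK)) :=
      LinearMap.trace_comp_comm' iK (m ∘ₗ pK)
    rw [LinearMap.comp_assoc, hid, LinearMap.comp_id] at h1
    rw [Algebra.trace_apply]
    refine h1.trans ?_
    rw [LinearMap.trace_eq_matrix_trace K (Pi.basisFun K (Fin n)), Matrix.trace]
    simp [LinearMap.toMatrix_apply]
  rw [one_mul, key]
  refine Subring.sum_mem _ fun t _ => ⟨i (s * p (Pi.single t 1)) t, ?_⟩
  simp [pK, m, e, ← hiK]

theorem dedekindDifferent_eq [Module.Finite A B] [Module.Free A B] :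
    dedekindDifferent A K B L =
      Submodule.map (Algebra.linearMap B L) (different B (Omega.trace A B)) := by
  haveI := h.isFractionRing; haveI := h.isLocalization
  have htr : ∀ b, Algebra.trace K L (algebraMap B L b) = algebraMap A K (Algebra.trace A B b) :=
    fun b => Algebra.trace_localization A (nonZeroDivisors A) b
  ext x
  simp only [Submodule.mem_map, mem_different_iff, Algebra.linearMap_apply]
  constructor
  · intro hx
    haveI : Module.Flat A B := inferInstance
    obtain ⟨b, hb⟩ := hx 1 (one_mem_complementary_of_flat h)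
    rw [mul_one] at hb
    refine ⟨b, fun φ => ?_, hb⟩
    obtain ⟨y, hy⟩ := exists_compl h φ
    obtain ⟨c, hc⟩ := hx y y.2
    refine ⟨c, Omega.ext (LinearMap.ext fun z => algebraMap_injective h ?_)⟩
    rw [Omega.smul_toLinearMap_apply, Omega.smul_toLinearMap_apply, hy,
      show ((y : L) * algebraMap B L (b * z)) = algebraMap B L (c * z) by
        rw [map_mul (algebraMap B L), mul_left_comm, ← mul_assoc, hb, ← hc, ← map_mul (algebraMap B L)],
      htr]
    rfl
  · rintro ⟨b, hb, rfl⟩ y hy
    obtain ⟨φ, hφ⟩ := exists_form h ⟨y, hy⟩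
    obtain ⟨c, hc⟩ := hb φ
    refine ⟨c, eq_of_trace_eq h fun z => ?_⟩
    have := congrArg (fun m : Omega A B => algebraMap A K (m.toLinearMap z)) hc
    simp only [Omega.smul_toLinearMap_apply] at this
    rw [hφ] at this
    rw [← map_mul (algebraMap B L), htr, show algebraMap B L b * y * algebraMap B L z =
      y * algebraMap B L (b * z) by rw [map_mul (algebraMap B L)]; ring]
    exact this

end Groth.Duality.QFDed
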