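import Groth.Agent.Duality.CurveAdjunctionNodal
import Groth.Agent.LefSections.Basic
import Groth.Agent.Curves1.RR.GenusZero
import Groth.Agent.Curves1.RR.GlobGen

/-!
# A subscheme meeting a subscheme in one reduced point with all constants evaluated bijectively
-/

set_option autoImplicit false
set_option backward.isDefEq.respectTransparency false
set_option linter.style.haveILetI false
set_option maxHeartbeats 1000000
set_option synthInstance.maxHeartbeats 400000

universe u

open CategoryTheory CategoryTheory.Limits AlgebraicGeometry TopologicalSpace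

noncomputable section

namespace Groth.Duality.CurveAdj

variable {k : Type u} [Field k] {X : Scheme.{u}} [X.Over (Spec (CommRingCat.of k))]

omit [X.Over (Spec (CommRingCat.of k))] in
/-- A closed immersion of a reduced point at which global functions evaluate bijectively induces a
bijection on global functions. -/
theorem bijective_appTop_of_point {W C : Scheme.{u}} (g : W ⟶ C) [IsClosedImmersion g]
    [IsReduced W] [Subsingleton W] (c : W)
    (hev : Function.Bijective (C.evaluation ⊤ (g c) trivial)) : Function.Bijective (g.app ⊤) := by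
  have hW : Function.Injective (W.evaluation (g ⁻¹ᵁ ⊤) c trivial) :=
    (injective_iff_map_eq_zero _).2 fun f hf => by
      rw [← AlgebraicGeometry.basicOpen_eq_bot_iff, Scheme.basicOpen_eq_bot_iff_forall_evaluation_eq_zero]
      rintro ⟨x, hx⟩
      obtain rfl := Subsingleton.elim x c
      exact hf
  have key : ∀ f, g.residueFieldMap c (C.evaluation ⊤ (g c) trivial f) =
      W.evaluation (g ⁻¹ᵁ ⊤) c trivial (g.app ⊤ f) := fun f =>
    Scheme.evaluation_naturality_apply g (V := (⊤ : C.Opens)) c trivial f
  refine ⟨(injective_iff_map_eq_zero _).2 fun f hf => hev.1 ?_, fun s => ?_⟩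
  · refine (g.residueFieldMap c).hom.injective ?_
    rw [map_zero, map_zero]
    exact (key f).trans (by rw [hf, map_zero])
  · have hsurj : Function.Surjective (g.residueFieldMap c) := fun v => by
      obtain ⟨v, rfl⟩ := W.residue_surjective c v
      obtain ⟨u, rfl⟩ := g.stalkMap_surjective c v
      exact ⟨C.residue (g c) u, congr(($(Scheme.residue_residueFieldMap g c)) u)⟩
    obtain ⟨v, hv⟩ := hsurj (W.evaluation (g ⁻¹ᵁ ⊤) c trivial s)
    obtain ⟨f, rfl⟩ := hev.2 v
    exact ⟨f, hW ((key f).symm.trans hv)⟩

/-- Hence the two have the same number of constants. -/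
theorem finrank_H0_quot_of_point {I J : X.IdealSheafData} (h : I ≤ J) [IsReduced J.subscheme]
    [Subsingleton J.subscheme] (c : J.subscheme)
    (hev : Function.Bijective
      (I.subscheme.evaluation ⊤ ((Scheme.IdealSheafData.inclusion h).base c) trivial)) :
    Module.finrank k (Coh.HH X (ClSub.quotMod I) 0) = Module.finrank k (Coh.HH X (ClSub.quotMod J) 0) := by
  let g := Scheme.IdealSheafData.inclusion h
  haveI : IsClosedImmersion g := inferInstance
  have h1 : Function.Bijective (g.app ⊤) := bijective_appTop_of_point g c hev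
  let Z := Coh.structureModule J.subscheme
  have h2 : Function.Bijective ((Lef.quotMap h).app (⊤ : X.Opens)) := by
    have e : ⇑((Lef.quotMap h).app (⊤ : X.Opens)) =
        ((Scheme.Modules.pushforwardCongr (Scheme.IdealSheafData.inclusion_subschemeι h)).hom.app Z).app ⊤ ∘
          ((Scheme.Modules.pushforwardComp g I.subschemeι).hom.app Z).app ⊤ ∘
          ((Scheme.Modules.pushforward I.subschemeι).map (ClSub.unitToPush g)).app ⊤ := rfl
    rw [e]
    refine (ConcreteCategory.bijective_of_isIso _).comp ((ConcreteCategory.bijective_of_isIso _).comp ?_)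
    exact h1
  refine (LinearEquiv.ofBijective (Groth.EulerDeg.hMap k (Lef.quotMap h) 0) ?_).finrank_eq
  have e : ⇑(Groth.EulerDeg.hMap k (Lef.quotMap h) 0) =
      (Groth.EulerDeg.h0Equiv k _).symm ∘ ((Lef.quotMap h).app (⊤ : X.Opens)) ∘
        Groth.EulerDeg.h0Equiv k _ := funext fun x => by
    rw [Function.comp_apply, Function.comp_apply, LinearEquiv.eq_symm_apply]
    exact Groth.Curves1.RR.h0Equiv_hMap k (Lef.quotMap h) x
  rw [e]
  exact (LinearEquiv.bijective _).comp (h2.comp (LinearEquiv.bijective _))

end Groth.Duality.CurveAdj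

namespace Groth.Duality.CurveAdj

open Groth.Curves1.RR.Red (sub inc subOver)

variable {k : Type u} [Field k] {X : Scheme.{u}} [X.Over (Spec (CommRingCat.of k))]
  [IsProper (X ↘ Spec (CommRingCat.of k))]

/-- For a subcurve of genus zero, `χ(O) = h⁰`, computed on the ambient scheme, and it is positive. -/
theorem euler_sub_of_h1 (hdim : topologicalKrullDim X ≤ 1) (S : Closeds X) (hne : (S : Set X).Nonempty)
    (h1 : Subsingleton (Coh.HH (sub S) (Coh.structureModule (sub S)) 1)) :
    letI := subOver (k := k) S
    Curv2.euler k (sub S) (Coh.structureModule (sub S)) =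
        Module.finrank k (Coh.HH X (ClSub.quotMod (Scheme.IdealSheafData.vanishingIdeal S)) 0) ∧
      0 < Module.finrank k (Coh.HH X (ClSub.quotMod (Scheme.IdealSheafData.vanishingIdeal S)) 0) := by
  letI := subOver (k := k) S
  haveI := Groth.Curves1.RR.Red.isProper_sub k S
  haveI := Groth.EulerDeg.isNoetherian_of_proper k (sub S)
  have hO : Coh.IsCoh (Coh.structureModule (sub S)) :=
    Groth.KTheory.LocFree.isCoh (Groth.LocFree.isFinLocFree_unit _)
  have e := Groth.Curves1.RR.Red.finrank_HH_push k S (Coh.structureModule (sub S)) hO.1 0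
  have hd : topologicalKrullDim (sub S) ≤ 1 :=
    (inc S).isClosedEmbedding.isInducing.topologicalKrullDim_le.trans hdim
  refine ⟨?_, ?_⟩
  · rw [Groth.EulerDeg.euler_eq_sub fun n hn =>
      Groth.EulerDeg.subsingleton_HH_of_dim_le_one (sub S) hd _ n hn,
      @Module.finrank_zero_of_subsingleton k (Coh.HH (sub S) (Coh.structureModule (sub S)) 1) _ _ _ _ h1]
    simp [e]
  · rw [e]
    haveI := Groth.EulerDeg.finite_HH k (sub S) hO 0
    obtain ⟨y, hy⟩ := hne
    obtain ⟨w, -⟩ := (Groth.Curves1.RR.Red.range_inc S).ge hy
    haveI : Nonempty (sub S) := ⟨w⟩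
    haveI : Nonempty (⊤ : (sub S).Opens) := ⟨⟨w, trivial⟩⟩
    haveI : Nontrivial Γ(Coh.structureModule (sub S), (⊤ : (sub S).Opens)) :=
      inferInstanceAs (Nontrivial Γ(sub S, ⊤))
    haveI := (Groth.EulerDeg.h0Equiv k (Coh.structureModule (sub S))).toEquiv.nontrivial
    exact Module.finrank_pos

end Groth.Duality.CurveAdj
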