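import Mathlib.CategoryTheory.Linear.LinearFunctor
import Mathlib.CategoryTheory.Linear.Basic
import Mathlib.CategoryTheory.Equivalence
import Mathlib.LinearAlgebra.Dual.Lemmas

set_option autoImplicit false

open CategoryTheory

universe w v u

namespace Groth.Duality.Serre

variable {k : Type w} [Field k] {T : Type u} [Category.{v} T] [Preadditive T] [Linear k T]
  [∀ X Y : T, Module.Finite k (X ⟶ Y)]

/-- Flip a perfect pairing between finite dimensional Hom spaces. -/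
noncomputable def flipPairing {A B C E : T} (c : (A ⟶ B) ≃ₗ[k] Module.Dual k (C ⟶ E)) :
    (C ⟶ E) ≃ₗ[k] Module.Dual k (A ⟶ B) :=
  (Module.evalEquiv k (C ⟶ E)).trans c.dualMap

@[simp] lemma flipPairing_apply {A B C E : T} (c : (A ⟶ B) ≃ₗ[k] Module.Dual k (C ⟶ E))
    (g : C ⟶ E) (f : A ⟶ B) : flipPairing c g f = c f g := rfl

/-- Data of representations of the functors `Y ↦ Hom(X, Y)^*`. -/
structure RepData where
  obj : T → T
  e : ∀ X Y : T, (Y ⟶ obj X) ≃ₗ[k] Module.Dual k (X ⟶ Y)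
  nat : ∀ (X Y Y' : T) (g : Y' ⟶ Y) (f : Y ⟶ obj X) (x : X ⟶ Y'),
    e X Y' (g ≫ f) x = e X Y f (x ≫ g)

namespace RepData

variable (d : RepData (k := k) (T := T))

/-- The map induced on representing objects. -/
noncomputable def map {X' X : T} (a : X' ⟶ X) : d.obj X' ⟶ d.obj X :=
  (d.e X (d.obj X')).symm ((d.e X' (d.obj X') (𝟙 _)) ∘ₗ Linear.leftComp k (d.obj X') a)

lemma e_comp_map {X' X Y : T} (a : X' ⟶ X) (g : Y ⟶ d.obj X') (f : X ⟶ Y) :
    d.e X Y (g ≫ d.map a) f = d.e X' Y g (a ≫ f) := by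
  rw [d.nat, map, LinearEquiv.apply_symm_apply]
  show d.e X' (d.obj X') (𝟙 _) (a ≫ f ≫ g) = _
  rw [← Category.assoc, ← d.nat, Category.comp_id]

lemma ext {X Y : T} {g g' : Y ⟶ d.obj X} (h : ∀ f, d.e X Y g f = d.e X Y g' f) : g = g' :=
  (d.e X Y).injective (LinearMap.ext h)

/-- The functor defined by representation data. -/
noncomputable def functor : T ⥤ T where
  obj := d.obj
  map a := d.map a
  map_id X := d.ext fun f => by
    have := d.e_comp_map (𝟙 X) (𝟙 _) f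
    simpa using this
  map_comp {X Y Z} a b := d.ext fun f => by
    rw [d.e_comp_map b (d.map a) f, ← Category.id_comp (d.map (a ≫ b)), d.e_comp_map,
      ← Category.id_comp (d.map a), d.e_comp_map]
    simp

@[simp] lemma functor_map {X Y : T} (a : X ⟶ Y) : d.functor.map a = d.map a := rfl
@[simp] lemma functor_obj (X : T) : d.functor.obj X = d.obj X := rfl

instance additive : d.functor.Additive where
  map_add {X Y a b} := d.ext fun f => by
    show d.e Y _ (d.map (a + b)) f = d.e Y _ (d.map a + d.map b) f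
    rw [map_add, LinearMap.add_apply, ← Category.id_comp (d.map (a + b)),
      ← Category.id_comp (d.map a), ← Category.id_comp (d.map b), d.e_comp_map, d.e_comp_map,
      d.e_comp_map, Preadditive.add_comp, map_add]

instance linear : d.functor.Linear k where
  map_smul {X Y} a r := d.ext fun f => by
    show d.e Y _ (d.map (r • a)) f = d.e Y _ (r • d.map a) f
    rw [map_smul, LinearMap.smul_apply, ← Category.id_comp (d.map (r • a)),
      ← Category.id_comp (d.map a), d.e_comp_map, d.e_comp_map, Linear.smul_comp, map_smul]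

/-- The Serre pairing. -/
noncomputable def c (X Y : T) : (X ⟶ Y) ≃ₗ[k] Module.Dual k (Y ⟶ d.obj X) :=
  flipPairing (d.e X Y)

lemma map_eq {X' X : T} (a : X' ⟶ X) :
    d.e X (d.obj X') (d.map a) = d.c X' X a ∘ₗ (LinearMap.id : (X ⟶ d.obj X') →ₗ[k] _) := by
  ext f
  show _ = d.e X' X f a
  rw [← Category.id_comp (d.map a), d.e_comp_map]
  simpa using (d.nat X' (d.obj X') X f (𝟙 _) a).symm

instance faithful : d.functor.Faithful where
  map_injective {X Y a b} h := by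
    apply (d.c X Y).injective
    ext f
    have := congrArg (fun g => d.e Y (d.obj X) g f) (show d.map a = d.map b from h)
    simpa [d.map_eq] using this

instance full : d.functor.Full where
  map_surjective {X Y} b := by
    obtain ⟨a, ha⟩ := (d.c X Y).surjective (d.e Y (d.obj X) b)
    exact ⟨a, d.ext fun f => by
      show d.e Y (d.obj X) (d.map a) f = d.e Y (d.obj X) b f
      rw [d.map_eq, LinearMap.comp_id, ha]⟩

lemma essSurj (hR : ∀ X : T, ∃ (RX : T) (e : ∀ Y : T, (RX ⟶ Y) ≃ₗ[k] Module.Dual k (Y ⟶ X)),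
    ∀ (Y Y' : T) (g : Y ⟶ Y') (f : RX ⟶ Y) (z : Y' ⟶ X), e Y' (f ≫ g) z = e Y f (g ≫ z)) :
    d.functor.EssSurj where
  mem_essImage X := by
    obtain ⟨R, e', he'⟩ := hR X
    let φ := flipPairing (e' (d.obj R))
    let u : d.obj R ⟶ X := (flipPairing (e' (d.obj R))).symm (d.e R (d.obj R) (𝟙 _))
    let v : X ⟶ d.obj R := (d.e R X).symm (flipPairing (e' X) (𝟙 X))
    have hu : ∀ f, e' (d.obj R) f u = d.e R (d.obj R) (𝟙 _) f := fun f => by
      rw [← flipPairing_apply (e' (d.obj R)), LinearEquiv.apply_symm_apply]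
    have hv : ∀ f, d.e R X v f = e' X f (𝟙 X) := fun f => by
      rw [LinearEquiv.apply_symm_apply, flipPairing_apply]
    refine ⟨R, ⟨⟨u, v, ?_, ?_⟩⟩⟩
    · refine d.ext fun f => ?_
      show d.e R (d.obj R) (u ≫ v) f = d.e R (d.obj R) (𝟙 _) f
      rw [d.nat, hv, he', Category.comp_id, hu]
    · refine (flipPairing (e' X)).injective (LinearMap.ext fun f => ?_)
      rw [flipPairing_apply, flipPairing_apply, ← he']
      erw [hu, ← d.nat, Category.comp_id, hv]

end RepData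

theorem iff_representable :
    (∃ (S : T ≌ T) (_ : S.functor.Additive) (_ : S.functor.Linear k)
        (c : ∀ X Y : T, (X ⟶ Y) ≃ₗ[k] Module.Dual k (Y ⟶ S.functor.obj X)),
        (∀ (X Y Y' : T) (f : X ⟶ Y) (g : Y ⟶ Y'),
          c X Y' (f ≫ g) = (c X Y f) ∘ₗ Linear.leftComp k (S.functor.obj X) g) ∧
        (∀ (X' X Y : T) (a : X' ⟶ X) (f : X ⟶ Y),
          c X' Y (a ≫ f) = (c X Y f) ∘ₗ Linear.rightComp k Y (S.functor.map a))) ↔
    ((∀ X : T, ∃ (SX : T) (e : ∀ Y : T, (Y ⟶ SX) ≃ₗ[k] Module.Dual k (X ⟶ Y)),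
        ∀ (Y Y' : T) (g : Y' ⟶ Y) (f : Y ⟶ SX),
          e Y' (g ≫ f) = (e Y f) ∘ₗ Linear.rightComp k X g) ∧
      (∀ X : T, ∃ (RX : T) (e : ∀ Y : T, (RX ⟶ Y) ≃ₗ[k] Module.Dual k (Y ⟶ X)),
        ∀ (Y Y' : T) (g : Y ⟶ Y') (f : RX ⟶ Y),
          e Y' (f ≫ g) = (e Y f) ∘ₗ Linear.leftComp k X g)) := by
  constructor
  · rintro ⟨S, _, _, c, h₁, h₂⟩
    refine ⟨fun X => ⟨S.functor.obj X, fun Y => flipPairing (c X Y), fun Y Y' g f => ?_⟩, fun X => ?_⟩
    · ext x
      show c X Y' x (g ≫ f) = c X Y (x ≫ g) f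
      rw [h₁]; rfl
    · let i := S.counitIso.app X
      refine ⟨S.inverse.obj X, fun Y =>
        (c (S.inverse.obj X) Y).trans (Linear.homCongr k (Iso.refl Y) i).symm.dualMap, fun Y Y' g f => ?_⟩
      ext z
      show c _ Y' (f ≫ g) (𝟙 Y' ≫ z ≫ i.inv) = c _ Y f (𝟙 Y ≫ (g ≫ z) ≫ i.inv)
      rw [h₁]
      simp
  · rintro ⟨hS, hR⟩
    choose obj e he using hS
    let d : RepData (k := k) (T := T) := ⟨obj, e, fun X Y Y' g f x => by rw [he]; rfl⟩
    haveI := d.essSurj fun X => by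
      obtain ⟨R, e', he'⟩ := hR X
      exact ⟨R, e', fun Y Y' g f z => by rw [he']; rfl⟩
    haveI : d.functor.IsEquivalence := { }
    refine ⟨d.functor.asEquivalence, inferInstanceAs d.functor.Additive,
      inferInstanceAs (d.functor.Linear k), d.c, fun X Y Y' f g => ?_, fun X' X Y a f => ?_⟩
    · ext h
      exact (d.nat X Y' Y g h f).symm
    · ext h
      exact (d.e_comp_map a h f).symm

theorem unique_iso
    (S S' : T ⥤ T)
    (c : ∀ X Y : T, (X ⟶ Y) ≃ₗ[k] Module.Dual k (Y ⟶ S.obj X))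
    (hc₁ : ∀ (X Y Y' : T) (f : X ⟶ Y) (g : Y ⟶ Y'),
      c X Y' (f ≫ g) = (c X Y f) ∘ₗ Linear.leftComp k (S.obj X) g)
    (hc₂ : ∀ (X' X Y : T) (a : X' ⟶ X) (f : X ⟶ Y),
      c X' Y (a ≫ f) = (c X Y f) ∘ₗ Linear.rightComp k Y (S.map a))
    (c' : ∀ X Y : T, (X ⟶ Y) ≃ₗ[k] Module.Dual k (Y ⟶ S'.obj X))
    (hc'₁ : ∀ (X Y Y' : T) (f : X ⟶ Y) (g : Y ⟶ Y'),
      c' X Y' (f ≫ g) = (c' X Y f) ∘ₗ Linear.leftComp k (S'.obj X) g)
    (hc'₂ : ∀ (X' X Y : T) (a : X' ⟶ X) (f : X ⟶ Y),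
      c' X' Y (a ≫ f) = (c' X Y f) ∘ₗ Linear.rightComp k Y (S'.map a)) :
    ∃! φ : S ≅ S', ∀ (X Y : T) (f : X ⟶ Y),
      c X Y f = (c' X Y f) ∘ₗ Linear.rightComp k Y (φ.hom.app X) := by
  have ext' : ∀ {X Y : T} {g g' : Y ⟶ S'.obj X}, (∀ f, c' X Y f g = c' X Y f g') → g = g' :=
    fun h => (flipPairing (c' _ _)).injective (LinearMap.ext h)
  have ext₀ : ∀ {X Y : T} {g g' : Y ⟶ S.obj X}, (∀ f, c X Y f g = c X Y f g') → g = g' :=
    fun h => (flipPairing (c _ _)).injective (LinearMap.ext h)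
  have n₁ : ∀ {X Y Y' : T} (f : X ⟶ Y) (g : Y ⟶ Y') (h : Y' ⟶ S.obj X),
      c X Y f (g ≫ h) = c X Y' (f ≫ g) h := fun f g h => by rw [hc₁]; rfl
  have n₁' : ∀ {X Y Y' : T} (f : X ⟶ Y) (g : Y ⟶ Y') (h : Y' ⟶ S'.obj X),
      c' X Y f (g ≫ h) = c' X Y' (f ≫ g) h := fun f g h => by rw [hc'₁]; rfl
  let p : ∀ X, S.obj X ⟶ S'.obj X := fun X =>
    (flipPairing (c' X (S.obj X))).symm (flipPairing (c X (S.obj X)) (𝟙 _))
  let q : ∀ X, S'.obj X ⟶ S.obj X := fun X =>
    (flipPairing (c X (S'.obj X))).symm (flipPairing (c' X (S'.obj X)) (𝟙 _))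
  have hp : ∀ {X Y : T} (f : X ⟶ Y) (g : Y ⟶ S.obj X), c' X Y f (g ≫ p X) = c X Y f g := by
    intro X Y f g
    rw [n₁', ← flipPairing_apply (c' X (S.obj X)), LinearEquiv.apply_symm_apply, flipPairing_apply,
      ← n₁, Category.comp_id]
  have hq : ∀ {X Y : T} (f : X ⟶ Y) (g : Y ⟶ S'.obj X), c X Y f (g ≫ q X) = c' X Y f g := by
    intro X Y f g
    rw [n₁, ← flipPairing_apply (c X (S'.obj X)), LinearEquiv.apply_symm_apply, flipPairing_apply,
      ← n₁', Category.comp_id]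
  let i : ∀ X, S.obj X ≅ S'.obj X := fun X =>
    { hom := p X
      inv := q X
      hom_inv_id := ext₀ fun f => by
        rw [hq]; conv_lhs => rw [← Category.id_comp (p X), hp]
      inv_hom_id := ext' fun f => by
        rw [hp]; conv_lhs => rw [← Category.id_comp (q X), hq] }
  have hnat : ∀ {X' X : T} (a : X' ⟶ X), S.map a ≫ p X = p X' ≫ S'.map a := by
    intro X' X a
    refine ext' fun f => ?_
    have h := congrArg (fun m => m (p X')) (hc'₂ X' X _ a f)
    have h2 := congrArg (fun m => m (𝟙 (S.obj X'))) (hc₂ X' X _ a f)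
    simp only [LinearMap.coe_comp, Function.comp_apply] at h h2
    change _ = c' X (S.obj X') f (p X' ≫ S'.map a) at h
    change _ = c X (S.obj X') f (𝟙 _ ≫ S.map a) at h2
    rw [Category.id_comp] at h2
    rw [← h, hp, ← h2, ← hp, Category.id_comp]
  refine ⟨NatIso.ofComponents i fun a => hnat a, fun X Y f => ?_, fun ψ hψ => ?_⟩
  · ext g
    exact (hp f g).symm
  · ext X
    refine ext' fun f => ?_
    have := congrArg (fun m => m (𝟙 (S.obj X))) (hψ X _ f)
    simp only [LinearMap.coe_comp, Function.comp_apply] at this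
    change _ = c' X _ f (𝟙 _ ≫ ψ.hom.app X) at this
    rw [Category.id_comp] at this
    rw [← this, ← hp, Category.id_comp]
    rfl

end Groth.Duality.Serre
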