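import Groth.Agent.Duality.ExtShShift
import Groth.Agent.Duality.ExtShift
import Groth.Agent.KTheory.LocFree
import Mathlib.Algebra.Category.ModuleCat.Projective
import Mathlib.Algebra.Category.ModuleCat.Ext.HasExt

/-!
A stalk of an Ext sheaf vanishes exactly when the Ext group of the stalks vanishes.
-/

set_option autoImplicit false
set_option backward.isDefEq.respectTransparency false
set_option linter.style.haveILetI false

universe u

open CategoryTheory CategoryTheory.Limits AlgebraicGeometry

noncomputable section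

namespace Groth.Duality.SheafExtStalk

variable {X : Scheme.{u}}

theorem subsingleton_stalk_congr {A B : X.Modules} (e : A ≅ B) (x : X) :
    Subsingleton (A.presheaf.stalk x) ↔ Subsingleton (B.presheaf.stalk x) :=
  ((QCohMod.stalk x).mapIso e).addCommGroupIsoToAddEquiv.toEquiv.subsingleton_congr

theorem subsingleton_stalk_cokernel_iff {M N : X.Modules} (φ : M ⟶ N) (x : X) :
    Subsingleton ((cokernel φ).presheaf.stalk x) ↔
      Function.Surjective (RefHull.stalkMapₗ φ x) := by
  constructor
  · intro h
    have h0 : IsZero ((QCohMod.stalk x).obj (cokernel φ)) :=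
      haveI : Subsingleton ((QCohMod.stalk x).obj (cokernel φ) : AddCommGrpCat.{u}) := h
      AddCommGrpCat.isZero_of_subsingleton _
    exact (AddCommGrpCat.epi_iff_surjective ((QCohMod.stalk x).map φ)).1
      (Preadditive.epi_of_cokernel_zero
        ((h0.of_iso (PreservesCokernel.iso (QCohMod.stalk x) φ).symm).eq_of_tgt _ _))
  · intro h
    refine subsingleton_of_forall_eq 0 fun c => ?_
    obtain ⟨v, rfl⟩ := ((QCohMod.epi_iff_stalk (cokernel.π φ)).mp inferInstance x) c
    obtain ⟨w, rfl⟩ := h v
    change RefHull.stalkMapₗ (cokernel.π φ) x (RefHull.stalkMapₗ φ x w) = 0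
    rw [← StalkHom.stalkMapₗ_comp_apply, cokernel.condition, StalkHom.stalkMapₗ_zero]

/-- `Ext^i` of the stalks vanishes. -/
def ExtStalkZero (F G : X.Modules) (i : ℕ) (x : X) : Prop :=
  Subsingleton (Abelian.Ext.{u}
    (ModuleCat.of (X.presheaf.stalk x) (F.presheaf.stalk x))
    (ModuleCat.of (X.presheaf.stalk x) (G.presheaf.stalk x)) i)

theorem extStalkZero_zero_iff (F G : X.Modules) (x : X) :
    ExtStalkZero F G 0 x ↔ Subsingleton (RefHull.StalkHom F G x) :=
  (subsingleton_ext_zero_iff _ _).trans
    ⟨fun h => subsingleton_of_forall_eq 0 fun φ =>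
      congrArg ModuleCat.Hom.hom (h (ModuleCat.ofHom φ)),
    fun h φ => ModuleCat.hom_ext (h.elim _ _)⟩

variable {S : ShortComplex X.Modules} (hS : S.ShortExact) (h₂ : FlatMod.IsFinLocFree S.X₂)

include hS h₂

theorem projective_stalkSC (x : X) : Projective (StalkHom.stalkSC S x).X₂ := by
  have := KTheory.LocFree.free_stalk h₂ x
  have : Module.Projective (X.presheaf.stalk x) (S.X₂.presheaf.stalk x) :=
    Module.Projective.of_free
  exact inferInstanceAs (Projective (ModuleCat.of (X.presheaf.stalk x) (S.X₂.presheaf.stalk x)))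

theorem extStalkZero_succ_iff (G : X.Modules) (i : ℕ) (x : X) :
    ExtStalkZero S.X₃ G (i + 2) x ↔ ExtStalkZero S.X₁ G (i + 1) x := by
  have := projective_stalkSC hS h₂ x
  exact subsingleton_ext_succ_iff (StalkHom.shortExact_stalkSC hS x) _ i
    (Abelian.Ext.subsingleton_of_projective _ _ _) (Abelian.Ext.subsingleton_of_projective _ _ _)

theorem extStalkZero_one_iff (G : X.Modules) (x : X) :
    ExtStalkZero S.X₃ G 1 x ↔ StalkHom.ExtendsAt S G x := by
  have := projective_stalkSC hS h₂ x
  refine (subsingleton_ext_one_iff (StalkHom.shortExact_stalkSC hS x) _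
    (Abelian.Ext.subsingleton_of_projective _ _ _)).trans ⟨fun h ψ => ?_, fun h φ => ?_⟩
  · obtain ⟨a, ha⟩ := h (ModuleCat.ofHom ψ)
    exact ⟨a.hom, congrArg ModuleCat.Hom.hom ha⟩
  · obtain ⟨a, ha⟩ := h φ.hom
    exact ⟨ModuleCat.ofHom a, ModuleCat.hom_ext ha⟩

omit hS h₂

variable (X) in
/-- Every coherent module is a quotient of a finite locally free one, with coherent kernel. -/
def HasLocFreeCovers : Prop :=
  ∀ F : X.Modules, Coh.IsCoh F → ∃ S : ShortComplex X.Modules,
    S.ShortExact ∧ S.X₃ = F ∧ FlatMod.IsFinLocFree S.X₂ ∧ Coh.IsCoh S.X₁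

/-- The Ext sheaf, in `X.Modules`. -/
abbrev extS [HasInjectiveResolutions (ModSite.Mod X.sheaf)] (F : X.Modules)
    [ModSite.HasSheafHom (O := X.sheaf) F] (i : ℕ) (G : X.Modules) : X.Modules :=
  (ModSite.extSh (O := X.sheaf) F i).obj G

/-- The stalk of an Ext sheaf vanishes exactly when `Ext` of the stalks vanishes. -/
theorem subsingleton_stalk_extSh_iff [IsLocallyNoetherian X] (hres : HasLocFreeCovers X)
    [HasInjectiveResolutions (ModSite.Mod X.sheaf)] (G : X.Modules) (i : ℕ) :
    ∀ (F : X.Modules), Coh.IsCoh F → ∀ [ModSite.HasSheafHom (O := X.sheaf) F] (x : X),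
      (Subsingleton ((extS F i G).presheaf.stalk x) ↔
        ExtStalkZero F G i x) := by
  induction i with
  | zero =>
    intro F hF _ x
    obtain ⟨e⟩ := ExtShShift.nonempty_extSh_zero F G
    exact (subsingleton_stalk_congr e x).trans
      ((Equiv.ofBijective _
        (VectorBundles.RefHullStalk.evalStalk_bijective_of_isCoh F G hF x)).subsingleton_congr.trans
        (extStalkZero_zero_iff F G x).symm)
  | succ j ih =>
    intro F hF _ x
    obtain ⟨S, hS, rfl, h₂, hK⟩ := hres F hF
    haveI := SitesTopoi.ModH.hasSheafHom (O := X.sheaf) S.X₁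
    rcases j with _ | j
    · obtain ⟨e⟩ := ExtShShift.nonempty_extSh_one hS h₂ G
      exact (subsingleton_stalk_congr e x).trans ((subsingleton_stalk_cokernel_iff _ x).trans
        ((StalkHom.extendsAt_iff_surjective hK (KTheory.LocFree.isCoh h₂) G x).symm.trans
          (extStalkZero_one_iff hS h₂ G x).symm))
    · obtain ⟨e⟩ := ExtShShift.nonempty_extSh_shift hS h₂ j G
      exact (subsingleton_stalk_congr e x).trans
        ((ih S.X₁ hK x).trans (extStalkZero_succ_iff hS h₂ G j x).symm)

/-- An Ext sheaf vanishes exactly when all `Ext` groups of stalks vanish. -/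
theorem isZero_extSh_iff [IsLocallyNoetherian X] (hres : HasLocFreeCovers X)
    [HasInjectiveResolutions (ModSite.Mod X.sheaf)] (F G : X.Modules) (hF : Coh.IsCoh F)
    [ModSite.HasSheafHom (O := X.sheaf) F] (i : ℕ) :
    IsZero ((ModSite.extSh (O := X.sheaf) F i).obj G) ↔ ∀ x : X, ExtStalkZero F G i x := by
  refine (QCohMod.isZero_iff_stalk (X := X) _).trans (forall_congr' fun x => ?_)
  refine Iff.trans ?_ (subsingleton_stalk_extSh_iff hres G i F hF x)
  exact ⟨fun h => AddCommGrpCat.subsingleton_of_isZero h,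
    fun h => haveI : Subsingleton ((QCohMod.stalk x).obj (extS F i G) : AddCommGrpCat.{u}) := h
      AddCommGrpCat.isZero_of_subsingleton _⟩

end Groth.Duality.SheafExtStalk
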