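import Groth.Agent.Duality.SheafExtStalk
import Groth.Agent.Duality.LinearAux
import Mathlib.Algebra.Category.ModuleCat.Algebra

/-!
# The stalk of an Ext sheaf is `Ext` of the stalks, linearly
-/

set_option autoImplicit false
set_option backward.isDefEq.respectTransparency false
set_option linter.style.haveILetI false
set_option maxHeartbeats 1000000

universe u

open CategoryTheory CategoryTheory.Limits AlgebraicGeometry

noncomputable section

namespace Groth.Duality.StalkExt

open Groth.Duality.SheafExtStalk (HasLocFreeCovers extS projective_stalkSC)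

variable {X : Scheme.{u}}

/-- The stalk, as an object of the category of modules over the local ring. -/
abbrev stalkObj (F : X.Modules) (x : X) : ModuleCat.{u} (X.presheaf.stalk x) :=
  ModuleCat.of (X.presheaf.stalk x) (F.presheaf.stalk x)

/-- Stalks of isomorphic modules. -/
def stalkEquiv {A B : X.Modules} (e : A ≅ B) (x : X) :
    A.presheaf.stalk x ≃ₗ[X.presheaf.stalk x] B.presheaf.stalk x :=
  LinearEquiv.ofLinearMap (RefHull.stalkMapₗ e.hom x) (RefHull.stalkMapₗ e.inv x)
    (LinearMap.ext fun v => by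
      change RefHull.stalkMapₗ e.hom x (RefHull.stalkMapₗ e.inv x v) = v
      rw [← StalkHom.stalkMapₗ_comp_apply, e.inv_hom_id]
      obtain ⟨U, hx, m, rfl⟩ := QCohMod.exists_germ B x v
      rw [RefHull.stalkMapₗ_germ]
      rfl)
    (LinearMap.ext fun v => by
      change RefHull.stalkMapₗ e.inv x (RefHull.stalkMapₗ e.hom x v) = v
      rw [← StalkHom.stalkMapₗ_comp_apply, e.hom_inv_id]
      obtain ⟨U, hx, m, rfl⟩ := QCohMod.exists_germ A x v
      rw [RefHull.stalkMapₗ_germ]
      rfl)

/-- `Ext^0` of the stalks. -/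
def homExtEquiv (F G : X.Modules) (x : X) :
    RefHull.StalkHom F G x ≃ₗ[X.presheaf.stalk x]
      Abelian.Ext.{u} (stalkObj F x) (stalkObj G x) 0 :=
  ((Abelian.Ext.linearEquiv₀ (R := X.presheaf.stalk x)).trans
    (ModuleCat.homLinearEquiv (S := X.presheaf.stalk x) (M := stalkObj F x)
      (N := stalkObj G x))).symm

theorem homExtEquiv_apply (F G : X.Modules) (x : X) (ψ : RefHull.StalkHom F G x) :
    homExtEquiv F G x ψ = Abelian.Ext.mk₀ (ModuleCat.ofHom ψ) := rfl

section Shift

variable {S : ShortComplex X.Modules} (hS : S.ShortExact) (G : X.Modules) (x : X)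

/-- The connecting map of the stalks. -/
def conn {i j : ℕ} (h : 1 + i = j) :
    Abelian.Ext.{u} (stalkObj S.X₁ x) (stalkObj G x) i →ₗ[X.presheaf.stalk x]
      Abelian.Ext.{u} (stalkObj S.X₃ x) (stalkObj G x) j where
  toFun β := (StalkHom.shortExact_stalkSC hS x).extClass.comp β h
  map_add' := by simp
  map_smul' r β := Abelian.Ext.comp_smul (StalkHom.shortExact_stalkSC hS x).extClass β h r

variable (h₂ : FlatMod.IsFinLocFree S.X₂)

include h₂

theorem conn_surjective {i : ℕ} :
    Function.Surjective (conn hS G x (show 1 + i = i + 1 by omega)) := fun y => by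
  have := projective_stalkSC hS h₂ x
  exact Abelian.Ext.contravariant_sequence_exact₃ (StalkHom.shortExact_stalkSC hS x) _ y
    ((Abelian.Ext.subsingleton_of_projective _ _ _).elim _ _) (by omega)

theorem conn_injective {i : ℕ} :
    Function.Injective (conn hS G x (show 1 + (i + 1) = i + 2 by omega)) := by
  have := projective_stalkSC hS h₂ x
  refine (injective_iff_map_eq_zero _).mpr fun y hy => ?_
  obtain ⟨z, rfl⟩ := Abelian.Ext.contravariant_sequence_exact₁ (StalkHom.shortExact_stalkSC hS x) _ y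
    (by omega) hy
  rw [(Abelian.Ext.subsingleton_of_projective _ _ _).elim z 0]
  exact Abelian.Ext.comp_zero _ _ _ _ _

omit h₂ in
theorem conn_eq_zero_iff (ψ : RefHull.StalkHom S.X₁ G x) :
    conn hS G x (show 1 + 0 = 0 + 1 by omega) (homExtEquiv S.X₁ G x ψ) = 0 ↔
      ∃ a : RefHull.StalkHom S.X₂ G x, a ∘ₗ RefHull.stalkMapₗ S.f x = ψ := by
  constructor
  · intro h
    obtain ⟨y, hy⟩ := Abelian.Ext.contravariant_sequence_exact₁ (StalkHom.shortExact_stalkSC hS x) _
      (homExtEquiv S.X₁ G x ψ) (by omega) h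
    obtain ⟨a, rfl⟩ := (Abelian.Ext.mk₀_bijective _ _).2 y
    rw [homExtEquiv_apply, Abelian.Ext.mk₀_comp_mk₀] at hy
    exact ⟨a.hom, congrArg ModuleCat.Hom.hom ((Abelian.Ext.mk₀_bijective _ _).1 hy)⟩
  · rintro ⟨a, rfl⟩
    have e : homExtEquiv S.X₁ G x (a ∘ₗ RefHull.stalkMapₗ S.f x) =
        (Abelian.Ext.mk₀ (StalkHom.stalkSC S x).f).comp
          (Abelian.Ext.mk₀ (ModuleCat.ofHom a)) (zero_add 0) := by
      rw [homExtEquiv_apply, Abelian.Ext.mk₀_comp_mk₀]
      rfl
    rw [e]
    exact (StalkHom.shortExact_stalkSC hS x).extClass_comp_assoc _ (h := by omega)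

end Shift

/-- The stalk of an Ext sheaf is `Ext` of the stalks. -/
theorem nonempty_stalk_extSh [IsLocallyNoetherian X] (hres : HasLocFreeCovers X)
    [HasInjectiveResolutions (ModSite.Mod X.sheaf)] (G : X.Modules) (i : ℕ) :
    ∀ (F : X.Modules), Coh.IsCoh F → ∀ [ModSite.HasSheafHom (O := X.sheaf) F] (x : X),
      Nonempty ((extS F i G).presheaf.stalk x ≃ₗ[X.presheaf.stalk x]
        Abelian.Ext.{u} (stalkObj F x) (stalkObj G x) i) := by
  induction i with
  | zero =>
    intro F hF _ x
    obtain ⟨e⟩ := ExtShShift.nonempty_extSh_zero F G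
    exact ⟨stalkEquiv e x ≪≫ₗ LinearEquiv.ofBijective (RefHull.evalStalk F G x)
      (VectorBundles.RefHullStalk.evalStalk_bijective_of_isCoh F G hF x) ≪≫ₗ homExtEquiv F G x⟩
  | succ j ih =>
    intro F hF _ x
    obtain ⟨S, hS, rfl, h₂, hK⟩ := hres F hF
    haveI := SitesTopoi.ModH.hasSheafHom (O := X.sheaf) S.X₁
    rcases j with _ | j
    · obtain ⟨e⟩ := ExtShShift.nonempty_extSh_one hS h₂ G
      let p : (RefHull.homSh S.X₁ G).presheaf.stalk x →ₗ[X.presheaf.stalk x]
          (cokernel (StalkHom.pre G S.f)).presheaf.stalk x :=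
        RefHull.stalkMapₗ (cokernel.π (StalkHom.pre G S.f)) x
      let q : (RefHull.homSh S.X₁ G).presheaf.stalk x →ₗ[X.presheaf.stalk x]
          Abelian.Ext.{u} (stalkObj S.X₃ x) (stalkObj G x) (0 + 1) :=
        (conn hS G x (show 1 + 0 = 0 + 1 by omega)).comp
          ((homExtEquiv S.X₁ G x).toLinearMap.comp (RefHull.evalStalk S.X₁ G x))
      have b₁ := VectorBundles.RefHullStalk.evalStalk_bijective_of_isCoh S.X₁ G hK x
      have b₂ := VectorBundles.RefHullStalk.evalStalk_bijective_of_isCoh S.X₂ G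
        (KTheory.LocFree.isCoh h₂) x
      have hex := (QCohMod.exact_iff_stalk (ShortComplex.mk (StalkHom.pre G S.f)
        (cokernel.π (StalkHom.pre G S.f)) (cokernel.condition _))).mp
          (ShortComplex.exact_of_g_is_cokernel _ (cokernelIsCokernel _)) x
      rw [ShortComplex.ab_exact_iff_function_exact] at hex
      obtain ⟨e'⟩ := nonempty_linearEquiv_of_ker_eq p q
        ((QCohMod.epi_iff_stalk (cokernel.π (StalkHom.pre G S.f))).mp inferInstance x)
        ((conn_surjective hS G x h₂).comp ((homExtEquiv S.X₁ G x).surjective.comp b₁.2))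
        (fun v => by
          refine Iff.trans (hex v) (Iff.trans ?_ (conn_eq_zero_iff hS G x _).symm)
          constructor
          · rintro ⟨w, rfl⟩
            exact ⟨RefHull.evalStalk S.X₂ G x w, (StalkHom.evalStalk_pre G S.f x w).symm⟩
          · rintro ⟨a, ha⟩
            obtain ⟨w, rfl⟩ := b₂.2 a
            exact ⟨w, b₁.1 ((StalkHom.evalStalk_pre G S.f x w).trans ha)⟩)
      exact ⟨stalkEquiv e x ≪≫ₗ e'⟩
    · obtain ⟨e⟩ := ExtShShift.nonempty_extSh_shift hS h₂ j G
      obtain ⟨e'⟩ := ih S.X₁ hK x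
      exact ⟨stalkEquiv e x ≪≫ₗ e' ≪≫ₗ LinearEquiv.ofBijective _
        ⟨conn_injective hS G x h₂, conn_surjective hS G x h₂⟩⟩

end Groth.Duality.StalkExt
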