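import Groth.Agent.Duality.WedgePairingAlg
import Groth.Agent.KTheory.ExtFiltSheaf
import Groth.Agent.CohTwo.LocFreeDual
import Groth.Agent.LocFree.AffineHom
import Groth.Agent.LocFree.Rank

/-!
# `Hom(⋀ᵖ E, ⋀ⁿ E) ≅ ⋀^q E` for `E` locally free of rank `n = p + q`
-/

set_option autoImplicit false
universe u

open CategoryTheory CategoryTheory.Limits AlgebraicGeometry TopologicalSpace

noncomputable section

namespace Groth.Duality.WedgePairing

open Groth.KTheory.ExtFilt Groth.LocFree Groth.PicAux
open Groth.CohTwo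
open Groth.QCohMod (appₗ)

variable {X : Scheme.{u}} {E : X.Modules} {p q n : ℕ}

/-- The value of a curried morphism. -/
theorem secToLin_toHomSh {F H G : X.Modules} (β : CohB1.tensorMod F H ⟶ G) (U : X.Opens) (a : Γ(H, U))
    (m : Γ(F, U)) :
    RefRank.secToLin ((SheafHomIso.toHomSh β).app U a) m = β.app U (tmulSec m a) := by
  refine RefRank.mod_section_ext G fun x hx => ?_
  rw [RefRank.germ_secToLin, SheafHomIso.toHomSh_app, SheafHomIso.currySec_val,
    SheafHomIso.curryStalk_germ]

/-- The exterior product pairing is perfect. -/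
theorem nonempty_sheafHom_top_iso (hE : FlatMod.IsFinLocFreeOfRank n E) (h : p + q = n)
    [DCoh.HasSheafHom (extPow p E)] :
    Nonempty ((DCoh.sheafHom (extPow p E)).obj (extPow n E) ≅ extPow q E) := by
  haveI := KTheory.LocFree.isQCoh (isFinLocFree_of_rank hE)
  haveI := isQCoh_extPow p E
  obtain ⟨φ, hφ⟩ := exists_phi (A := E) (B := E) (𝟙 E) h
  have : IsIso (SheafHomIso.toHomSh φ) := by
    refine isIso_of_small_affine _ fun x W hxW => ?_
    obtain ⟨U, s, hxU, hs⟩ := isFinLocFreeOfRank_iff.1 hE x
    obtain ⟨_, ⟨V, hV, rfl⟩, hxV, hVW⟩ :=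
      X.isBasis_affineOpens.exists_subset_of_mem_open (show x ∈ W ⊓ U from ⟨hxW, hxU⟩) (W ⊓ U).2
    refine ⟨V, hV, hxV, fun y hy => (hVW hy).1, ?_⟩
    have hVU : V ≤ U := fun y hy => (hVW hy).2
    let b : Module.Basis (Fin n) Γ(X, V) Γ(E, V) :=
      Module.Basis.ofEquivFun (LinearEquiv.ofBijective
        (Fintype.linearCombination Γ(X, V) fun i => QCohMod.res E hVU (s i))
        (by
          convert hs V hVU using 1
          funext r
          exact Fintype.linearCombination_apply _ _ _)).symm
    let mul := TensorProduct.curry (mu (appₗ (𝟙 E) V) h)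
    have hP := bijective_pairing b h mul fun u v => by
      refine (mu_wedge (appₗ (𝟙 E) V) h u v).trans ?_
      rfl
    let sec := fun g : Γ(RefHull.homSh (extPow p E) (extPow n E), V) =>
      (extEquiv n E hV).symm.toLinearMap.comp ((RefRank.secToLin g).comp (extEquiv p E hV).toLinearMap)
    have hsec : Function.Injective sec := fun g g' e => RefRank.secToLin_injective hV <| LinearMap.ext fun m => by
      obtain ⟨m, rfl⟩ := (extEquiv p E hV).surjective m
      exact (extEquiv n E hV).symm.injective congr($e m)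
    have key : ∀ a, sec ((SheafHomIso.toHomSh φ).app V (extEquiv q E hV a)) = mul.flip a := fun a =>
      LinearMap.ext fun m => by
        change (extEquiv n E hV).symm (RefRank.secToLin _ (extEquiv p E hV m)) = _
        rw [secToLin_toHomSh, LinearEquiv.symm_apply_eq]
        exact hφ V hV (m ⊗ₜ a)
    refine ⟨fun a a' e => ?_, fun g => ?_⟩
    · obtain ⟨a, rfl⟩ := (extEquiv q E hV).surjective a
      obtain ⟨a', rfl⟩ := (extEquiv q E hV).surjective a'
      exact congrArg _ (hP.1 ((key a).symm.trans ((congrArg sec e).trans (key a'))))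
    · obtain ⟨a, ha⟩ := hP.2 (sec g)
      exact ⟨extEquiv q E hV a, hsec ((key a).trans ha)⟩
  exact ⟨SheafHomIso.iso (extPow p E) (extPow n E) ≪≫ (asIso (SheafHomIso.toHomSh φ)).symm⟩

end Groth.Duality.WedgePairing
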