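import Mathlib.LinearAlgebra.ExteriorPower.Basis
import Mathlib.LinearAlgebra.Determinant

set_option autoImplicit false
universe u

open exteriorPower Module

noncomputable section

namespace Groth.Duality.WedgePairing

variable {R M : Type u} [CommRing R] [AddCommGroup M] [Module R M] {p q n : ℕ}
  (b : Basis (Fin n) R M)

/-- The coordinate of the top exterior power. -/
def detL : (⋀[R]^n M) →ₗ[R] R := alternatingMapLinearEquiv b.det

theorem detL_wedge (v : Fin n → M) : detL b (ιMulti R n v) = b.det v :=
  alternatingMapLinearEquiv_apply_ιMulti _ v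

theorem detL_top : detL b (ιMulti R n b) = 1 := by rw [detL_wedge, Basis.det_self]

theorem smul_top (x : ⋀[R]^n M) : detL b x • ιMulti R n b = x := by
  have key : (LinearMap.toSpanSingleton R _ (ιMulti R n b)).compAlternatingMap b.det =
      ιMulti R n (M := M) := by
    refine Basis.ext_alternating b fun i hi => ?_
    let σ : Equiv.Perm (Fin n) := Equiv.ofBijective i (Finite.injective_iff_bijective.1 hi)
    change b.det (b ∘ σ) • ιMulti R n b = ιMulti R n (b ∘ σ)
    rw [AlternatingMap.map_perm, AlternatingMap.map_perm, Basis.det_self]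
    rcases Int.units_eq_one_or (Equiv.Perm.sign σ) with h' | h'
    · simp [h']
    · simp [h', Units.smul_def]
      exact neg_one_smul R (ιMulti R n b)
  have : (LinearMap.toSpanSingleton R _ (ιMulti R n b)).comp (detL b) = LinearMap.id := by
    refine exteriorPower.linearMap_ext ?_
    ext v : 1
    simpa [detL_wedge] using congr($key v)
  exact congr($this x)

variable (h : p + q = n) (mul : (⋀[R]^p M) →ₗ[R] (⋀[R]^q M) →ₗ[R] ⋀[R]^n M)
  (hmul : ∀ u v, mul (ιMulti R p u) (ιMulti R q v) = ιMulti R n (Fin.append u v ∘ Fin.cast h.symm))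

/-- The complementary index. -/
def compl : Set.powersetCard (Fin n) q ≃ Set.powersetCard (Fin n) p :=
  Set.powersetCard.compl (by simp; omega)

include hmul in
theorem mul_basis (t : Set.powersetCard (Fin n) q) (s : Set.powersetCard (Fin n) p) :
    (s ≠ compl h t → detL b (mul (b.exteriorPower p s) (b.exteriorPower q t)) = 0) ∧
    (s = compl h t → IsUnit (detL b (mul (b.exteriorPower p s) (b.exteriorPower q t)))) := by
  set a := Set.powersetCard.ofFinEmbEquiv.symm s
  set c := Set.powersetCard.ofFinEmbEquiv.symm t
  set w : Fin n → Fin n := Fin.append a c ∘ Fin.cast h.symm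
  have e : detL b (mul (b.exteriorPower p s) (b.exteriorPower q t)) = b.det (b ∘ w) := by
    rw [basis_apply, basis_apply, ιMulti_family, ιMulti_family, hmul, detL_wedge]
    congr 1
    funext i
    simp only [w, Function.comp_apply]
    refine Fin.addCases (fun j => ?_) (fun j => ?_) (Fin.cast h.symm i) <;> simp [a, c]
  have ha : ∀ x, x ∈ Set.range a ↔ x ∈ s := Set.powersetCard.mem_range_ofFinEmbEquiv_symm_iff_mem s
  have hc : ∀ x, x ∈ Set.range c ↔ x ∈ t := Set.powersetCard.mem_range_ofFinEmbEquiv_symm_iff_mem t
  have hrange : Function.Injective w ↔ s = compl h t := by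
    have h1 : Function.Injective w ↔ ∀ i j, a i ≠ c j := by
      refine ((Function.Injective.of_comp_iff' (Fin.append a c) (finCongr h.symm).bijective).trans
        Fin.append_injective_iff).trans ?_
      exact ⟨fun H => H.2.2, fun H => ⟨a.injective, c.injective, H⟩⟩
    have h2 : (∀ i j, a i ≠ c j) ↔ ∀ x ∈ s, x ∉ t := by
      constructor
      · intro H x hx hx'
        obtain ⟨i, rfl⟩ := (ha x).2 hx
        obtain ⟨j, hj⟩ := (hc _).2 hx'
        exact H i j hj.symm
      · exact fun H i j hij => H _ ((ha _).1 ⟨i, rfl⟩) ((hc _).1 ⟨j, hij.symm⟩)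
    rw [h1, h2]
    constructor
    · intro H
      refine Subtype.ext (Finset.eq_of_subset_of_card_le (fun x hx => ?_) ?_)
      · simpa [compl, Set.powersetCard.compl, ← Set.powersetCard.mem_coe_iff] using H x hx
      · rw [(compl h t).2, s.2]
    · rintro rfl x hx
      simpa [compl, Set.powersetCard.compl, ← Set.powersetCard.mem_coe_iff] using hx
  refine ⟨fun hs => ?_, fun hs => ?_⟩
  · rw [e]
    obtain ⟨i, j, hij, hne⟩ := Function.not_injective_iff.1 (mt hrange.1 hs)
    exact b.det.map_eq_zero_of_eq _ (congrArg b hij) hne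
  · rw [e]
    let σ : Equiv.Perm (Fin n) := Equiv.ofBijective w (Finite.injective_iff_bijective.1 (hrange.2 hs))
    change IsUnit (b.det (b ∘ σ))
    rw [AlternatingMap.map_perm, Basis.det_self]
    rcases Int.units_eq_one_or (Equiv.Perm.sign σ) with h' | h' <;> simp [h']

include h hmul b in
/-- Multiplication into the top exterior power is a perfect pairing. -/
theorem bijective_pairing : Function.Bijective mul.flip := by
  classical
  let B := b.exteriorPower q
  let C := b.exteriorPower p
  have hu : ∀ t, IsUnit (detL b (mul (C (compl h t)) (B t))) := fun t => (mul_basis b h mul hmul t _).2 rfl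
  have hz : ∀ t t', t' ≠ t → detL b (mul (C (compl h t)) (B t')) = 0 := fun t t' hne =>
    (mul_basis b h mul hmul t' _).1 fun e => hne ((compl h).injective e).symm
  have key : ∀ (a : ⋀[R]^q M) t, detL b (mul (C (compl h t)) a) =
      B.repr a t * detL b (mul (C (compl h t)) (B t)) := fun a t => by
    conv_lhs => rw [← B.sum_repr a]
    rw [map_sum, map_sum, Finset.sum_eq_single t]
    · simp
    · intro t' _ hne
      simp [hz t t' hne]
    · simp
  constructor
  · intro a a' e
    refine B.repr.injective (Finsupp.ext fun t => (hu t).mul_right_cancel ?_)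
    rw [← key, ← key]
    exact congrArg (detL b) congr($e (C (compl h t)))
  · intro f
    refine ⟨B.equivFun.symm fun t => detL b (f (C (compl h t))) * (hu t).unit⁻¹, ?_⟩
    refine C.ext fun s => ?_
    obtain ⟨t, rfl⟩ := (compl h).surjective s
    rw [LinearMap.flip_apply, ← smul_top b (mul _ _), ← smul_top b (f _), key,
      ← Basis.equivFun_apply, LinearEquiv.apply_symm_apply, mul_assoc, IsUnit.val_inv_mul, mul_one]

end Groth.Duality.WedgePairing
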